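import Mathlib.GroupTheory.Index
import Mathlib.GroupTheory.OrderOfElement
import Mathlib.GroupTheory.Subgroup.Centralizer
import Mathlib.Tactic.Group

/-!
# Conjugacy in a coset of coprime order

If `g` normalises the finite subgroup `H` and its order is coprime to that of `H`, every element of the
coset `H g` is conjugate under `H` to `c * g` with `c ∈ H` commuting with `g`.
-/

set_option autoImplicit false

namespace CfsgLib.OddOrderChar

variable {G : Type*} [Group G]

/-- Splitting a product of two commuting elements of coprime orders. -/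
theorem exists_pow_extract {m n : ℕ} (h : Nat.Coprime m n) :
    ∃ k : ℕ, ∀ (G : Type*) [Group G] (a u : G), Commute a u → a ^ m = 1 → u ^ n = 1 →
      (a * u) ^ k = a := by
  obtain ⟨k, hk1, hk2⟩ := Nat.chineseRemainder h 1 0
  refine ⟨k, fun G _ a u hau ha hu => ?_⟩
  rw [hau.mul_pow]
  have h1 : a ^ k = a := by
    have : a ^ k = a ^ 1 := by
      rw [pow_eq_pow_iff_modEq]
      exact Nat.ModEq.of_dvd (orderOf_dvd_of_pow_eq_one ha) hk1
    simpa using this
  have h2 : u ^ k = 1 := by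
    have : u ^ k = u ^ 0 := by
      rw [pow_eq_pow_iff_modEq]
      exact Nat.ModEq.of_dvd (orderOf_dvd_of_pow_eq_one hu) hk2
    simpa using this
  rw [h1, h2, mul_one]

/-- The coprime coset lemma: every element of `H g` is `H`-conjugate into `C_H(g) g`. -/
theorem exists_conj_coset_fixed [Finite G] (H : Subgroup G) (g : G)
    (hg : g ∈ Subgroup.normalizer (H : Set G)) (hcop : Nat.Coprime (orderOf g) (Nat.card H))
    (h : G) (hh : h ∈ H) :
    ∃ x ∈ H, ∃ c ∈ H, c * g = g * c ∧ x * (h * g) * x⁻¹ = c * g := by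
  classical
  obtain ⟨k, hk⟩ := exists_pow_extract hcop
  have hpowH : ∀ c ∈ H, c ^ Nat.card H = 1 := by
    intro c hc
    have := pow_card_eq_one' (G := H) (x := ⟨c, hc⟩)
    exact congrArg Subtype.val this
  have hext : ∀ c ∈ H, c * g = g * c → (c * g) ^ k = g := by
    intro c hc hcg
    have := hk G g c (hcg.symm) (pow_orderOf_eq_one g) (hpowH c hc)
    rwa [← hcg] at this
  let C : Subgroup G := H ⊓ Subgroup.centralizer ({g} : Set G)
  have memC : ∀ c, c ∈ C ↔ c ∈ H ∧ c * g = g * c := by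
    intro c
    simp only [C, Subgroup.mem_inf, Subgroup.mem_centralizer_iff, Set.mem_singleton_iff, forall_eq]
    exact ⟨fun h => ⟨h.1, h.2.symm⟩, fun h => ⟨h.1, h.2.symm⟩⟩
  have hgn : ∀ y : G, y ∈ H → g * y * g⁻¹ ∈ H := fun y hy => (Subgroup.mem_normalizer_iff.mp hg y).mp hy
  let f : ↥H × ↥C → ↥H := fun p => ⟨(p.1 : G) * p.2 * g * (p.1 : G)⁻¹ * g⁻¹, by
    have h1 : (p.1 : G) * p.2 ∈ H := H.mul_mem p.1.2 ((memC _).1 p.2.2).1
    have h2 : g * (p.1 : G)⁻¹ * g⁻¹ ∈ H := hgn _ (H.inv_mem p.1.2)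
    have := H.mul_mem h1 h2
    simpa [mul_assoc] using this⟩
  have hfib : ∀ p q : ↥H × ↥C, f p = f q → (q.1 : G)⁻¹ * p.1 ∈ C := by
    intro p q hpq
    have he : (p.1 : G) * (p.2 * g) * (p.1 : G)⁻¹ = (q.1 : G) * (q.2 * g) * (q.1 : G)⁻¹ := by
      have := congrArg (fun z : ↥H => (z : G) * g) hpq
      simpa [f, mul_assoc] using this
    have he' := congrArg (· ^ k) he
    simp only [conj_pow] at he'
    rw [hext _ ((memC _).1 p.2.2).1 ((memC _).1 p.2.2).2,
      hext _ ((memC _).1 q.2.2).1 ((memC _).1 q.2.2).2] at he'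
    rw [memC]
    refine ⟨H.mul_mem (H.inv_mem q.1.2) p.1.2, ?_⟩
    calc (q.1 : G)⁻¹ * p.1 * g
        = (q.1 : G)⁻¹ * ((p.1 : G) * g * (p.1 : G)⁻¹) * p.1 := by group
      _ = (q.1 : G)⁻¹ * ((q.1 : G) * g * (q.1 : G)⁻¹) * p.1 := by rw [he']
      _ = g * ((q.1 : G)⁻¹ * p.1) := by group
  have hsurj : Function.Surjective f := by
    have hle : ∀ y : ↥H, Nat.card {p : ↥H × ↥C // f p = y} ≤ Nat.card C := by
      intro y
      by_cases hne : Nonempty {p : ↥H × ↥C // f p = y}
      · obtain ⟨q, hq⟩ := hne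
        refine Nat.card_le_card_of_injective
          (fun p => (⟨(q.1 : G)⁻¹ * p.1.1, hfib _ _ (p.2.trans hq.symm)⟩ : ↥C)) ?_
        intro p p' hpp
        have h1 : p.1.1 = p'.1.1 := Subtype.ext (by simpa using congrArg Subtype.val hpp)
        have h2 : p.1.2 = p'.1.2 := by
          have h3 := congrArg Subtype.val (p.2.trans p'.2.symm)
          simp only [f] at h3
          rw [h1] at h3
          exact Subtype.ext (by simpa using h3)
        exact Subtype.ext (Prod.ext h1 h2)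
      · rw [not_nonempty_iff] at hne
        simp
    intro y0
    by_contra hy0
    push Not at hy0
    have : Fintype ↥H := Fintype.ofFinite _
    have hsum : Nat.card (↥H × ↥C) = ∑ y : ↥H, Nat.card {p : ↥H × ↥C // f p = y} := by
      rw [← Nat.card_sigma]
      exact Nat.card_congr (Equiv.sigmaFiberEquiv f).symm
    have h0 : Nat.card {p : ↥H × ↥C // f p = y0} = 0 := by
      have : IsEmpty {p : ↥H × ↥C // f p = y0} := ⟨fun p => hy0 p.1 p.2⟩
      exact Nat.card_of_isEmpty
    have hlt : ∑ y : ↥H, Nat.card {p : ↥H × ↥C // f p = y} < ∑ _y : ↥H, Nat.card C :=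
      Finset.sum_lt_sum (fun y _ => hle y) ⟨y0, Finset.mem_univ _, by rw [h0]; exact Nat.card_pos⟩
    rw [← hsum, Nat.card_prod, Finset.sum_const, Finset.card_univ, smul_eq_mul,
      Nat.card_eq_fintype_card (α := ↥H)] at hlt
    exact lt_irrefl _ hlt
  obtain ⟨⟨x, c⟩, hxc⟩ := hsurj ⟨h, hh⟩
  have hxc' : (x : G) * c * g * (x : G)⁻¹ * g⁻¹ = h := congrArg Subtype.val hxc
  refine ⟨(x : G)⁻¹, H.inv_mem x.2, c, ((memC _).1 c.2).1, ((memC _).1 c.2).2, ?_⟩
  rw [← hxc']
  group

end CfsgLib.OddOrderChar
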