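import Cfsg.Agent.Characters.Orthogonality

/-!
# Values of characters on kernels and central elements
-/

set_option autoImplicit false

namespace CfsgLib.OddOrderChar

open CfsgLib.Characters
open scoped ComplexConjugate

variable {G : Type*} [Group G] [Finite G]

/-- Complex numbers of norm at most `n` with sum of real parts `k n` are all equal to `n`. -/
theorem eq_of_sum_re_eq {ι : Type*} (s : Finset ι) (f : ι → ℂ) (n : ℝ)
    (hf : ∀ i ∈ s, ‖f i‖ ≤ n) (hsum : (∑ i ∈ s, f i).re = s.card * n) : ∀ i ∈ s, f i = (n : ℂ) := by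
  have hre : ∀ i ∈ s, (f i).re ≤ n := fun i hi => (Complex.re_le_norm _).trans (hf i hi)
  have h : ∑ i ∈ s, (f i).re = ∑ _i ∈ s, n := by
    rw [← Complex.re_sum, hsum, Finset.sum_const, nsmul_eq_mul]
  intro i hi
  have h1 : (f i).re = n := (Finset.sum_eq_sum_iff_of_le hre).mp h i hi
  have h2 : (f i).re = ‖f i‖ := le_antisymm (Complex.re_le_norm _) (h1 ▸ hf i hi)
  have h3 : (f i).im * (f i).im = 0 := by
    have h4 := Complex.normSq_eq_norm_sq (f i)
    rw [← h2, Complex.normSq_apply, sq] at h4
    linarith
  exact Complex.ext (by simpa using h1) (by simpa using mul_self_eq_zero.mp h3)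

/-- An element whose character value is the degree acts trivially. -/
theorem rep_eq_one_of_char_eq {V : Type*} [AddCommGroup V] [Module ℂ V] [FiniteDimensional ℂ V]
    (ρ : Representation ℂ G V) {g : G} (hg : ρ.character g = ρ.character 1) : ρ g = 1 := by
  obtain ⟨b, μ, hμ⟩ := exists_eigenbasis ρ g
  have hsum : ∑ i, μ i = (Module.finrank ℂ V : ℂ) := by
    rw [Representation.char_one] at hg
    rw [← hg, Representation.character, LinearMap.trace_eq_matrix_trace ℂ b, Matrix.trace]
    refine Finset.sum_congr rfl fun i _ => ?_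
    rw [Matrix.diag, LinearMap.toMatrix_apply, (hμ i).1]; simp
  have h1 := eq_of_sum_re_eq Finset.univ μ 1
    (fun i _ => le_of_eq (Complex.norm_eq_one_of_pow_eq_one (hμ i).2 (orderOf_pos g).ne'))
    (by rw [hsum]; simp)
  refine b.ext fun i => ?_
  rw [(hμ i).1, h1 i (Finset.mem_univ _)]; simp

theorem character_norm_le {χ : G → ℂ} (h : Cfsg.IsCharacter G χ) (g : G) : ‖χ g‖ ≤ (χ 1).re := by
  obtain ⟨n, ρ, rfl⟩ := h
  rw [Representation.char_one]
  simpa using norm_char_le ρ g

/-- A representation's irreducible constituent on a subgroup bounds its degree by the index. -/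
theorem finrank_le_index_mul {V : Type*} [AddCommGroup V] [Module ℂ V] [FiniteDimensional ℂ V]
    (ρ : Representation ℂ G V) [ρ.IsIrreducible] (C : Subgroup G)
    (S : Subrepresentation (ρ.comp C.subtype)) (hS : 0 < Module.finrank ℂ S.toSubmodule) :
    Module.finrank ℂ V ≤ C.index * Module.finrank ℂ S.toSubmodule := by
  classical
  haveI : Fintype (G ⧸ C) := Fintype.ofFinite _
  set U : Submodule ℂ V := ⨆ q : G ⧸ C, S.toSubmodule.map (ρ q.out) with hU
  have htop : U = ⊤ := by
    have hinv : ∀ g x, x ∈ U → ρ g x ∈ U := by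
      intro g x hx
      induction hx using Submodule.iSup_induction' with
      | mem q x hx =>
        obtain ⟨y, hy, rfl⟩ := hx
        obtain ⟨c, hc⟩ := QuotientGroup.mk_out_eq_mul C (g * q.out)
        refine Submodule.mem_iSup_of_mem (QuotientGroup.mk (g * q.out)) ?_
        refine ⟨ρ (c : G)⁻¹ y, S.apply_mem_toSubmodule c⁻¹ hy, ?_⟩
        rw [← Module.End.mul_apply, ← map_mul, hc, mul_inv_cancel_right, map_mul, Module.End.mul_apply]
      | zero => simp
      | add x y _ _ hx hy => rw [map_add]; exact U.add_mem hx hy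
    rcases IsSimpleOrder.eq_bot_or_eq_top (⟨U, fun g x hx => hinv g x hx⟩ : Subrepresentation ρ) with h | h
    · exfalso
      have hb : U = ⊥ := congrArg Subrepresentation.toSubmodule h
      have hle : S.toSubmodule.map (ρ (QuotientGroup.mk (1 : G) : G ⧸ C).out) ≤ ⊥ :=
        hb ▸ le_iSup (fun q : G ⧸ C => S.toSubmodule.map (ρ q.out)) (QuotientGroup.mk 1)
      haveI := Module.finrank_pos_iff.mp hS
      obtain ⟨⟨y, hy⟩, hy0⟩ := exists_ne (0 : S.toSubmodule)
      have h0 := (Submodule.mem_bot ℂ).mp (hle ⟨y, hy, rfl⟩)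
      refine hy0 (Subtype.ext ?_)
      show y = 0
      have := congrArg (ρ (QuotientGroup.mk (1 : G) : G ⧸ C).out⁻¹) h0
      rwa [← Module.End.mul_apply, ← map_mul, inv_mul_cancel, map_one, Module.End.one_apply, map_zero] at this
    · exact congrArg Subrepresentation.toSubmodule h
  calc Module.finrank ℂ V = Module.finrank ℂ U := by rw [htop, finrank_top]
    _ ≤ ∑ q : G ⧸ C, Module.finrank ℂ (S.toSubmodule.map (ρ q.out)) := by
        have key : ∀ s : Finset (G ⧸ C), Module.finrank ℂ (s.sup fun q => S.toSubmodule.map (ρ q.out) :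
            Submodule ℂ V) ≤ ∑ q ∈ s, Module.finrank ℂ (S.toSubmodule.map (ρ q.out)) := by
          intro s
          induction s using Finset.induction_on with
          | empty => simp
          | insert a s ha ih =>
            rw [Finset.sup_insert, Finset.sum_insert ha]
            refine le_trans ?_ (Nat.add_le_add_left ih _)
            have := Submodule.finrank_sup_add_finrank_inf_eq (S.toSubmodule.map (ρ a.out))
              (s.sup fun q => S.toSubmodule.map (ρ q.out))
            omega
        rw [hU, ← Finset.sup_univ_eq_iSup]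
        exact key _
    _ ≤ ∑ _q : G ⧸ C, Module.finrank ℂ S.toSubmodule :=
        Finset.sum_le_sum fun q _ => Submodule.finrank_map_le _ _
    _ = C.index * Module.finrank ℂ S.toSubmodule := by
        rw [Finset.sum_const, smul_eq_mul, Finset.card_univ, Subgroup.index, Nat.card_eq_fintype_card]

end CfsgLib.OddOrderChar
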