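import Cfsg.Agent.OddOrderChar.CoprimeExtension
import Cfsg.Agent.OddOrderChar.KernelFacts

/-!
# Peterfalvi (1.5.d,e): abelian inertia quotient
-/

set_option autoImplicit false
set_option linter.style.haveILetI false
set_option linter.unusedSectionVars false

namespace CfsgLib.OddOrderChar

open CfsgLib.Characters
open scoped ComplexConjugate

/-- Irreducible characters of an abelian group are linear. -/
theorem irr_degree_one_of_comm {A : Type*} [Group A] [Fintype A] (hA : ∀ x y : A, x * y = y * x)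
    (χ : Cfsg.IrrCharacter A) : (χ : A → ℂ) 1 = 1 := by
  classical
  choose d hd0 hd using fun ψ : Cfsg.IrrCharacter A => exists_degree_pos ψ.2
  have hcard : Fintype.card (Cfsg.IrrCharacter A) = Nat.card A := by
    rw [Fintype.card_eq_nat_card, card_irrCharacter]
    refine (Nat.card_eq_of_bijective ConjClasses.mk ⟨fun x y h => ?_, ConjClasses.mk_surjective⟩).symm
    obtain ⟨c, hc⟩ := isConj_iff.mp (ConjClasses.mk_eq_mk_iff_isConj.mp h)
    rw [← hc, hA c x, mul_inv_cancel_right]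
  have hsum : ∑ ψ, d ψ ^ 2 = Nat.card A := by
    have h := sum_degree_sq (G := A)
    simp only [hd] at h
    exact_mod_cast h
  have h1 : ∀ ψ, d ψ = 1 := by
    have h2 : ∑ _ψ : Cfsg.IrrCharacter A, 1 = ∑ ψ, d ψ ^ 2 := by
      rw [hsum, ← hcard, Finset.sum_const, smul_eq_mul, mul_one, Finset.card_univ]
    intro ψ
    have h3 := (Finset.sum_eq_sum_iff_of_le fun ψ _ => Nat.one_le_pow 2 _ (hd0 ψ)).mp h2 ψ
      (Finset.mem_univ _)
    exact (Nat.pow_eq_one.mp h3.symm).resolve_right two_ne_zero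
  rw [hd χ, h1, Nat.cast_one]

theorem norm_irr_of_comm {A : Type*} [Group A] [Fintype A] (hA : ∀ x y : A, x * y = y * x)
    (χ : Cfsg.IrrCharacter A) (a : A) : (χ : A → ℂ) a * conj ((χ : A → ℂ) a) = 1 := by
  classical
  have hd := irr_degree_one_of_comm hA χ
  have h := classInner_isIrr_self χ.2
  rw [Cfsg.classInner, inv_mul_eq_one₀ natCard_ne_zero] at h
  have := eq_of_sum_re_eq Finset.univ (fun a => (χ : A → ℂ) a * conj ((χ : A → ℂ) a)) 1
    (fun a _ => by
      rw [norm_mul, RCLike.norm_conj]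
      have h1 := character_norm_le (isCharacter_of_isIrr χ.2) a
      rw [hd, Complex.one_re] at h1
      exact mul_le_one₀ h1 (norm_nonneg _) h1)
    (by rw [← h]; simp [Nat.card_eq_fintype_card]) a (Finset.mem_univ a)
  simpa using this

variable {G : Type*} [Group G] [Fintype G] (N : Subgroup G) [hN : N.Normal] [Fintype N]

/-- Inducing the restriction of a class function. -/
theorem indFun_restrict {ψ : G → ℂ} (hψ : Cfsg.IsClassFunction G ψ) :
    Cfsg.indFun N (fun n : N => ψ n) = ψ * Cfsg.indFun N (fun _ => 1) := by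
  funext g
  simp only [Pi.mul_apply, Cfsg.indFun, Finset.mul_sum]
  refine Finset.sum_congr rfl fun x _ => ?_
  by_cases hx : x⁻¹ * g * x ∈ N
  · rw [extendByZero_of_mem N _ hx, extendByZero_of_mem N _ hx]
    have : ψ (x⁻¹ * g * x) = ψ g := by simpa using hψ g x⁻¹
    show _ * ψ (x⁻¹ * g * x) = _
    rw [this]; ring
  · rw [extendByZero_of_notMem N _ hx, extendByZero_of_notMem N _ hx]; ring

/-- For an invariant `θ`, the induced function restricts to a multiple of `θ`. -/
theorem indFun_res_invariant {θ : N → ℂ} (hinv : ∀ g : G, conjBy N θ g = θ) :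
    (fun n : N => Cfsg.indFun N θ n) = (N.index : ℂ) • θ := by
  funext n
  rw [indFun_normal_apply, Pi.smul_apply, smul_eq_mul,
    Finset.sum_congr rfl (g := fun _ => θ n) (fun g _ => congrFun (hinv g) n), Finset.sum_const,
    Finset.card_univ, nsmul_eq_mul, Fintype.card_eq_nat_card, ← N.card_mul_index, Nat.cast_mul,
    ← mul_assoc, ← mul_assoc, inv_mul_cancel₀ (Nat.cast_ne_zero.mpr Nat.card_pos.ne'), one_mul]

/-- Peterfalvi (1.5.d) inside the inertia group. -/
theorem abelian_inertia {θ : N → ℂ} (hθ : Cfsg.IsIrrCharacter N θ)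
    (hinv : ∀ g : G, conjBy N θ g = θ) (hab : ∀ x y : G, x * y * x⁻¹ * y⁻¹ ∈ N) :
    ∃ (e : ℕ) (C : Finset (G → ℂ)), 0 < e ∧
      (∀ ξ ∈ C, Cfsg.IsIrrCharacter G ξ ∧ Cfsg.classInner (fun n : N => ξ n) θ = e ∧ ξ 1 = e * θ 1) ∧
      e ^ 2 * C.card = N.index ∧ Cfsg.indFun N θ = (e : ℂ) • ∑ ξ ∈ C, ξ ∧
      ∀ ξ, Cfsg.IsIrrCharacter G ξ → Cfsg.classInner (fun n : N => ξ n) θ ≠ 0 → ξ ∈ C := by
  classical
  have hθc := isCharacter_of_isIrr hθ
  have hind := isCharacter_indFun N hθc
  have hind0 : Cfsg.indFun N θ ≠ 0 := fun h => by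
    have h1 := congrFun h 1
    rw [indFun_one, Pi.zero_apply, mul_eq_zero] at h1
    rcases h1 with h1 | h1
    · exact N.index_ne_zero_of_finite (Nat.cast_eq_zero.mp h1)
    · exact irr_one_ne_zero hθ h1
  obtain ⟨ψ, hψ, hψne⟩ := exists_constituent hind hind0
  have hψcl := isClassFunction_of_isIrr hψ
  have hflip : ∀ ξ, Cfsg.IsIrrCharacter G ξ → ∀ m : ℕ,
      Cfsg.classInner (fun n : N => ξ n) θ = m → Cfsg.classInner (Cfsg.indFun N θ) ξ = m := by
    intro ξ hξ m hm
    rw [classInner_indFun_left N θ (isClassFunction_of_isIrr hξ), classInner_conj_symm, hm,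
      Complex.conj_natCast]
  obtain ⟨e, he⟩ := classInner_character_irr (isCharacter_restrict N (isCharacter_of_isIrr hψ)) hθ
  have he0 : e ≠ 0 := fun h => hψne (by rw [hflip ψ hψ e he, h, Nat.cast_zero])
  have hres : (fun n : N => ψ n) = (e : ℂ) • θ := by
    rw [← he]; exact clifford_restrict_invariant N hψ hθ hinv (by rw [he]; exact_mod_cast he0)
  letI : Fintype (G ⧸ N) := Fintype.ofFinite _
  have hA : ∀ x y : G ⧸ N, x * y = y * x := by
    intro x y
    induction x using QuotientGroup.induction_on with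
    | _ x => induction y using QuotientGroup.induction_on with
      | _ y =>
        rw [← QuotientGroup.mk_mul, ← QuotientGroup.mk_mul, QuotientGroup.eq]
        have h := hab y⁻¹ x⁻¹
        simpa [mul_assoc] using h
  set π := QuotientGroup.mk' N with hπ
  have hone : Cfsg.indFun N (fun _ => (1 : ℂ)) =
      fun g => ∑ l : Cfsg.IrrCharacter (G ⧸ N), (l : G ⧸ N → ℂ) (π g) := by
    funext g
    have h := congrFun (char_leftRegular_eq_sum (G := G ⧸ N)) (π g)
    simp only [char_leftRegular, Finset.sum_apply, Pi.smul_apply, irr_degree_one_of_comm hA,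
      smul_eq_mul, one_mul] at h
    rw [← h]
    by_cases hg : g ∈ N
    · rw [if_pos (show π g = 1 from (QuotientGroup.eq_one_iff g).mpr hg),
        show Cfsg.indFun N (fun _ => (1 : ℂ)) g = _ from
          congrFun (indFun_res_invariant N (θ := fun _ => (1 : ℂ)) (fun _ => rfl)) ⟨g, hg⟩,
        Pi.smul_apply, smul_eq_mul, mul_one]
      rfl
    · rw [if_neg (show ¬ π g = 1 from fun h => hg ((QuotientGroup.eq_one_iff g).mp h)), indFun_normal_eq_zero N _ hg]
  let P : Cfsg.IrrCharacter (G ⧸ N) → G → ℂ := fun l g => ψ g * (l : G ⧸ N → ℂ) (π g)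
  have hPirr : ∀ l, Cfsg.IsIrrCharacter G (P l) := fun l => by
    refine isIrr_of_classInner_self
      (isCharacter_mul (isCharacter_of_isIrr hψ) (isCharacter_comp π (isCharacter_of_isIrr l.2))) ?_
    rw [← classInner_isIrr_self hψ, Cfsg.classInner, Cfsg.classInner]
    congr 1
    refine Finset.sum_congr rfl fun g _ => ?_
    simp only [P, map_mul]
    linear_combination (ψ g * conj (ψ g)) * norm_irr_of_comm hA l (π g)
  have hPres : ∀ l, (fun n : N => P l n) = (e : ℂ) • θ := fun l => by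
    rw [← hres]
    funext n
    simp only [P]
    rw [show π (n : G) = 1 from (QuotientGroup.eq_one_iff (n : G)).mpr n.2,
      irr_degree_one_of_comm hA, mul_one]
  have hexp : (e : ℂ) • Cfsg.indFun N θ = ∑ l, P l := by
    rw [← indFun_smul, ← hres, indFun_restrict N hψcl, hone]
    funext g
    simp only [P, Pi.mul_apply, Finset.mul_sum, Finset.sum_apply]
  set C : Finset (G → ℂ) := Finset.image (Subtype.val : Cfsg.IrrCharacter G → G → ℂ)
    ((Finset.univ : Finset (Cfsg.IrrCharacter G)).filter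
      (fun ξ => Cfsg.classInner (Cfsg.indFun N θ) (ξ : G → ℂ) ≠ 0)) with hC
  have hmem : ∀ ξ, ξ ∈ C ↔ Cfsg.IsIrrCharacter G ξ ∧ Cfsg.classInner (Cfsg.indFun N θ) ξ ≠ 0 := by
    intro ξ
    simp only [hC, Finset.mem_image, Finset.mem_filter, Finset.mem_univ, true_and]
    exact ⟨fun ⟨x, hx, hxe⟩ => hxe ▸ ⟨x.2, hx⟩, fun h => ⟨⟨ξ, h.1⟩, h.2, rfl⟩⟩
  have hCe : ∀ ξ ∈ C, Cfsg.classInner (fun n : N => ξ n) θ = e := by
    intro ξ hξ
    obtain ⟨hξi, hξne⟩ := (hmem ξ).mp hξ
    have h : ∃ l, P l = ξ := by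
      by_contra h
      push Not at h
      apply hξne
      have h1 : Cfsg.classInner ((e : ℂ) • Cfsg.indFun N θ) ξ = 0 := by
        rw [hexp, classInner_sum_left]
        exact Finset.sum_eq_zero fun l _ => classInner_isIrr_ne (hPirr l) hξi (h l)
      rw [classInner_smul_left, mul_eq_zero, Nat.cast_eq_zero] at h1
      exact h1.resolve_left he0
    obtain ⟨l, rfl⟩ := h
    rw [hPres, classInner_smul_left, classInner_isIrr_self hθ, mul_one]
  have hsum : Cfsg.indFun N θ = (e : ℂ) • ∑ ξ ∈ C, ξ := by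
    conv_lhs => rw [character_expansion hind]
    rw [← Finset.sum_filter_of_ne (p := fun ξ : Cfsg.IrrCharacter G =>
      Cfsg.classInner (Cfsg.indFun N θ) (ξ : G → ℂ) ≠ 0) (fun ξ _ h h0 => h (by rw [h0, zero_smul])),
      Finset.smul_sum, hC, Finset.sum_image Subtype.val_injective.injOn]
    refine Finset.sum_congr rfl fun ξ hξ => ?_
    have hξC : (ξ : G → ℂ) ∈ C := (hmem _).mpr ⟨ξ.2, (Finset.mem_filter.mp hξ).2⟩
    rw [hflip _ ξ.2 e (hCe _ hξC)]
  have hcount : e ^ 2 * C.card = N.index := by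
    have h1 : Cfsg.classInner (Cfsg.indFun N θ) (Cfsg.indFun N θ) = (N.index : ℂ) := by
      rw [classInner_indFun_left N θ (isClassFunction_ind N θ), indFun_res_invariant N hinv,
        classInner_smul_right, classInner_isIrr_self hθ, Complex.conj_natCast, mul_one]
    conv_lhs at h1 => rw [hsum, classInner_smul_left, classInner_smul_right, classInner_sum_left]
    rw [Finset.sum_congr rfl (g := fun _ => (1 : ℂ)) (fun ξ hξ => by
      rw [classInner_sum_right, Finset.sum_eq_single ξ (fun η hη hne => classInner_isIrr_ne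
        ((hmem ξ).mp hξ).1 ((hmem η).mp hη).1 hne.symm) (fun h => absurd hξ h),
        classInner_isIrr_self ((hmem ξ).mp hξ).1])] at h1
    rw [Complex.conj_natCast, Finset.sum_const, nsmul_eq_mul, mul_one, ← mul_assoc, ← Nat.cast_mul,
      ← Nat.cast_mul, Nat.cast_inj] at h1
    rw [sq, h1]
  refine ⟨e, C, Nat.pos_of_ne_zero he0, fun ξ hξ => ⟨((hmem ξ).mp hξ).1, hCe ξ hξ, ?_⟩, hcount, hsum,
    fun ξ hξ hne => (hmem ξ).mpr ⟨hξ, ?_⟩⟩
  · have hne : Cfsg.classInner (fun n : N => ξ n) θ ≠ 0 := by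
      rw [hCe ξ hξ]; exact_mod_cast he0
    have h := congrFun (clifford_restrict_invariant N ((hmem ξ).mp hξ).1 hθ hinv hne) 1
    simp only [OneMemClass.coe_one, Pi.smul_apply, smul_eq_mul] at h
    rw [h, hCe ξ hξ]
  · rw [classInner_indFun_left N θ (isClassFunction_of_isIrr hξ), classInner_conj_symm]
    exact fun h => hne ((map_eq_zero _).mp h)

/-- Peterfalvi (1.5.d): induction from a normal subgroup with abelian inertia quotient. -/
theorem induced_abelian_inertia {θ : N → ℂ} (hθ : Cfsg.IsIrrCharacter N θ) (T : Subgroup G)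
    (hT : ∀ g : G, g ∈ T ↔ conjBy N θ g = θ) (hab : ∀ x ∈ T, ∀ y ∈ T, x * y * x⁻¹ * y⁻¹ ∈ N) :
    ∃ (e : ℕ) (C : Finset (G → ℂ)), 0 < e ∧ (∀ χ ∈ C, Cfsg.IsIrrCharacter G χ) ∧
      e ^ 2 * C.card = N.relIndex T ∧ Cfsg.indFun N θ = (e : ℂ) • ∑ χ ∈ C, χ ∧
      (∀ χ ∈ C, χ 1 = (T.index : ℂ) * e * θ 1) ∧
      (Nat.Coprime (Nat.card N) (N.relIndex T) → e = 1) := by
  classical
  letI : Fintype T := Fintype.ofFinite _
  letI : Fintype (N.subgroupOf T) := Fintype.ofFinite _
  have hNT := inertia_le N (isClassFunction_of_isIrr hθ) T hT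
  have hθ' := isIrr_onSubgroupOf N T hNT hθ
  have hab' : ∀ x y : T, x * y * x⁻¹ * y⁻¹ ∈ N.subgroupOf T := fun x y => by
    simpa [Subgroup.mem_subgroupOf] using hab x x.2 y y.2
  obtain ⟨e, C, he, hC, hcount, hsum, hall⟩ :=
    abelian_inertia (N.subgroupOf T) hθ' (onSubgroupOf_invariant N T hT) hab'
  have hne : ∀ ξ ∈ C, Cfsg.classInner (fun x : N.subgroupOf T => ξ x) (onSubgroupOf N T θ) ≠ 0 :=
    fun ξ hξ => by rw [(hC ξ hξ).2.1]; exact_mod_cast he.ne'
  have hinj : Set.InjOn (Cfsg.indFun T) (C : Set (T → ℂ)) := fun a ha b hb h =>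
    (clifford_correspondence N T hθ hT (hC b hb).1 (hne b hb)).2.2 a (hC a ha).1 (hne a ha) h
  refine ⟨e, C.image (Cfsg.indFun T), he, ?_, ?_, ?_, ?_, ?_⟩
  · intro χ hχ
    obtain ⟨ξ, hξ, rfl⟩ := Finset.mem_image.mp hχ
    exact (clifford_correspondence N T hθ hT (hC ξ hξ).1 (hne ξ hξ)).1
  · rw [Finset.card_image_of_injOn hinj, hcount]
    rfl
  · rw [indFun_trans N T hNT θ, hsum, indFun_smul, indFun_sum, Finset.sum_image hinj]
  · intro χ hχ
    obtain ⟨ξ, hξ, rfl⟩ := Finset.mem_image.mp hχ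
    rw [indFun_one, (hC ξ hξ).2.2, mul_assoc]
    congr 2
  · intro hcop
    have hcop' : Nat.Coprime (Nat.card (N.subgroupOf T)) (N.subgroupOf T).index := by
      rwa [Nat.card_congr (Subgroup.subgroupOfEquivOfLe hNT).toEquiv]
    obtain ⟨ξ, hξ, hξres⟩ :=
      exists_extension_of_coprime (N.subgroupOf T) hθ' (onSubgroupOf_invariant N T hT) hab' hcop'
    have h1 : Cfsg.classInner (fun x : N.subgroupOf T => ξ x) (onSubgroupOf N T θ) = 1 := by
      rw [hξres]; exact classInner_isIrr_self hθ'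
    have h2 := (hC ξ (hall ξ hξ (by rw [h1]; exact one_ne_zero))).2.1
    rw [h1] at h2
    exact_mod_cast h2.symm

end CfsgLib.OddOrderChar
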