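import Cfsg.Agent.OddOrderChar.TableCheck
import Mathlib.Algebra.BigOperators.Group.Finset.Basic
import Mathlib.Algebra.Order.BigOperators.Group.Finset
import Mathlib.Data.Fintype.Card
import Mathlib.Algebra.BigOperators.Ring.Finset
import Mathlib.Algebra.Ring.Int.Defs

/-!
# The combinatorics of Peterfalvi (3.2)

A table of three-element sets of signed irreducible characters with the inner products of the virtual
characters `(1-φ)(1-ψ)^G - 1` consists of the sets `{x i, y j, z i j}` for pairwise unrelated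
`x`, `y`, `z`.
-/

set_option autoImplicit false
set_option linter.style.haveILetI false
set_option linter.unusedSectionVars false

namespace CfsgLib.OddOrderChar

variable {E : Type*} [DecidableEq E] [InvolutiveNeg E]

/-- `1` on `T`, `-1` on `-T`, `0` elsewhere. -/
def sgnIn (T : Finset E) (e : E) : ℤ := if e ∈ T then 1 else if -e ∈ T then -1 else 0

theorem sgnIn_of_mem {T : Finset E} {e : E} (h : e ∈ T) : sgnIn T e = 1 := if_pos h

theorem sgnIn_cases (T : Finset E) (e : E) :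
    (sgnIn T e = 1 ∧ e ∈ T) ∨ (sgnIn T e = -1 ∧ e ∉ T ∧ -e ∈ T) ∨
      (sgnIn T e = 0 ∧ e ∉ T ∧ -e ∉ T) := by
  unfold sgnIn
  by_cases h : e ∈ T
  · simp [h]
  · by_cases h' : -e ∈ T <;> simp [h, h']

/-- The table hypothesis. -/
structure IsSignTable {I J : Type*} [DecidableEq I] [DecidableEq J] (deg : E → ℤ)
    (S : I → J → Finset E) : Prop where
  deg_neg : ∀ e, deg (-e) = -deg e
  deg_ne : ∀ i j, ∀ e ∈ S i j, deg e ≠ 0
  card_eq : ∀ i j, (S i j).card = 3
  no_opp : ∀ i j, ∀ e ∈ S i j, -e ∉ S i j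
  deg_sum : ∀ i j, ∑ e ∈ S i j, deg e = -1
  row : ∀ i j l, j ≠ l → ∑ e ∈ S i j, sgnIn (S i l) e = 1
  col : ∀ i k j, i ≠ k → ∑ e ∈ S i j, sgnIn (S k j) e = 1
  cross : ∀ i k j l, i ≠ k → j ≠ l → ∑ e ∈ S i j, sgnIn (S k l) e = 0

variable {I J : Type*} [DecidableEq I] [DecidableEq J] {deg : E → ℤ} {S : I → J → Finset E}

theorem IsSignTable.transpose (h : IsSignTable deg S) : IsSignTable deg fun j i => S i j where
  deg_neg := h.deg_neg
  deg_ne j i := h.deg_ne i j
  card_eq j i := h.card_eq i j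
  no_opp j i := h.no_opp i j
  deg_sum j i := h.deg_sum i j
  row j i k hik := h.col i k j hik
  col j l i hjl := h.row i j l hjl
  cross j l i k hjl hik := h.cross i k j l hik hjl

theorem IsSignTable.neg_ne (h : IsSignTable deg S) {i : I} {j : J} {e : E} (he : e ∈ S i j) :
    -e ≠ e := fun hn => by
  have h1 := h.deg_ne i j e he
  have h2 := h.deg_neg e
  rw [hn] at h2
  omega

/-- Two members of one row have no opposite elements. -/
theorem IsSignTable.row_no_opp (h : IsSignTable deg S) {i : I} {j l : J} {e : E} (he : e ∈ S i j) :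
    -e ∉ S i l := by
  by_cases hjl : j = l
  · subst hjl; exact h.no_opp i j e he
  intro hne
  have hnot : e ∉ S i l := fun hh => h.no_opp i l e hh hne
  have hval : sgnIn (S i l) e = -1 := by
    rcases sgnIn_cases (S i l) e with h' | h' | h'
    · exact absurd h'.2 hnot
    · exact h'.1
    · exact absurd hne h'.2.2
  have hsum := h.row i j l hjl
  rw [← Finset.add_sum_erase _ _ he, hval] at hsum
  have hc : ((S i j).erase e).card = 2 := by rw [Finset.card_erase_of_mem he, h.card_eq]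
  have hall : ∀ f ∈ (S i j).erase e, f ∈ S i l := by
    intro f hf
    by_contra hf'
    have h1 : sgnIn (S i l) f ≤ 0 := by
      rcases sgnIn_cases (S i l) f with h' | h' | h'
      · exact absurd h'.2 hf'
      · omega
      · omega
    have h2 : ∑ g ∈ ((S i j).erase e).erase f, sgnIn (S i l) g ≤ 1 := by
      have hle := Finset.sum_le_sum (s := ((S i j).erase e).erase f) (f := fun g => sgnIn (S i l) g)
        (g := fun _ => (1 : ℤ)) (fun g _ => by
          rcases sgnIn_cases (S i l) g with h' | h' | h' <;> omega)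
      rw [Finset.sum_const, Finset.card_erase_of_mem hf, hc] at hle
      simpa using hle
    rw [← Finset.add_sum_erase _ _ hf] at hsum
    omega
  have hsub : insert (-e) ((S i j).erase e) = S i l := by
    refine Finset.eq_of_subset_of_card_le ?_ ?_
    · intro g hg
      rcases Finset.mem_insert.mp hg with rfl | hg
      · exact hne
      · exact hall g hg
    · rw [Finset.card_insert_of_notMem, hc, h.card_eq]
      intro hh
      exact h.no_opp i j e he (Finset.mem_of_mem_erase hh)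
  have hd1 := h.deg_sum i l
  rw [← hsub, Finset.sum_insert (fun hh => h.no_opp i j e he (Finset.mem_of_mem_erase hh)), h.deg_neg] at hd1
  have hd2 := h.deg_sum i j
  rw [← Finset.add_sum_erase _ _ he] at hd2
  have := h.deg_ne i j e he
  omega

/-- Two members of one row share exactly one element. -/
theorem IsSignTable.row_common (h : IsSignTable deg S) {i : I} {j l : J} (hjl : j ≠ l) :
    ∃ e, e ∈ S i j ∧ e ∈ S i l ∧ ∀ f ∈ S i j, f ∈ S i l → f = e := by
  have hval : ∀ f ∈ S i j, sgnIn (S i l) f = if f ∈ S i l then 1 else 0 := by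
    intro f hf
    rcases sgnIn_cases (S i l) f with h' | h' | h'
    · rw [h'.1, if_pos h'.2]
    · exact absurd h'.2.2 (h.row_no_opp hf)
    · rw [h'.1, if_neg h'.2.1]
  have hsum := h.row i j l hjl
  rw [Finset.sum_congr rfl hval, Finset.sum_boole] at hsum
  obtain ⟨e, he⟩ := Finset.card_eq_one.mp (by exact_mod_cast hsum :
    ((S i j).filter fun f => f ∈ S i l).card = 1)
  have hmem : e ∈ (S i j).filter fun f => f ∈ S i l := by rw [he]; exact Finset.mem_singleton_self e
  rw [Finset.mem_filter] at hmem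
  refine ⟨e, hmem.1, hmem.2, fun f hf hf' => ?_⟩
  have : f ∈ (S i j).filter fun g => g ∈ S i l := Finset.mem_filter.mpr ⟨hf, hf'⟩
  rwa [he, Finset.mem_singleton] at this

theorem IsSignTable.row_eq (h : IsSignTable deg S) {i : I} {j l : J} (hjl : j ≠ l) {e f : E}
    (he : e ∈ S i j) (he' : e ∈ S i l) (hf : f ∈ S i j) (hf' : f ∈ S i l) : e = f := by
  obtain ⟨g, -, -, hg⟩ := h.row_common (i := i) hjl
  rw [hg e he he', hg f hf hf']

theorem IsSignTable.cross_of_common (h : IsSignTable deg S) {i k : I} {j l : J} (hik : i ≠ k)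
    (hjl : j ≠ l) {e : E} (he : e ∈ S i j) (he' : e ∈ S k l) :
    ∃ f ∈ S i j, -f ∈ S k l := by
  by_contra hne
  push Not at hne
  have hle : (1 : ℤ) ≤ ∑ f ∈ S i j, sgnIn (S k l) f := by
    rw [← sgnIn_of_mem he']
    refine Finset.single_le_sum (fun f hf => ?_) he
    rcases sgnIn_cases (S k l) f with h' | h' | h'
    · omega
    · exact absurd h'.2.2 (hne f hf)
    · omega
  rw [h.cross i k j l hik hjl] at hle
  omega

theorem IsSignTable.cross_of_opp (h : IsSignTable deg S) {i k : I} {j l : J} (hik : i ≠ k)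
    (hjl : j ≠ l) {e : E} (he : e ∈ S i j) (he' : -e ∈ S k l) :
    ∃ f ∈ S i j, f ∈ S k l := by
  by_contra hne
  push Not at hne
  have hval : sgnIn (S k l) e = -1 := by
    rcases sgnIn_cases (S k l) e with h' | h' | h'
    · exact absurd h'.2 (hne e he)
    · exact h'.1
    · exact absurd he' h'.2.2
  have hsum := h.cross i k j l hik hjl
  rw [← Finset.add_sum_erase _ _ he, hval] at hsum
  have hle : ∑ f ∈ (S i j).erase e, sgnIn (S k l) f ≤ 0 := by
    refine Finset.sum_nonpos fun f hf => ?_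
    rcases sgnIn_cases (S k l) f with h' | h' | h'
    · exact absurd h'.2 (hne f (Finset.mem_of_mem_erase hf))
    · omega
    · omega
  omega

theorem table_support_map (f : E → ℤ) : ∀ U : List E, U.Nodup →
    TableCheck.support (U.map f) = (U.toFinset.filter fun e => f e ≠ 0).card
  | [], _ => rfl
  | a :: U, hU => by
      rw [List.nodup_cons] at hU
      rw [List.map_cons, TableCheck.support, table_support_map f U hU.2, List.toFinset_cons,
        Finset.filter_insert]
      by_cases ha : f a = 0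
      · simp [ha]
      · rw [if_neg ha, if_pos ha, Finset.card_insert_of_notMem (by simp [hU.1]), add_comm]

/-- Four members of a row: no element lies in exactly three of them. -/
theorem IsSignTable.triple_false (h : IsSignTable deg S) {i k : I} (hik : i ≠ k) {j₀ j₁ j₂ j₃ : J}
    (h01 : j₀ ≠ j₁) (h02 : j₀ ≠ j₂) (h03 : j₀ ≠ j₃) (h12 : j₁ ≠ j₂) (h13 : j₁ ≠ j₃) (h23 : j₂ ≠ j₃)
    {a : E} (a₀ : a ∈ S i j₀) (a₁ : a ∈ S i j₁) (a₂ : a ∈ S i j₂) : a ∈ S i j₃ := by
  by_contra a₃
  obtain ⟨b₀, b₀P, b₀Q, -⟩ := h.row_common (i := i) h03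
  obtain ⟨b₁, b₁P, b₁Q, -⟩ := h.row_common (i := i) h13
  obtain ⟨b₂, b₂P, b₂Q, -⟩ := h.row_common (i := i) h23
  have ab₀ : a ≠ b₀ := fun e => a₃ (e ▸ b₀Q)
  have ab₁ : a ≠ b₁ := fun e => a₃ (e ▸ b₁Q)
  have ab₂ : a ≠ b₂ := fun e => a₃ (e ▸ b₂Q)
  have b01 : b₀ ≠ b₁ := fun e => ab₀ (h.row_eq h01 a₀ a₁ b₀P (e ▸ b₁P))
  have b02 : b₀ ≠ b₂ := fun e => ab₀ (h.row_eq h02 a₀ a₂ b₀P (e ▸ b₂P))
  have b12 : b₁ ≠ b₂ := fun e => ab₁ (h.row_eq h12 a₁ a₂ b₁P (e ▸ b₂P))
  have third : ∀ j, ∀ b : E, a ∈ S i j → b ∈ S i j → a ≠ b → ∃ c, c ≠ a ∧ c ≠ b ∧ S i j = {a, b, c} := by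
    intro j b ha hb hab
    have h1 : (((S i j).erase a).erase b).card = 1 := by
      rw [Finset.card_erase_of_mem (Finset.mem_erase.mpr ⟨hab.symm, hb⟩), Finset.card_erase_of_mem ha,
        h.card_eq]
    obtain ⟨c, hc⟩ := Finset.card_eq_one.mp h1
    have hcm : c ∈ ((S i j).erase a).erase b := by rw [hc]; exact Finset.mem_singleton_self c
    obtain ⟨hcb, hca, hcS⟩ : c ≠ b ∧ c ≠ a ∧ c ∈ S i j := by
      simpa [Finset.mem_erase] using hcm
    refine ⟨c, hca, hcb, (Finset.eq_of_subset_of_card_le ?_ ?_).symm⟩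
    · intro e he
      simp only [Finset.mem_insert, Finset.mem_singleton] at he
      rcases he with rfl | rfl | rfl <;> assumption
    · rw [h.card_eq, Finset.card_eq_three.mpr ⟨a, b, c, hab, hca.symm, hcb.symm, rfl⟩]
  obtain ⟨c₀, c₀a, c₀b, e₀⟩ := third j₀ b₀ a₀ b₀P ab₀
  obtain ⟨c₁, c₁a, c₁b, e₁⟩ := third j₁ b₁ a₁ b₁P ab₁
  obtain ⟨c₂, c₂a, c₂b, e₂⟩ := third j₂ b₂ a₂ b₂P ab₂
  have e₃ : S i j₃ = {b₀, b₁, b₂} := by
    refine (Finset.eq_of_subset_of_card_le ?_ ?_).symm
    · intro e he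
      simp only [Finset.mem_insert, Finset.mem_singleton] at he
      rcases he with rfl | rfl | rfl <;> assumption
    · rw [h.card_eq, Finset.card_eq_three.mpr ⟨b₀, b₁, b₂, b01, b02, b12, rfl⟩]
  have c₀P : c₀ ∈ S i j₀ := by simp [e₀]
  have c₁P : c₁ ∈ S i j₁ := by simp [e₁]
  have c₂P : c₂ ∈ S i j₂ := by simp [e₂]
  have cQ₀ : c₀ ∉ S i j₃ := fun e => c₀b (h.row_eq h03 c₀P e b₀P b₀Q)
  have cQ₁ : c₁ ∉ S i j₃ := fun e => c₁b (h.row_eq h13 c₁P e b₁P b₁Q)
  have cQ₂ : c₂ ∉ S i j₃ := fun e => c₂b (h.row_eq h23 c₂P e b₂P b₂Q)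
  have c01 : c₀ ≠ c₁ := fun e => c₀a (h.row_eq h01 c₀P (e ▸ c₁P) a₀ a₁)
  have c02 : c₀ ≠ c₂ := fun e => c₀a (h.row_eq h02 c₀P (e ▸ c₂P) a₀ a₂)
  have c12 : c₁ ≠ c₂ := fun e => c₁a (h.row_eq h12 c₁P (e ▸ c₂P) a₁ a₂)
  set U : List E := [a, b₀, b₁, b₂, c₀, c₁, c₂] with hU
  have hnd : U.Nodup := by
    have bc : ∀ b c : E, b ∈ S i j₃ → c ∉ S i j₃ → b ≠ c := fun b c hb hc e => hc (e ▸ hb)
    simp only [hU, List.nodup_cons, List.mem_cons, List.not_mem_nil, or_false, not_or, List.nodup_nil,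
      and_true, not_false_eq_true]
    exact ⟨⟨ab₀, ab₁, ab₂, c₀a.symm, c₁a.symm, c₂a.symm⟩,
      ⟨b01, b02, bc _ _ b₀Q cQ₀, bc _ _ b₀Q cQ₁, bc _ _ b₀Q cQ₂⟩,
      ⟨b12, bc _ _ b₁Q cQ₀, bc _ _ b₁Q cQ₁, bc _ _ b₁Q cQ₂⟩,
      ⟨bc _ _ b₂Q cQ₀, bc _ _ b₂Q cQ₁, bc _ _ b₂Q cQ₂⟩, ⟨c01, c02⟩, c12⟩
  have hUrow : ∀ u ∈ U.toFinset, ∃ j, u ∈ S i j := by
    intro u hu
    simp only [hU, List.toFinset_cons, List.toFinset_nil, insert_empty_eq, Finset.mem_insert,
      Finset.mem_singleton] at hu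
    rcases hu with rfl | rfl | rfl | rfl | rfl | rfl | rfl
    exacts [⟨_, a₀⟩, ⟨_, b₀Q⟩, ⟨_, b₁Q⟩, ⟨_, b₂Q⟩, ⟨_, c₀P⟩, ⟨_, c₁P⟩, ⟨_, c₂P⟩]
  have hUopp : ∀ u ∈ U.toFinset, ∀ v ∈ U.toFinset, u ≠ -v := by
    intro u hu v hv e
    obtain ⟨j, hj⟩ := hUrow u hu
    obtain ⟨l, hl⟩ := hUrow v hv
    exact h.row_no_opp hl (e ▸ hj)
  set vec : J → List Int := fun m => U.map (sgnIn (S k m)) with hvec
  let g : J → E → E := fun m u => if u ∈ S k m then u else -u
  have hg : ∀ m, ∀ u, sgnIn (S k m) u ≠ 0 → g m u ∈ S k m := by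
    intro m u hu
    rcases sgnIn_cases (S k m) u with h' | h' | h'
    · simp [g, h'.2]
    · simp [g, h'.2.1, h'.2.2]
    · exact absurd h'.1 hu
  have hginj : ∀ m, Set.InjOn (g m) (U.toFinset : Set E) := by
    intro m u hu v hv e
    simp only [g] at e
    split_ifs at e
    · exact e
    · exact absurd e (hUopp u hu v hv)
    · exact absurd e.symm (hUopp v hv u hu)
    · exact neg_injective e
  have hsupp : ∀ m, TableCheck.support (vec m) ≤ 3 := by
    intro m
    rw [hvec, table_support_map _ U hnd, ← h.card_eq k m]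
    exact Finset.card_le_card_of_injOn (g m) (fun u hu => hg m u (Finset.mem_filter.mp hu).2)
      ((hginj m).mono (Finset.coe_subset.mpr (Finset.filter_subset _ _)))
  have hrange : ∀ m, ∀ x ∈ vec m, x = -1 ∨ x = 0 ∨ x = 1 := by
    intro m x hx
    obtain ⟨u, -, rfl⟩ := List.mem_map.mp hx
    rcases sgnIn_cases (S k m) u with h' | h' | h' <;> omega
  have hip : ∀ l m, ∑ u ∈ S i l, sgnIn (S k m) u = if m = l then 1 else 0 := by
    intro l m
    split_ifs with e
    · subst e; exact h.col i k m hik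
    · exact h.cross i k l m hik (Ne.symm e)
  have hsum3 : ∀ (x y z : E) (f : E → ℤ), x ≠ y → x ≠ z → y ≠ z →
      ∑ u ∈ ({x, y, z} : Finset E), f u = f x + f y + f z := by
    intro x y z f hxy hxz hyz
    rw [Finset.sum_insert (by simp [hxy, hxz]), Finset.sum_pair hyz, add_assoc]
  have hcand : ∀ (m : J) (n : ℕ), (j₀ = m ↔ n = 0) → (j₁ = m ↔ n = 1) → (j₂ = m ↔ n = 2) →
      (j₃ = m ↔ n = 3) → vec m ∈ TableCheck.candidates n := by
    intro m n i0 i1 i2 i3
    refine List.mem_filter.mpr ⟨TableCheck.mem_signVectors _ (hrange m), ?_⟩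
    have s0 := hip j₀ m
    have s1 := hip j₁ m
    have s2 := hip j₂ m
    have s3 := hip j₃ m
    rw [e₀, hsum3 _ _ _ _ ab₀ c₀a.symm c₀b.symm] at s0
    rw [e₁, hsum3 _ _ _ _ ab₁ c₁a.symm c₁b.symm] at s1
    rw [e₂, hsum3 _ _ _ _ ab₂ c₂a.symm c₂b.symm] at s2
    rw [e₃, hsum3 _ _ _ _ b01 b02 b12] at s3
    simp only [eq_comm (a := m), i0, i1, i2, i3] at s0 s1 s2 s3
    have hs := hsupp m
    simp only [hvec, hU, List.map_cons, List.map_nil] at hs ⊢
    simp only [TableCheck.okTarget, Bool.and_eq_true, decide_eq_true_eq]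
    exact ⟨⟨⟨⟨hs, s0⟩, s1⟩, s2⟩, s3⟩
  have hcompat : ∀ m m', m ≠ m' → TableCheck.compat (vec m) (vec m') = true := by
    intro m m' hne
    obtain ⟨e, he, he', heu⟩ := h.row_common (i := k) hne
    have hprod : TableCheck.prodVec (vec m) (vec m') =
        U.map (fun u => sgnIn (S k m) u * sgnIn (S k m') u) := by
      simp only [hvec, hU, TableCheck.prodVec, List.map_cons, List.map_nil, List.zipWith_cons_cons,
        List.zipWith_nil_left]
    have hval : ∀ u, sgnIn (S k m) u * sgnIn (S k m') u = if u = e ∨ -u = e then 1 else 0 := by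
      intro u
      rcases sgnIn_cases (S k m) u with h1 | h1 | h1 <;> rcases sgnIn_cases (S k m') u with h2 | h2 | h2
      · rw [h1.1, h2.1, if_pos (Or.inl (heu u h1.2 h2.2))]; rfl
      · exact absurd h2.2.2 (h.row_no_opp h1.2)
      · rw [h2.1, mul_zero, if_neg]; rintro (rfl | rfl); exacts [h2.2.1 he', h2.2.2 he']
      · exact absurd h1.2.2 (h.row_no_opp h2.2)
      · rw [h1.1, h2.1, if_pos (Or.inr (heu (-u) h1.2.2 h2.2.2))]; rfl
      · rw [h2.1, mul_zero, if_neg]; rintro (rfl | rfl); exacts [h2.2.1 he', h2.2.2 he']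
      · rw [h1.1, zero_mul, if_neg]; rintro (rfl | rfl); exacts [h1.2.1 he, h1.2.2 he]
      · rw [h1.1, zero_mul, if_neg]; rintro (rfl | rfl); exacts [h1.2.1 he, h1.2.2 he]
      · rw [h1.1, zero_mul, if_neg]; rintro (rfl | rfl); exacts [h1.2.1 he, h1.2.2 he]
    simp only [TableCheck.compat, Bool.and_eq_true, Bool.or_eq_true, decide_eq_true_eq,
      List.all_eq_true, hprod]
    refine ⟨fun x hx => ?_, ?_⟩
    · obtain ⟨u, -, rfl⟩ := List.mem_map.mp hx
      rw [hval]
      split_ifs <;> decide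
    · rw [← List.sum_toFinset _ hnd, Finset.sum_congr rfl (fun u _ => hval u), Finset.sum_boole]
      by_cases hin : ∃ u ∈ U.toFinset, u = e ∨ -u = e
      · obtain ⟨u, hu, hue⟩ := hin
        left
        have hf : (U.toFinset.filter fun v => v = e ∨ -v = e) = {u} := by
          ext v
          simp only [Finset.mem_filter, Finset.mem_singleton]
          refine ⟨fun hv => ?_, fun hv => hv ▸ ⟨hu, hue⟩⟩
          rcases hue with hue | hue <;> rcases hv.2 with hve | hve
          · exact hve.trans hue.symm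
          · exact absurd (hue.trans hve.symm) (hUopp u hu v hv.1)
          · exact absurd (hve.trans hue.symm) (hUopp v hv.1 u hu)
          · exact neg_injective (hve.trans hue.symm)
        rw [hf]; rfl
      · right
        push Not at hin
        have hf : (U.toFinset.filter fun v => v = e ∨ -v = e) = ∅ :=
          Finset.filter_eq_empty_iff.mpr fun v hv hve => hve.elim (hin v hv).1 (hin v hv).2
        have hlt : ∀ q, e ∈ S k q → TableCheck.support (vec q) < 3 := by
          intro q hq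
          have h2 : ((S k q).erase e).card = 2 := by rw [Finset.card_erase_of_mem hq, h.card_eq]
          rw [hvec, table_support_map _ U hnd, Nat.lt_succ_iff, ← h2]
          refine Finset.card_le_card_of_injOn (g q) (fun u hu => ?_)
            ((hginj q).mono (Finset.coe_subset.mpr (Finset.filter_subset _ _)))
          have hu' := Finset.mem_filter.mp hu
          refine Finset.mem_erase.mpr ⟨?_, hg q u hu'.2⟩
          simp only [g]
          split_ifs
          · exact (hin u hu'.1).1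
          · exact (hin u hu'.1).2
        exact ⟨⟨by rw [hf]; rfl, hlt m he⟩, hlt m' he'⟩
  exact TableCheck.not_compat _ _ _ _
    (hcand j₃ 3 (by simp [h03]) (by simp [h13]) (by simp [h23]) (by simp))
    (hcand j₀ 0 (by simp) (by simp [h01.symm]) (by simp [h02.symm]) (by simp [h03.symm]))
    (hcand j₁ 1 (by simp [h01]) (by simp) (by simp [h12.symm]) (by simp [h13.symm]))
    (hcand j₂ 2 (by simp [h02]) (by simp [h12]) (by simp) (by simp [h23.symm]))
    (hcompat _ _ h03.symm) (hcompat _ _ h13.symm) (hcompat _ _ h01)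
    (hcompat _ _ h23.symm) (hcompat _ _ h02) (hcompat _ _ h12)

/-- Four members of a row have a common element. -/
theorem IsSignTable.four_common (h : IsSignTable deg S) {i k : I} (hik : i ≠ k) {j₀ j₁ j₂ j₃ : J}
    (h01 : j₀ ≠ j₁) (h02 : j₀ ≠ j₂) (h03 : j₀ ≠ j₃) (h12 : j₁ ≠ j₂) (h13 : j₁ ≠ j₃) (h23 : j₂ ≠ j₃) :
    ∃ x, x ∈ S i j₀ ∧ x ∈ S i j₁ ∧ x ∈ S i j₂ ∧ x ∈ S i j₃ := by
  by_contra hno
  have n012 : ∀ e, e ∈ S i j₀ → e ∈ S i j₁ → e ∉ S i j₂ := fun e x y z =>
    hno ⟨e, x, y, z, h.triple_false hik h01 h02 h03 h12 h13 h23 x y z⟩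
  have n013 : ∀ e, e ∈ S i j₀ → e ∈ S i j₁ → e ∉ S i j₃ := fun e x y z =>
    hno ⟨e, x, y, h.triple_false hik h01 h03 h02 h13 h12 h23.symm x y z, z⟩
  have n023 : ∀ e, e ∈ S i j₀ → e ∈ S i j₂ → e ∉ S i j₃ := fun e x y z =>
    hno ⟨e, x, h.triple_false hik h02 h03 h01 h23 h12.symm h13.symm x y z, y, z⟩
  have n123 : ∀ e, e ∈ S i j₁ → e ∈ S i j₂ → e ∉ S i j₃ := fun e x y z =>
    hno ⟨e, h.triple_false hik h12 h13 h01.symm h23 h02.symm h03.symm x y z, x, y, z⟩
  obtain ⟨p01, p01a, p01b, -⟩ := h.row_common (i := i) h01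
  obtain ⟨p02, p02a, p02b, -⟩ := h.row_common (i := i) h02
  obtain ⟨p03, p03a, p03b, -⟩ := h.row_common (i := i) h03
  obtain ⟨p12, p12a, p12b, -⟩ := h.row_common (i := i) h12
  obtain ⟨p13, p13a, p13b, -⟩ := h.row_common (i := i) h13
  obtain ⟨p23, p23a, p23b, -⟩ := h.row_common (i := i) h23
  have hset : ∀ j, ∀ x y z : E, x ∈ S i j → y ∈ S i j → z ∈ S i j → x ≠ y → x ≠ z → y ≠ z →
      ∀ m, sgnIn (S k m) x + sgnIn (S k m) y + sgnIn (S k m) z = if m = j then 1 else 0 := by
    intro j x y z hx hy hz hxy hxz hyz m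
    have e : S i j = {x, y, z} := by
      refine (Finset.eq_of_subset_of_card_le ?_ ?_).symm
      · intro e he
        simp only [Finset.mem_insert, Finset.mem_singleton] at he
        rcases he with rfl | rfl | rfl <;> assumption
      · rw [h.card_eq, Finset.card_eq_three.mpr ⟨x, y, z, hxy, hxz, hyz, rfl⟩]
    have hs : ∑ u ∈ S i j, sgnIn (S k m) u = if m = j then 1 else 0 := by
      split_ifs with e'
      · subst e'; exact h.col i k m hik
      · exact h.cross i k j m hik (Ne.symm e')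
    rwa [e, Finset.sum_insert (by simp [hxy, hxz]), Finset.sum_pair hyz, ← add_assoc] at hs
  have s0 := hset j₀ p01 p02 p03 p01a p02a p03a (fun e => n012 _ p01a p01b (e ▸ p02b))
    (fun e => n013 _ p01a p01b (e ▸ p03b)) (fun e => n023 _ p02a p02b (e ▸ p03b)) j₀
  have s1 := hset j₁ p01 p12 p13 p01b p12a p13a (fun e => n012 _ p01a p01b (e ▸ p12b))
    (fun e => n013 _ p01a p01b (e ▸ p13b)) (fun e => n123 _ p12a p12b (e ▸ p13b)) j₀
  have s2 := hset j₂ p02 p12 p23 p02b p12b p23a (fun e => n012 _ p02a (e ▸ p12a) p02b)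
    (fun e => n023 _ p02a p02b (e ▸ p23b)) (fun e => n123 _ p12a p12b (e ▸ p23b)) j₀
  have s3 := hset j₃ p03 p13 p23 p03b p13b p23b (fun e => n013 _ p03a (e ▸ p13a) p03b)
    (fun e => n023 _ p03a (e ▸ p23a) p03b) (fun e => n123 _ p13a (e ▸ p23a) p13b) j₀
  rw [if_pos rfl] at s0
  rw [if_neg h01] at s1
  rw [if_neg h02] at s2
  rw [if_neg h03] at s3
  omega

variable [Fintype J]

/-- Each row is a sunflower. -/
theorem IsSignTable.exists_centre (h : IsSignTable deg S) (hJ : 4 ≤ Fintype.card J) {i k : I}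
    (hik : i ≠ k) : ∃ x, ∀ j, x ∈ S i j := by
  obtain ⟨j₀, j₁, h01⟩ := Fintype.one_lt_card_iff.mp (by omega : 1 < Fintype.card J)
  obtain ⟨x, x0, x1, -⟩ := h.row_common (i := i) h01
  refine ⟨x, fun j => ?_⟩
  by_cases hj0 : j = j₀
  · exact hj0 ▸ x0
  by_cases hj1 : j = j₁
  · exact hj1 ▸ x1
  obtain ⟨p, hp⟩ : ∃ p, p ∉ ({j₀, j₁, j} : Finset J) := by
    by_contra hne
    push Not at hne
    have h1 : Fintype.card J ≤ ({j₀, j₁, j} : Finset J).card :=
      Finset.card_le_card (fun p _ => hne p)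
    have h2 : ({j₀, j₁, j} : Finset J).card ≤ 3 := Finset.card_le_three
    omega
  simp only [Finset.mem_insert, Finset.mem_singleton, not_or] at hp
  obtain ⟨y, y0, y1, yj, -⟩ := h.four_common hik h01 (Ne.symm hj0) (Ne.symm hp.1) (Ne.symm hj1)
    (Ne.symm hp.2.1) (Ne.symm hp.2.2)
  rwa [h.row_eq h01 x0 x1 y0 y1]

/-- Petals of a sunflower cannot all meet a set of two elements. -/
theorem IsSignTable.pigeon (h : IsSignTable deg S) (hJ : 4 ≤ Fintype.card J) {i : I} {j : J} {x : E}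
    (hx : ∀ l, x ∈ S i l) (R : Finset E) (hR : R.card ≤ 2) (F : J → E) (φ : E → E)
    (hφ : Function.Injective φ)
    (hF : ∀ l, l ≠ j → F l ∈ S i l ∧ F l ≠ x ∧ φ (F l) ∈ R) : False := by
  have h1 : (Finset.univ.erase j).card ≤ R.card := by
    refine Finset.card_le_card_of_injOn (fun l => φ (F l))
      (fun l hl => (hF l (Finset.ne_of_mem_erase hl)).2.2) ?_
    intro l hl l' hl' e
    by_contra hne
    have hl1 := hF l (Finset.ne_of_mem_erase hl)
    have hl2 := hF l' (Finset.ne_of_mem_erase hl')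
    exact hl1.2.1 (h.row_eq hne hl1.1 (hφ e ▸ hl2.1) (hx l) (hx l'))
  rw [Finset.card_erase_of_mem (Finset.mem_univ j), Finset.card_univ] at h1
  omega

/-- The centres of two rows are unrelated, and neither lies, up to sign, in the other row. -/
theorem IsSignTable.centre_separate (h : IsSignTable deg S) (hJ : 4 ≤ Fintype.card J) (x : I → E)
    (hx : ∀ i j, x i ∈ S i j) {i k : I} (hik : i ≠ k) (j : J) :
    x i ∉ S k j ∧ -x i ∉ S k j := by
  constructor
  · intro hin
    have key : ∀ l, l ≠ j → ∃ f ∈ S i l, -f ∈ S k j := fun l hl =>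
      h.cross_of_common hik hl (hx i l) hin
    haveI : Nonempty E := ⟨x i⟩
    choose! F hF1 hF2 using key
    refine h.pigeon hJ (j := j) (hx i) ((S k j).erase (x i)) ?_ F (fun e => -e) neg_injective
      fun l hl => ⟨hF1 l hl, fun e => ?_, Finset.mem_erase.mpr ⟨fun e => ?_, hF2 l hl⟩⟩
    · rw [Finset.card_erase_of_mem hin, h.card_eq]
    · exact h.no_opp k j _ hin (e ▸ hF2 l hl)
    · exact h.row_no_opp (i := i) (hF1 l hl) (l := l) (by rw [e]; exact hx i l)
  · intro hin
    have key : ∀ l, l ≠ j → ∃ f ∈ S i l, f ∈ S k j := fun l hl =>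
      h.cross_of_opp hik hl (hx i l) hin
    haveI : Nonempty E := ⟨x i⟩
    choose! F hF1 hF2 using key
    refine h.pigeon hJ (j := j) (hx i) ((S k j).erase (-x i)) ?_ F id Function.injective_id
      fun l hl => ⟨hF1 l hl, fun e => ?_, Finset.mem_erase.mpr ⟨fun e => ?_, hF2 l hl⟩⟩
    · rw [Finset.card_erase_of_mem hin, h.card_eq]
    · exact h.no_opp k j (x i) (e ▸ hF2 l hl) hin
    · exact h.row_no_opp (hx i l) (l := l) ((id e : F l = -x i) ▸ hF1 l hl)

variable [Fintype I]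

/-- Peterfalvi (3.2): the shape of the table. -/
theorem IsSignTable.shape (h : IsSignTable deg S) (hJ : 4 ≤ Fintype.card J)
    (hI : Fintype.card I = 2 ∨ 4 ≤ Fintype.card I) :
    ∃ (x : I → E) (y : J → E) (z : I → J → E),
      (∀ i j, S i j = {x i, y j, z i j} ∧ x i ≠ y j ∧ x i ≠ z i j ∧ y j ≠ z i j) ∧
      Function.Injective (Sum.elim x (Sum.elim y (Function.uncurry z))) ∧
      ∀ p q, -Sum.elim x (Sum.elim y (Function.uncurry z)) p ≠ Sum.elim x (Sum.elim y (Function.uncurry z)) q := by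
  obtain ⟨i₀, i₁, h01⟩ := Fintype.one_lt_card_iff.mp (by omega : 1 < Fintype.card I)
  obtain ⟨j₀, j₁, g01⟩ := Fintype.one_lt_card_iff.mp (by omega : 1 < Fintype.card J)
  have hother : ∀ i : I, ∃ k, i ≠ k := fun i =>
    if e : i = i₀ then ⟨i₁, e ▸ h01⟩ else ⟨i₀, e⟩
  choose x hx using fun i => (hother i).elim fun k hk => h.exists_centre hJ hk
  have hycol : ∀ j, ∃ y, ∀ i, y ∈ S i j := by
    intro j
    rcases hI with hI | hI
    · have huniv : ∀ i, i = i₀ ∨ i = i₁ := by
        intro i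
        by_contra hne
        push Not at hne
        have h1 : ({i, i₀, i₁} : Finset I).card = 3 :=
          Finset.card_eq_three.mpr ⟨i, i₀, i₁, hne.1, hne.2, h01, rfl⟩
        have h2 := Finset.card_le_univ ({i, i₀, i₁} : Finset I)
        omega
      obtain ⟨y, y0, y1, -⟩ := h.transpose.row_common (i := j) h01
      exact ⟨y, fun i => (huniv i).elim (fun e => e ▸ y0) (fun e => e ▸ y1)⟩
    · by_cases e : j = j₀
      · exact e ▸ h.transpose.exists_centre hI g01
      · exact h.transpose.exists_centre hI e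
  choose y hy using hycol
  have sep : ∀ i k j, i ≠ k → x i ∉ S k j ∧ -x i ∉ S k j := fun i k j hik =>
    h.centre_separate hJ x hx hik j
  have hxy : ∀ i j, x i ≠ y j ∧ -x i ≠ y j := fun i j => by
    obtain ⟨k, hk⟩ := hother i
    exact ⟨fun e => (sep i k j hk).1 (e ▸ hy j k), fun e => (sep i k j hk).2 (e ▸ hy j k)⟩
  have hthird : ∀ i j, ∃ z, z ≠ x i ∧ z ≠ y j ∧ S i j = {x i, y j, z} := by
    intro i j
    have h1 : (((S i j).erase (x i)).erase (y j)).card = 1 := by
      rw [Finset.card_erase_of_mem (Finset.mem_erase.mpr ⟨(hxy i j).1.symm, hy j i⟩),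
        Finset.card_erase_of_mem (hx i j), h.card_eq]
    obtain ⟨c, hc⟩ := Finset.card_eq_one.mp h1
    have hcm : c ∈ ((S i j).erase (x i)).erase (y j) := by rw [hc]; exact Finset.mem_singleton_self c
    simp only [Finset.mem_erase] at hcm
    refine ⟨c, hcm.2.1, hcm.1, (Finset.eq_of_subset_of_card_le ?_ ?_).symm⟩
    · intro e he
      simp only [Finset.mem_insert, Finset.mem_singleton] at he
      rcases he with rfl | rfl | rfl
      exacts [hx i j, hy j i, hcm.2.2]
    · rw [h.card_eq, Finset.card_eq_three.mpr ⟨_, _, c, (hxy i j).1, hcm.2.1.symm, hcm.1.symm, rfl⟩]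
  choose z hzx hzy hS using hthird
  have hz : ∀ i j, z i j ∈ S i j := fun i j => by simp [hS i j]
  have hxx : ∀ i k, i ≠ k → x i ≠ x k ∧ -x i ≠ x k := fun i k hik =>
    ⟨fun e => (sep i k j₀ hik).1 (e ▸ hx k j₀), fun e => (sep i k j₀ hik).2 (e ▸ hx k j₀)⟩
  have hyy : ∀ j l, j ≠ l → y j ≠ y l ∧ -y j ≠ y l := fun j l hjl =>
    ⟨fun e => (hxy i₀ j).1 (h.row_eq hjl (hx i₀ j) (hx i₀ l) (hy j i₀) (e ▸ hy l i₀)),
      fun e => h.row_no_opp (hy j i₀) (e ▸ hy l i₀)⟩
  have hxz : ∀ i k l, x i ≠ z k l ∧ -x i ≠ z k l := by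
    intro i k l
    by_cases hik : i = k
    · subst hik
      exact ⟨(hzx i l).symm, fun e => h.no_opp i l _ (hx i l) (e ▸ hz i l)⟩
    · exact ⟨fun e => (sep i k l hik).1 (e ▸ hz k l), fun e => (sep i k l hik).2 (e ▸ hz k l)⟩
  have hyz : ∀ j k l, y j ≠ z k l ∧ -y j ≠ z k l := by
    intro j k l
    by_cases hjl : j = l
    · subst hjl
      exact ⟨(hzy k j).symm, fun e => h.no_opp k j _ (hy j k) (e ▸ hz k j)⟩
    · exact ⟨fun e => (hxy k j).1 (h.row_eq hjl (hx k j) (hx k l) (hy j k) (e ▸ hz k l)),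
        fun e => h.row_no_opp (hy j k) (e ▸ hz k l)⟩
  have flip : ∀ {e f : E}, -e ≠ f → -f ≠ e := fun {e f} hne hh => hne (neg_eq_iff_eq_neg.mpr hh.symm)
  have hzz : ∀ i j k l, (i, j) ≠ (k, l) → z i j ≠ z k l ∧ -z i j ≠ z k l := by
    intro i j k l hne
    by_cases hik : i = k
    · subst hik
      have hjl : j ≠ l := fun e => hne (e ▸ rfl)
      exact ⟨fun e => hzx i j (h.row_eq hjl (hz i j) (e ▸ hz i l) (hx i j) (hx i l)),
        fun e => h.row_no_opp (hz i j) (e ▸ hz i l)⟩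
    by_cases hjl : j = l
    · subst hjl
      exact ⟨fun e => hzy i j (h.transpose.row_eq hik (hz i j) (e ▸ hz k j) (hy j i) (hy j k)),
        fun e => h.transpose.row_no_opp (i := j) (hz i j) (e ▸ hz k j)⟩
    constructor <;> intro e
    · obtain ⟨f, hf, hf'⟩ := h.cross_of_common hik hjl (hz i j) (e ▸ hz k l)
      rw [hS k l, Finset.mem_insert, Finset.mem_insert, Finset.mem_singleton] at hf'
      rw [hS i j, Finset.mem_insert, Finset.mem_insert, Finset.mem_singleton] at hf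
      rcases hf with rfl | rfl | rfl <;> rcases hf' with hf' | hf' | hf'
      · exact (hxx i k hik).2 hf'
      · exact (hxy i l).2 hf'
      · exact (hxz i k l).2 hf'
      · exact flip (hxy k j).2 hf'
      · exact (hyy j l hjl).2 hf'
      · exact (hyz j k l).2 hf'
      · exact flip (hxz k i j).2 hf'
      · exact flip (hyz l i j).2 hf'
      · exact h.neg_ne (hz i j) (hf'.trans e.symm)
    · obtain ⟨f, hf, hf'⟩ := h.cross_of_opp hik hjl (hz i j) (e ▸ hz k l)
      rw [hS k l, Finset.mem_insert, Finset.mem_insert, Finset.mem_singleton] at hf'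
      rw [hS i j, Finset.mem_insert, Finset.mem_insert, Finset.mem_singleton] at hf
      rcases hf with rfl | rfl | rfl <;> rcases hf' with hf' | hf' | hf'
      · exact (hxx i k hik).1 hf'
      · exact (hxy i l).1 hf'
      · exact (hxz i k l).1 hf'
      · exact (hxy k j).1 hf'.symm
      · exact (hyy j l hjl).1 hf'
      · exact (hyz j k l).1 hf'
      · exact (hxz k i j).1 hf'.symm
      · exact (hyz l i j).1 hf'.symm
      · exact h.neg_ne (hz i j) (e.trans hf'.symm)
  refine ⟨x, y, z, fun i j => ⟨hS i j, (hxy i j).1, (hzx i j).symm, (hzy i j).symm⟩, ?_, ?_⟩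
  · rintro (i | j | ⟨i, j⟩) (k | l | ⟨k, l⟩) e <;>
      simp only [Sum.elim_inl, Sum.elim_inr, Function.uncurry_apply_pair] at e
    · by_contra hne; exact (hxx i k fun e' => hne (e' ▸ rfl)).1 e
    · exact absurd e (hxy i l).1
    · exact absurd e (hxz i k l).1
    · exact absurd e.symm (hxy k j).1
    · by_contra hne; exact (hyy j l fun e' => hne (e' ▸ rfl)).1 e
    · exact absurd e (hyz j k l).1
    · exact absurd e.symm (hxz k i j).1
    · exact absurd e.symm (hyz l i j).1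
    · by_contra hne; exact (hzz i j k l fun e' => hne (congrArg (fun p => Sum.inr (Sum.inr p)) e')).1 e
  · rintro (i | j | ⟨i, j⟩) (k | l | ⟨k, l⟩) e <;>
      simp only [Sum.elim_inl, Sum.elim_inr, Function.uncurry_apply_pair] at e
    · by_cases hik : i = k
      · subst hik; exact h.neg_ne (hx i j₀) e
      · exact (hxx i k hik).2 e
    · exact (hxy i l).2 e
    · exact (hxz i k l).2 e
    · exact flip (hxy k j).2 e
    · by_cases hjl : j = l
      · subst hjl; exact h.neg_ne (hy j i₀) e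
      · exact (hyy j l hjl).2 e
    · exact (hyz j k l).2 e
    · exact flip (hxz k i j).2 e
    · exact flip (hyz l i j).2 e
    · by_cases hne : (i, j) = (k, l)
      · rw [Prod.mk.injEq] at hne
        rw [← hne.1, ← hne.2] at e
        exact h.neg_ne (hz i j) e
      · exact (hzz i j k l hne).2 e

end CfsgLib.OddOrderChar
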