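import Cfsg.Agent.OddOrderChar.CyclicTI
import Cfsg.Agent.OddOrderChar.SignTable

/-!
# Peterfalvi (3.2): existence of the cyclic TI family
-/

set_option autoImplicit false
set_option linter.style.haveILetI false
set_option linter.unusedSectionVars false

namespace CfsgLib.OddOrderChar

open CfsgLib.Characters
open scoped ComplexConjugate

variable {G : Type*} [Group G] [Fintype G] {W₁ W₂ : Subgroup G}

/-- A linear character is a character. -/
theorem isCharacter_homFun {W : Type*} [Group W] (ω : W →* ℂˣ) : Cfsg.IsCharacter W (homFun ω) := by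
  let ρ : Representation ℂ W ℂ :=
    { toFun := fun w => (ω w : ℂ) • (1 : Module.End ℂ ℂ)
      map_one' := by simp
      map_mul' := fun v w => by rw [map_mul, Units.val_mul, smul_mul_smul_comm, one_mul] }
  have h := isCharacter_character ρ
  have e : ρ.character = homFun ω := by
    funext w
    show LinearMap.trace ℂ ℂ ((ω w : ℂ) • (1 : Module.End ℂ ℂ)) = _
    rw [map_smul, LinearMap.trace_one, Module.finrank_self, Nat.cast_one, smul_eq_mul, mul_one]
    rfl
  rwa [e] at h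

/-- `u` is an irreducible character up to sign. -/
def IsSignedIrr (u : G → ℂ) : Prop := Cfsg.IsIrrCharacter G u ∨ Cfsg.IsIrrCharacter G (-u)

theorem IsSignedIrr.ne_zero {u : G → ℂ} (h : IsSignedIrr u) : u 1 ≠ 0 := by
  rcases h with h | h
  · exact irr_one_ne_zero h
  · simpa using irr_one_ne_zero h

theorem IsSignedIrr.neg {u : G → ℂ} (h : IsSignedIrr u) : IsSignedIrr (-u) := by
  rcases h with h | h
  · exact Or.inr (by rwa [neg_neg])
  · exact Or.inl h

theorem classInner_neg_left' (u v : G → ℂ) :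
    Cfsg.classInner (-u) v = -Cfsg.classInner u v := by
  rw [← neg_one_smul ℂ u, classInner_smul_left, neg_one_mul]

theorem classInner_neg_right' (u v : G → ℂ) :
    Cfsg.classInner u (-v) = -Cfsg.classInner u v := by
  rw [← neg_one_smul ℂ v, classInner_smul_right, map_neg, map_one, neg_one_mul]

theorem IsSignedIrr.inner_self {u : G → ℂ} (h : IsSignedIrr u) : Cfsg.classInner u u = 1 := by
  rcases h with h | h
  · exact classInner_isIrr_self h
  · have := classInner_isIrr_self h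
    rwa [classInner_neg_left', classInner_neg_right', neg_neg] at this

theorem IsSignedIrr.inner_eq_zero {u v : G → ℂ} (hu : IsSignedIrr u) (hv : IsSignedIrr v)
    (h1 : u ≠ v) (h2 : -u ≠ v) : Cfsg.classInner u v = 0 := by
  rcases hu with hu | hu <;> rcases hv with hv | hv
  · exact classInner_isIrr_ne hu hv h1
  · have := classInner_isIrr_ne hu hv (fun e => h2 (by rw [e, neg_neg]))
    rwa [classInner_neg_right', neg_eq_zero] at this
  · have := classInner_isIrr_ne hu hv h2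
    rwa [classInner_neg_left', neg_eq_zero] at this
  · have := classInner_isIrr_ne hu hv (fun e => h1 (neg_injective e))
    rwa [classInner_neg_left', classInner_neg_right', neg_neg] at this

open Classical in
/-- An integral value at the identity, with junk value `0`. -/
noncomputable def intDeg (u : G → ℂ) : ℤ :=
  if h : ∃ z : ℤ, u 1 = (z : ℂ) then h.choose else 0

theorem intDeg_spec {u : G → ℂ} (h : IsSignedIrr u) : u 1 = (intDeg u : ℂ) := by
  have hz : ∃ z : ℤ, u 1 = (z : ℂ) := by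
    rcases h with h | h
    · obtain ⟨d, -, hd⟩ := exists_degree_pos h
      exact ⟨d, by simpa using hd⟩
    · obtain ⟨d, -, hd⟩ := exists_degree_pos h
      exact ⟨-d, by
        have : -(u 1) = (d : ℂ) := by simpa using hd
        push_cast
        rw [← this, neg_neg]⟩
  unfold intDeg
  rw [dif_pos hz]
  exact hz.choose_spec

theorem intDeg_neg (u : G → ℂ) : intDeg (-u) = -intDeg u := by
  unfold intDeg
  by_cases h : ∃ z : ℤ, u 1 = (z : ℂ)
  · have h' : ∃ z : ℤ, (-u) 1 = (z : ℂ) := ⟨-h.choose, by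
      rw [Pi.neg_apply, Int.cast_neg]
      exact congrArg Neg.neg h.choose_spec⟩
    rw [dif_pos h, dif_pos h']
    have e : (h'.choose : ℂ) = ((-h.choose : ℤ) : ℂ) := by
      rw [Int.cast_neg]
      exact h'.choose_spec.symm.trans (congrArg Neg.neg h.choose_spec)
    exact_mod_cast e
  · have h' : ¬ ∃ z : ℤ, (-u) 1 = (z : ℂ) := fun ⟨z, hz⟩ =>
      h ⟨-z, by rw [Int.cast_neg, ← hz, Pi.neg_apply, neg_neg]⟩
    rw [dif_neg h, dif_neg h']
    rfl

/-- The decomposition of a norm three class function with integer coefficients. -/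
theorem exists_three_signed {β : G → ℂ} (hβ : Cfsg.IsClassFunction G β)
    (hint : ∀ χ : Cfsg.IrrCharacter G, ∃ z : ℤ, Cfsg.classInner β (χ : G → ℂ) = (z : ℂ))
    (h3 : Cfsg.classInner β β = 3) :
    ∃ S : Finset (G → ℂ), S.card = 3 ∧ (∀ u ∈ S, IsSignedIrr u ∧ Cfsg.classInner β u = 1) ∧
      (∀ u ∈ S, -u ∉ S) ∧ β = ∑ u ∈ S, u := by
  classical
  choose z hz using hint
  have hsq : ∑ χ, z χ ^ 2 = (3 : ℤ) := by
    have h : ((∑ χ, z χ ^ 2 : ℤ) : ℂ) = 3 := by
      rw [← h3, classInner_eq_sum hβ, Int.cast_sum]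
      refine Finset.sum_congr rfl fun χ _ => ?_
      rw [hz, map_intCast, sq, Int.cast_mul]
    exact_mod_cast h
  have hone : ∀ χ, z χ ≠ 0 → z χ ^ 2 = 1 := by
    intro χ hne
    have h : z χ ^ 2 ≤ 3 := hsq ▸ Finset.single_le_sum (f := fun χ => z χ ^ 2)
      (fun ψ _ => sq_nonneg (z ψ)) (Finset.mem_univ χ)
    have h1 : -1 ≤ z χ := by nlinarith
    have h2 : z χ ≤ 1 := by nlinarith
    have h4 : z χ = 1 ∨ z χ = -1 := by omega
    rcases h4 with h4 | h4 <;> rw [h4] <;> norm_num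
  set D := Finset.univ.filter (fun χ : Cfsg.IrrCharacter G => z χ ≠ 0) with hD
  have hpm : ∀ χ ∈ D, (z χ : ℂ) = 1 ∨ (z χ : ℂ) = -1 := by
    intro χ hχ
    rcases sq_eq_one_iff.mp (hone χ (Finset.mem_filter.mp hχ).2) with h | h <;> simp [h]
  have hcard : D.card = 3 := by
    have h : (D.card : ℤ) = 3 := by
      rw [← hsq, hD, Finset.card_filter, Nat.cast_sum]
      refine Finset.sum_congr rfl fun χ _ => ?_
      by_cases h : z χ = 0
      · simp [h]
      · simp [h, hone χ h]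
    exact_mod_cast h
  let F : Cfsg.IrrCharacter G → G → ℂ := fun χ => (z χ : ℂ) • (χ : G → ℂ)
  have hsig : ∀ χ ∈ D, IsSignedIrr (F χ) := by
    intro χ hχ
    rcases hpm χ hχ with h | h
    · exact Or.inl (by simpa [F, h] using χ.2)
    · exact Or.inr (by simpa [F, h] using χ.2)
  have hF : ∀ χ ∈ D, ∀ ψ ∈ D, (F χ = F ψ ∨ F χ = -F ψ) → χ = ψ := by
    intro χ hχ ψ _ h
    by_contra hne
    have h0 : Cfsg.classInner (F χ) (F ψ) = 0 := by
      rw [classInner_smul_left, classInner_smul_right,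
        classInner_isIrr_ne χ.2 ψ.2 (fun e => hne (Subtype.ext e)), mul_zero, mul_zero]
    have h1 := (hsig χ hχ).inner_self
    rcases h with h | h
    · rw [← h, h1] at h0; exact one_ne_zero h0
    · have e : F ψ = -F χ := by rw [h, neg_neg]
      rw [e, classInner_neg_right', h1] at h0; norm_num at h0
  refine ⟨D.image F, ?_, ?_, ?_, ?_⟩
  · rw [Finset.card_image_of_injOn (fun χ hχ ψ hψ h => hF χ hχ ψ hψ (Or.inl h)), hcard]
  · intro u hu
    obtain ⟨χ, hχ, rfl⟩ := Finset.mem_image.mp hu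
    refine ⟨hsig χ hχ, ?_⟩
    rw [classInner_smul_right, hz, map_intCast]
    rcases hpm χ hχ with h | h <;> rw [h] <;> norm_num
  · intro u hu hu'
    obtain ⟨χ, hχ, rfl⟩ := Finset.mem_image.mp hu
    obtain ⟨ψ, hψ, hψe⟩ := Finset.mem_image.mp hu'
    obtain rfl := hF ψ hψ χ hχ (Or.inr hψe)
    have h1 := congrFun hψe 1
    have h2 := (hsig ψ hψ).ne_zero
    rw [Pi.neg_apply] at h1
    exact h2 (by linear_combination h1 / 2)
  · rw [Finset.sum_image (fun χ hχ ψ hψ h => hF χ hχ ψ hψ (Or.inl h))]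
    conv_lhs => rw [classFunction_expansion hβ]
    simp only [hz]
    refine (Finset.sum_subset (Finset.subset_univ D) fun χ _ hχ => ?_).symm
    have h0 : z χ = 0 := by simpa [hD] using hχ
    simp [F, h0]

/-- Orders of the factors: both at least three and not both three. -/
theorem snc_card_bounds (hW : Cfsg.IsSelfNormalizingCyclic W₁ W₂)
    (hodd : Odd (Nat.card ↥(W₁ ⊔ W₂))) :
    3 ≤ Nat.card W₁ ∧ 3 ≤ Nat.card W₂ ∧ Odd (Nat.card W₁) ∧ Odd (Nat.card W₂) ∧
      Nat.card W₁ ≠ Nat.card W₂ := by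
  have h1 : Odd (Nat.card W₁) := hodd.of_dvd_nat (Subgroup.card_dvd_of_le le_sup_left)
  have h2 : Odd (Nat.card W₂) := hodd.of_dvd_nat (Subgroup.card_dvd_of_le le_sup_right)
  have n1 : Nat.card W₁ ≠ 1 := fun h => hW.1 (Subgroup.card_eq_one.mp h)
  have n2 : Nat.card W₂ ≠ 1 := fun h => hW.2.1 (Subgroup.card_eq_one.mp h)
  obtain ⟨a, ha⟩ := id h1
  obtain ⟨b, hb⟩ := id h2
  refine ⟨by omega, by omega, h1, h2, fun he => ?_⟩
  have heq : W₁ = W₂ := by
    ext x
    constructor <;> intro hx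
    · rw [mem_iff_pow_card hW le_sup_right (Subgroup.mem_sup_left hx), ← he]
      exact (mem_iff_pow_card hW le_sup_left (Subgroup.mem_sup_left hx)).mp hx
    · rw [mem_iff_pow_card hW le_sup_left (Subgroup.mem_sup_right hx), he]
      exact (mem_iff_pow_card hW le_sup_right (Subgroup.mem_sup_right hx)).mp hx
  have hd := hW.2.2.1
  rw [heq, inf_idem] at hd
  exact hW.2.1 hd

/-- Peterfalvi (3.2). -/
theorem exists_cyclicTIFamily (hW : Cfsg.IsSelfNormalizingCyclic W₁ W₂)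
    (hodd : Odd (Nat.card ↥(W₁ ⊔ W₂))) :
    ∃ χ : (↥(W₁ ⊔ W₂) →* ℂˣ) → (G → ℂ), Cfsg.IsCyclicTIFamily W₁ W₂ χ := by
  classical
  have hP := factorPair_of_snc hW
  letI : Fintype ↥(W₁ ⊔ W₂) := Fintype.ofFinite _
  haveI := hP.finite_hom
  letI : Fintype (leftHat W₁ W₂) := Fintype.ofFinite _
  letI : Fintype (rightHat W₁ W₂) := Fintype.ofFinite _
  obtain ⟨hw1, hw2, ho1, ho2, hne⟩ := snc_card_bounds hW hodd
  let I := {φ : leftHat W₁ W₂ // φ.1 ≠ 1}
  let J := {ψ : rightHat W₁ W₂ // ψ.1 ≠ 1}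
  have hIcard : Fintype.card I + 1 = Nat.card W₁ := by
    rw [← hP.card_leftHat, Nat.card_eq_fintype_card]
    have h := Fintype.card_subtype_compl (fun φ : leftHat W₁ W₂ => φ.1 = 1)
    have h1 : Fintype.card {φ : leftHat W₁ W₂ // φ.1 = 1} = 1 :=
      Fintype.card_eq_one_iff.mpr ⟨⟨⟨1, fun w _ => rfl⟩, rfl⟩, fun a => Subtype.ext (Subtype.ext a.2)⟩
    have h2 : 0 < Fintype.card (leftHat W₁ W₂) :=
      Fintype.card_pos_iff.mpr ⟨⟨1, fun w _ => rfl⟩⟩
    rw [h1] at h
    show Fintype.card {φ : leftHat W₁ W₂ // φ.1 ≠ 1} + 1 = _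
    rw [Fintype.card_eq_nat_card] at h ⊢
    rw [h]
    omega
  have hJcard : Fintype.card J + 1 = Nat.card W₂ := by
    rw [← hP.card_rightHat, Nat.card_eq_fintype_card]
    have h := Fintype.card_subtype_compl (fun ψ : rightHat W₁ W₂ => ψ.1 = 1)
    have h1 : Fintype.card {ψ : rightHat W₁ W₂ // ψ.1 = 1} = 1 :=
      Fintype.card_eq_one_iff.mpr ⟨⟨⟨1, fun w _ => rfl⟩, rfl⟩, fun a => Subtype.ext (Subtype.ext a.2)⟩
    have h2 : 0 < Fintype.card (rightHat W₁ W₂) :=
      Fintype.card_pos_iff.mpr ⟨⟨1, fun w _ => rfl⟩⟩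
    rw [h1] at h
    show Fintype.card {ψ : rightHat W₁ W₂ // ψ.1 ≠ 1} + 1 = _
    rw [Fintype.card_eq_nat_card] at h ⊢
    rw [h]
    omega
  let one : G → ℂ := fun _ => 1
  have hone : Cfsg.IsIrrCharacter G one := by
    refine isIrr_of_classInner_self (isCharacter_homFun (1 : G →* ℂˣ)) ?_
    exact (classInner_hom (1 : G →* ℂˣ) 1).trans (if_pos rfl)
  let β : I → J → G → ℂ := fun i j => Cfsg.indFun (W₁ ⊔ W₂) (tiAlpha i.1.1 j.1.1) - one
  have hvan : ∀ (i : I) (j : J) (w : ↥(W₁ ⊔ W₂)), (w : G) ∈ W₁ ∨ (w : G) ∈ W₂ →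
      tiAlpha i.1.1 j.1.1 w = 0 := fun i j w hw => tiAlpha_eq_zero i.1 j.1 hw
  have hind1 : ∀ (i : I) (j : J),
      Cfsg.classInner (Cfsg.indFun (W₁ ⊔ W₂) (tiAlpha i.1.1 j.1.1)) one = 1 := by
    intro i j
    rw [classInner_indFun_left _ _ (isClassFunction_of_isIrr hone)]
    have h := classInner_tiAlpha_one hP i.1 j.1 i.2 j.2
    exact h
  have hinner : ∀ (i k : I) (j l : J), Cfsg.classInner (β i j) (β k l) =
      (1 + if i = k then 1 else 0) * (1 + if j = l then 1 else 0) - 1 := by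
    intro i k j l
    simp only [β, classInner_sub_left, classInner_sub_right]
    rw [classInner_ind_V hW _ _ (hvan i j) (hvan k l), hind1 i j, classInner_isIrr_self hone,
      classInner_conj_symm (Cfsg.indFun (W₁ ⊔ W₂) (tiAlpha k.1.1 l.1.1)) one, hind1 k l, map_one,
      classInner_tiAlpha hP i.1 k.1 j.1 l.1 i.2 k.2 j.2 l.2]
    have e1 : (i.1.1 = k.1.1) ↔ i = k :=
      ⟨fun h => Subtype.ext (Subtype.ext h), fun h => h ▸ rfl⟩
    have e2 : (j.1.1 = l.1.1) ↔ j = l :=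
      ⟨fun h => Subtype.ext (Subtype.ext h), fun h => h ▸ rfl⟩
    simp only [e1, e2]
    ring
  have hdec : ∀ (i : I) (j : J), ∃ S : Finset (G → ℂ), S.card = 3 ∧
      (∀ u ∈ S, IsSignedIrr u ∧ Cfsg.classInner (β i j) u = 1) ∧ (∀ u ∈ S, -u ∉ S) ∧
      β i j = ∑ u ∈ S, u := by
    intro i j
    refine exists_three_signed ?_ (fun χ => ?_) ?_
    · intro g h
      simp only [β, one, Pi.sub_apply, isClassFunction_ind _ _ g h]
    · have hc := isCharacter_restrict (W₁ ⊔ W₂) (isCharacter_of_isIrr χ.2)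
      obtain ⟨a, ha⟩ := classInner_characters (isCharacter_homFun (1 : ↥(W₁ ⊔ W₂) →* ℂˣ)) hc
      obtain ⟨b, hb⟩ := classInner_characters (isCharacter_homFun i.1.1) hc
      obtain ⟨c, hc'⟩ := classInner_characters (isCharacter_homFun j.1.1) hc
      obtain ⟨d, hd⟩ := classInner_characters (isCharacter_homFun (i.1.1 * j.1.1)) hc
      obtain ⟨e, he⟩ := classInner_characters (isCharacter_of_isIrr hone) (isCharacter_of_isIrr χ.2)
      refine ⟨(a : ℤ) - b - c + d - e, ?_⟩
      simp only [β]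
      rw [classInner_sub_left, classInner_indFun_left _ _ (isClassFunction_of_isIrr χ.2), tiAlpha_eq,
        classInner_add_left, classInner_sub_left, classInner_sub_left, ha, hb, hc', hd, he]
      push_cast
      ring
    · rw [hinner, if_pos rfl, if_pos rfl]
      norm_num
  choose S hS3 hSirr hSopp hSsum using hdec
  have hsgn : ∀ (i k : I) (j l : J),
      ((∑ u ∈ S i j, sgnIn (S k l) u : ℤ) : ℂ) = Cfsg.classInner (β i j) (β k l) := by
    intro i k j l
    rw [hSsum i j, classInner_sum_left, Int.cast_sum]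
    refine Finset.sum_congr rfl fun u hu => ?_
    rw [hSsum k l, classInner_sum_right]
    have hu' := (hSirr i j u hu).1
    rcases sgnIn_cases (S k l) u with ⟨h1, h2⟩ | ⟨h1, h2, h3⟩ | ⟨h1, h2, h3⟩
    · rw [h1, Finset.sum_eq_single u (fun v hv hvu => hu'.inner_eq_zero (hSirr k l v hv).1 hvu.symm
        (fun e => hSopp k l u h2 (e ▸ hv))) (fun h => absurd h2 h), hu'.inner_self, Int.cast_one]
    · rw [h1, Finset.sum_eq_single (-u) (fun v hv hvu => hu'.inner_eq_zero (hSirr k l v hv).1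
        (fun e => h2 (e ▸ hv)) hvu.symm) (fun h => absurd h3 h), classInner_neg_right', hu'.inner_self]
      norm_num
    · rw [h1, Finset.sum_eq_zero (fun v hv => hu'.inner_eq_zero (hSirr k l v hv).1
        (fun e => h2 (e ▸ hv)) (fun e => h3 (e ▸ hv))), Int.cast_zero]
  have hsgnZ : ∀ (i k : I) (j l : J), ∑ u ∈ S i j, sgnIn (S k l) u =
      (1 + if i = k then 1 else 0) * (1 + if j = l then 1 else 0) - 1 := by
    intro i k j l
    have h := hsgn i k j l
    rw [hinner] at h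
    have h' : ((∑ u ∈ S i j, sgnIn (S k l) u : ℤ) : ℂ) =
        (((1 + if i = k then 1 else 0) * (1 + if j = l then 1 else 0) - 1 : ℤ) : ℂ) := by
      rw [h]; split_ifs <;> norm_num
    exact_mod_cast h'
  have htab : IsSignTable intDeg S :=
    { deg_neg := intDeg_neg
      deg_ne := fun i j u hu h => (hSirr i j u hu).1.ne_zero (by
        rw [intDeg_spec (hSirr i j u hu).1, h, Int.cast_zero])
      card_eq := hS3
      no_opp := hSopp
      deg_sum := fun i j => by
        have h1 : β i j 1 = -1 := by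
          simp only [β, one, Pi.sub_apply, indFun_one]
          simp [tiAlpha]
        rw [hSsum i j, Finset.sum_apply, Finset.sum_congr rfl fun u hu => intDeg_spec (hSirr i j u hu).1,
          ← Int.cast_sum] at h1
        exact_mod_cast h1
      row := fun i j l h => by rw [hsgnZ, if_pos rfl, if_neg h]; rfl
      col := fun i k j h => by rw [hsgnZ, if_pos rfl, if_neg h]; rfl
      cross := fun i k j l h h' => by rw [hsgnZ, if_neg h, if_neg h']; rfl }
  -- the shape, in either orientation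
  obtain ⟨x, y, z, hS, hinj, hopp⟩ : ∃ (x : I → G → ℂ) (y : J → G → ℂ) (z : I → J → G → ℂ),
      (∀ i j, S i j = {x i, y j, z i j} ∧ x i ≠ y j ∧ x i ≠ z i j ∧ y j ≠ z i j) ∧
      Function.Injective (Sum.elim x (Sum.elim y (Function.uncurry z))) ∧
      ∀ p q, -Sum.elim x (Sum.elim y (Function.uncurry z)) p ≠
        Sum.elim x (Sum.elim y (Function.uncurry z)) q := by
    obtain ⟨a, ha⟩ := id ho1
    obtain ⟨b, hb⟩ := id ho2
    by_cases hJ : 4 ≤ Fintype.card J
    · exact htab.shape hJ (by omega)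
    · obtain ⟨y, x, z, h1, h2, h3⟩ := htab.transpose.shape (by omega) (by omega)
      let r : I ⊕ J ⊕ I × J → J ⊕ I ⊕ J × I :=
        Sum.elim (fun i => Sum.inr (Sum.inl i))
          (Sum.elim (fun j => Sum.inl j) (fun p => Sum.inr (Sum.inr (p.2, p.1))))
      have hr : Function.Injective r := by
        rintro (i | j | ⟨i, j⟩) (k | l | ⟨k, l⟩) h <;> simp [r] at h <;> simp [h]
      have e : Sum.elim x (Sum.elim y (Function.uncurry fun i j => z j i)) =
          Sum.elim y (Sum.elim x (Function.uncurry z)) ∘ r := by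
        funext p
        rcases p with i | j | ⟨i, j⟩ <;> rfl
      refine ⟨x, y, fun i j => z j i, fun i j => ?_, ?_, fun p q => ?_⟩
      · obtain ⟨g1, g2, g3, g4⟩ := h1 j i
        exact ⟨by rw [g1, Finset.insert_comm], g2.symm, g4, g3⟩
      · rw [e]; exact h2.comp hr
      · rw [e]; exact h3 (r p) (r q)
  let F : I ⊕ J ⊕ I × J → G → ℂ := Sum.elim x (Sum.elim y (Function.uncurry z))
  have hFirr : ∀ p, IsSignedIrr (F p) ∧ Cfsg.classInner (F p) one = 0 := by
    have main : ∀ i j, ∀ u ∈ S i j, IsSignedIrr u ∧ Cfsg.classInner u one = 0 := by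
      intro i j u hu
      obtain ⟨h1, h2⟩ := hSirr i j u hu
      refine ⟨h1, ?_⟩
      have hb : Cfsg.classInner (β i j) one = 0 := by
        simp only [β]
        rw [classInner_sub_left, hind1 i j, classInner_isIrr_self hone, sub_self]
      refine h1.inner_eq_zero (Or.inl hone) (fun e => ?_) (fun e => ?_)
      · rw [e, hb] at h2; exact zero_ne_one h2
      · rw [← neg_neg u, e, classInner_neg_right', hb, neg_zero] at h2; exact zero_ne_one h2
    have hmem : ∀ i j, x i ∈ S i j ∧ y j ∈ S i j ∧ z i j ∈ S i j := fun i j => by simp [(hS i j).1]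
    obtain ⟨i₀⟩ : Nonempty I := Fintype.card_pos_iff.mp (by omega)
    obtain ⟨j₀⟩ : Nonempty J := Fintype.card_pos_iff.mp (by omega)
    rintro (i | j | ⟨i, j⟩)
    · exact main i j₀ _ (hmem i j₀).1
    · exact main i₀ j _ (hmem i₀ j).2.1
    · exact main i j _ (hmem i j).2.2
  let c : leftHat W₁ W₂ × rightHat W₁ W₂ → G → ℂ := fun p =>
    if hi : p.1.1 = 1 then (if hj : p.2.1 = 1 then one else -y ⟨p.2, hj⟩)
    else (if hj : p.2.1 = 1 then -x ⟨p.1, hi⟩ else z ⟨p.1, hi⟩ ⟨p.2, hj⟩)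
  have hcase : ∀ p, (p.1.1 = 1 ∧ p.2.1 = 1 ∧ c p = one) ∨
      (∃ j : J, p.1.1 = 1 ∧ j.1 = p.2 ∧ c p = -F (Sum.inr (Sum.inl j))) ∨
      (∃ i : I, i.1 = p.1 ∧ p.2.1 = 1 ∧ c p = -F (Sum.inl i)) ∨
      ∃ (i : I) (j : J), i.1 = p.1 ∧ j.1 = p.2 ∧ c p = F (Sum.inr (Sum.inr (i, j))) := by
    intro p
    by_cases hi : p.1.1 = 1 <;> by_cases hj : p.2.1 = 1
    · exact Or.inl ⟨hi, hj, by simp [c, hi, hj]⟩
    · exact Or.inr (Or.inl ⟨⟨p.2, hj⟩, hi, rfl, by simp [c, F, hi, hj]⟩)
    · exact Or.inr (Or.inr (Or.inl ⟨⟨p.1, hi⟩, rfl, hj, by simp [c, F, hi, hj]⟩))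
    · exact Or.inr (Or.inr (Or.inr ⟨⟨p.1, hi⟩, ⟨p.2, hj⟩, rfl, rfl, by simp [c, F, hi, hj]⟩))
  have hnorm : ∀ p, IsSignedIrr (c p) := by
    intro p
    rcases hcase p with ⟨-, -, e⟩ | ⟨j, -, -, e⟩ | ⟨i, -, -, e⟩ | ⟨i, j, -, -, e⟩ <;> rw [e]
    exacts [Or.inl hone, (hFirr _).1.neg, (hFirr _).1.neg, (hFirr _).1]
  have hFF : ∀ p q, p ≠ q → Cfsg.classInner (F p) (F q) = 0 := fun p q h =>
    (hFirr p).1.inner_eq_zero (hFirr q).1 (fun e => h (hinj e)) (hopp p q)
  have hF1 : ∀ p, Cfsg.classInner one (F p) = 0 := fun p => by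
    rw [classInner_conj_symm, (hFirr p).2, map_zero]
  let enc : I ⊕ J ⊕ I × J → leftHat W₁ W₂ × rightHat W₁ W₂ :=
    Sum.elim (fun i => (i.1, ⟨1, fun w _ => rfl⟩))
      (Sum.elim (fun j => (⟨1, fun w _ => rfl⟩, j.1)) (fun q => (q.1.1, q.2.1)))
  have hkey : ∀ p, (c p = one ∧ p.1.1 = 1 ∧ p.2.1 = 1) ∨
      ∃ s : I ⊕ J ⊕ I × J, (c p = F s ∨ c p = -F s) ∧ enc s = p := by
    intro p
    rcases hcase p with ⟨h1, h2, e⟩ | ⟨j, h1, h2, e⟩ | ⟨i, h1, h2, e⟩ | ⟨i, j, h1, h2, e⟩
    · exact Or.inl ⟨e, h1, h2⟩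
    · exact Or.inr ⟨_, Or.inr e, Prod.ext (Subtype.ext h1.symm) h2⟩
    · exact Or.inr ⟨_, Or.inr e, Prod.ext h1 (Subtype.ext h2.symm)⟩
    · exact Or.inr ⟨_, Or.inl e, Prod.ext h1 h2⟩
  have horth : ∀ p q, Cfsg.classInner (c p) (c q) = if p = q then 1 else 0 := by
    intro p q
    split_ifs with h
    · subst h; exact (hnorm p).inner_self
    · rcases hkey p with ⟨ep, hp1, hp2⟩ | ⟨s, es, hs⟩ <;> rcases hkey q with ⟨eq', hq1, hq2⟩ | ⟨t, et, ht⟩
      · exact absurd (Prod.ext (Subtype.ext (hp1.trans hq1.symm)) (Subtype.ext (hp2.trans hq2.symm))) h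
      · rcases et with et | et <;> rw [ep, et]
        · exact hF1 t
        · rw [classInner_neg_right', hF1, neg_zero]
      · rcases es with es | es <;> rw [es, eq']
        · exact (hFirr s).2
        · rw [classInner_neg_left', (hFirr s).2, neg_zero]
      · have hst : s ≠ t := by rintro rfl; exact h (hs.symm.trans ht)
        rcases es with es | es <;> rcases et with et | et <;> rw [es, et] <;>
          simp only [classInner_neg_left', classInner_neg_right', hFF s t hst, neg_zero]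
  let χ : (↥(W₁ ⊔ W₂) →* ℂˣ) → (G → ℂ) := fun ω => c (hP.hatEquiv.symm ω)
  have hχ : ∀ (a : leftHat W₁ W₂) (b : rightHat W₁ W₂), χ (a.1 * b.1) = c (a, b) := by
    intro a b
    simp only [χ]
    rw [← hP.hatEquiv_apply (a, b), Equiv.symm_apply_apply]
  have hχorth : ∀ ω ω', Cfsg.classInner (χ ω) (χ ω') = if ω = ω' then 1 else 0 := by
    intro ω ω'
    simp only [χ]
    rw [horth]
    simp only [EmbeddingLike.apply_eq_iff_eq]
  let o₁ : leftHat W₁ W₂ := ⟨1, fun w _ => rfl⟩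
  let o₂ : rightHat W₁ W₂ := ⟨1, fun w _ => rfl⟩
  have hχl : ∀ (i : I), χ i.1.1 = -x i := by
    intro i
    have h := hχ i.1 o₂
    rw [show i.1.1 * o₂.1 = i.1.1 from MonoidHom.ext fun w => mul_one _] at h
    rw [h]
    simp [c, o₂, i.2]
  have hχr : ∀ (j : J), χ j.1.1 = -y j := by
    intro j
    have h := hχ o₁ j.1
    rw [show o₁.1 * j.1.1 = j.1.1 from MonoidHom.ext fun w => one_mul _] at h
    rw [h]
    simp [c, o₁, j.2]
  have hχm : ∀ (i : I) (j : J), χ (i.1.1 * j.1.1) = z i j := by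
    intro i j
    rw [hχ]
    simp [c, i.2, j.2]
  have hχ1 : χ 1 = one := by
    have h := hχ o₁ o₂
    rw [show o₁.1 * o₂.1 = 1 from MonoidHom.ext fun w => mul_one _] at h
    rw [h]
    simp [c, o₁, o₂]
  have hindeq : ∀ (i : I) (j : J), Cfsg.indFun (W₁ ⊔ W₂) (tiAlpha i.1.1 j.1.1) =
      χ 1 - χ i.1.1 - χ j.1.1 + χ (i.1.1 * j.1.1) := by
    intro i j
    rw [hχl, hχr, hχm, hχ1]
    obtain ⟨h1, h2, h3, h4⟩ := hS i j
    have h := hSsum i j
    simp only [β] at h
    rw [h1, Finset.sum_insert (by simp [h2, h3]), Finset.sum_pair h4, sub_eq_iff_eq_add] at h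
    rw [h]
    abel
  refine ⟨χ, ⟨fun ω => hnorm _, fun ω ω' => ?_, hχ1, fun ω w hw₁ hw₂ => ?_, fun φ ψ hφ hψ hφ₂ hψ₁ => ?_⟩⟩
  · rw [hχorth]; split_ifs <;> rfl
  · rw [← sub_eq_zero]
    refine vanish_on_V' hP (θ := fun v : ↥(W₁ ⊔ W₂) => χ ω v - (ω v : ℂ)) (fun φ ψ hφ hψ => ?_) w hw₁ hw₂
    have hcl : Cfsg.IsClassFunction G (χ ω) := by
      rcases hnorm (hP.hatEquiv.symm ω) with h | h
      · exact isClassFunction_of_isIrr h
      · intro g u
        have := isClassFunction_of_isIrr h g u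
        simpa [χ] using this
    rw [show (fun v : ↥(W₁ ⊔ W₂) => χ ω v - (ω v : ℂ)) =
      (fun v : ↥(W₁ ⊔ W₂) => χ ω v) - homFun ω from rfl, classInner_sub_left,
      ← classInner_indFun_right _ _ hcl, hindeq ⟨φ, hφ⟩ ⟨ψ, hψ⟩, tiAlpha_eq]
    simp only [classInner_add_right, classInner_sub_right, hχorth]
    unfold homFun
    simp only [classInner_hom]
    ring
  · have h := hindeq ⟨⟨φ, hφ₂⟩, hφ⟩ ⟨⟨ψ, hψ₁⟩, hψ⟩
    refine h.trans ?_
    funext g
    simp [hχ1, one]

end CfsgLib.OddOrderChar
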