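import Cfsg.Agent.OddOrderChar.DadeVirtual
import Cfsg.Agent.OddOrderChar.CyclicTIExistence
import Cfsg.Agent.Coherence.Virtual

/-!
# The Dade image of `χ - conj χ` (Peterfalvi, start of 5/7)
-/

set_option autoImplicit false
set_option linter.style.haveILetI false
set_option linter.unusedSectionVars false

namespace CfsgLib.OddOrderChar

open Cfsg
open CfsgLib.Characters

variable {G : Type*} [Group G] [Fintype G] {A : Set G} {L : Subgroup G} [Fintype L]
  {H : G → Subgroup G}

omit [Fintype G] [Fintype L] in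
/-- The Dade map commutes with complex conjugation. -/
theorem dade_conjFun (α : ↥L → ℂ) :
    dadeIsometry A L H (conjFun α) = conjFun (dadeIsometry A L H α) := by
  funext g
  by_cases h : ∃ a : ↥L, (a : G) ∈ A ∧ ∃ x : G, ∃ u ∈ H (a : G), x * g * x⁻¹ = (a : G) * u
  · show dadeIsometry A L H (conjFun α) g = _
    simp only [dadeIsometry, conjFun, dif_pos h]
  · simp only [dadeIsometry, conjFun, dif_neg h, map_zero]

omit [Fintype G] [Fintype L] in
/-- The Dade map vanishes at the identity. -/
theorem dade_apply_one (hD : DadeHypothesis A L H) (α : ↥L → ℂ) :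
    dadeIsometry A L H α 1 = 0 := by
  refine dade_apply_eq_zero α ?_
  rintro ⟨a, ha, x, u, hu, he⟩
  have h1 : (a : G) * u = 1 := by rw [← he]; group
  have ha1 : (a : G) = 1 := by
    have hm : (a : G) ∈ H (a : G) :=
      eq_inv_of_mul_eq_one_left h1 ▸ (H (a : G)).inv_mem hu
    exact dade_eq_one_of_mem_L hD ha hm a.2
  exact hD.one_not_mem (ha1 ▸ ha)

/-- The Dade image of `χ - conj χ` is a difference of an irreducible character and its conjugate. -/
theorem dade_sub_conj (hD : DadeHypothesis A L H) {χ : ↥L → ℂ} (hχ : IsIrrCharacter L χ)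
    (hsupp : ∀ x : L, x ≠ 1 → (x : G) ∉ A → χ x = 0) :
    ∃ μ : G → ℂ, IsIrrCharacter G μ ∧ dadeIsometry A L H (χ - conjFun χ) = μ - conjFun μ := by
  classical
  set α := χ - conjFun χ with hα
  have hαA : ∀ x : L, (x : G) ∉ A → α x = 0 := by
    intro x hx
    by_cases hx1 : x = 1
    · obtain ⟨d, -, hd⟩ := exists_degree_pos hχ
      simp [hα, hx1, conjFun, hd]
    · simp [hα, conjFun, hsupp x hx1 hx]
  by_cases hreal : conjFun χ = χ
  · obtain ⟨μ, hμ, hμr⟩ : ∃ μ : G → ℂ, IsIrrCharacter G μ ∧ conjFun μ = μ := by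
      refine ⟨_, isIrr_of_classInner_self (isCharacter_homFun (1 : G →* ℂˣ)) ?_, ?_⟩
      · unfold homFun
        rw [classInner_hom, if_pos rfl]
      · funext x; simp [homFun, conjFun]
    refine ⟨μ, hμ, ?_⟩
    rw [hμr, sub_self]
    funext g
    by_cases h : ∃ a : ↥L, (a : G) ∈ A ∧ ∃ x : G, ∃ u ∈ H (a : G), x * g * x⁻¹ = (a : G) * u
    · simp only [dadeIsometry, dif_pos h, hα, hreal, sub_self, Pi.zero_apply]
    · exact dade_apply_eq_zero _ h
  · have hgen : IsGeneralizedCharacter L α :=
      Coherence.isGen_sub (Coherence.isGen_of_isIrr hχ)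
        (Coherence.isGen_of_isIrr (Coherence.isIrr_conjFun hχ))
    have hcl : IsClassFunction L α := Coherence.isClassFunction_of_isGen hgen
    have hnorm : classInner (dadeIsometry A L H α) (dadeIsometry A L H α) = 2 := by
      rw [classInner_dade hD hcl hαA hcl hαA, hα, classInner_sub_left, classInner_sub_right,
        classInner_sub_right, classInner_isIrr_self hχ, classInner_isIrr_self (Coherence.isIrr_conjFun hχ),
        classInner_isIrr_ne hχ (Coherence.isIrr_conjFun hχ) (Ne.symm hreal),
        classInner_isIrr_ne (Coherence.isIrr_conjFun hχ) hχ hreal]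
      ring
    obtain ⟨μ, ν, hμ, hν, hne, he⟩ :=
      Coherence.gen_norm_two (isGen_dade hD hgen hαA) hnorm (dade_apply_one hD α)
    refine ⟨μ, hμ, ?_⟩
    rw [he]
    congr 1
    have hanti : conjFun μ - conjFun ν = ν - μ := by
      have h1 : conjFun α = (-1 : ℂ) • α := by funext x; simp [hα, conjFun]
      have h2 : dadeIsometry A L H ((-1 : ℂ) • α) = (-1 : ℂ) • dadeIsometry A L H α := by
        funext g
        by_cases h : ∃ a : ↥L, (a : G) ∈ A ∧ ∃ x : G, ∃ u ∈ H (a : G), x * g * x⁻¹ = (a : G) * u
        · simp only [dadeIsometry, dif_pos h, Pi.smul_apply]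
        · simp only [dadeIsometry, dif_neg h, Pi.smul_apply, smul_zero]
      have h3 := dade_conjFun (A := A) (H := H) α
      rw [h1, h2, he] at h3
      funext g
      have h4 := congrFun h3 g
      simp [conjFun] at h4 ⊢
      linear_combination -h4
    by_contra hνμ
    have h5 := congrArg (fun f => classInner f ν) hanti
    simp only [classInner_sub_left, classInner_isIrr_self hν, classInner_isIrr_ne hμ hν hne,
      classInner_isIrr_ne (Coherence.isIrr_conjFun hμ) hν (Ne.symm hνμ)] at h5
    by_cases hν' : conjFun ν = ν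
    · rw [hν', classInner_isIrr_self hν] at h5; norm_num at h5
    · rw [classInner_isIrr_ne (Coherence.isIrr_conjFun hν) hν hν'] at h5; norm_num at h5

end CfsgLib.OddOrderChar
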