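import Cfsg.Agent.OddOrderChar.Induced
import Cfsg.Agent.Characters.Classes

/-!
# Frobenius reciprocity and the elementary consequences used for Peterfalvi 1-4
-/

set_option autoImplicit false

namespace CfsgLib.OddOrderChar

open CfsgLib.Characters
open scoped ComplexConjugate

variable {G : Type*} [Group G] [Fintype G]

/-- Induced functions are class functions. -/
theorem isClassFunction_ind (H : Subgroup G) (θ : H → ℂ) :
    Cfsg.IsClassFunction G (Cfsg.indFun H θ) := by
  intro g h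
  unfold Cfsg.indFun
  congr 1
  refine Fintype.sum_equiv (Equiv.mulLeft h⁻¹) _ _ fun x => ?_
  congr 1
  simp [mul_assoc]

theorem indFun_one (H : Subgroup G) (θ : H → ℂ) :
    Cfsg.indFun H θ 1 = (H.index : ℂ) * θ 1 := by
  unfold Cfsg.indFun
  have hv : ∀ x : G, Cfsg.extendByZero H θ (x⁻¹ * 1 * x) = θ 1 := fun x => by
    rw [mul_one, inv_mul_cancel, extendByZero_of_mem H θ H.one_mem]
    rfl
  rw [Finset.sum_congr rfl fun x _ => hv x, Finset.sum_const, Finset.card_univ, nsmul_eq_mul,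
    Fintype.card_eq_nat_card, ← H.card_mul_index, Nat.cast_mul, ← mul_assoc, ← mul_assoc,
    inv_mul_cancel₀ (Nat.cast_ne_zero.mpr Nat.card_pos.ne'), one_mul]

theorem indFun_smul (H : Subgroup G) (c : ℂ) (θ : H → ℂ) :
    Cfsg.indFun H (c • θ) = c • Cfsg.indFun H θ := by
  funext g
  simp only [Cfsg.indFun, Pi.smul_apply, smul_eq_mul, Finset.mul_sum]
  refine Finset.sum_congr rfl fun x _ => ?_
  by_cases hx : x⁻¹ * g * x ∈ H
  · rw [extendByZero_of_mem H _ hx, extendByZero_of_mem H _ hx, Pi.smul_apply, smul_eq_mul]; ring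
  · rw [extendByZero_of_notMem H _ hx, extendByZero_of_notMem H _ hx]; ring

theorem indFun_add (H : Subgroup G) (θ θ' : H → ℂ) :
    Cfsg.indFun H (θ + θ') = Cfsg.indFun H θ + Cfsg.indFun H θ' := by
  funext g
  simp only [Cfsg.indFun, Pi.add_apply, ← mul_add, ← Finset.sum_add_distrib]
  congr 1
  refine Finset.sum_congr rfl fun x _ => ?_
  by_cases hx : x⁻¹ * g * x ∈ H
  · rw [extendByZero_of_mem H _ hx, extendByZero_of_mem H _ hx, extendByZero_of_mem H _ hx,
      Pi.add_apply]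
  · rw [extendByZero_of_notMem H _ hx, extendByZero_of_notMem H _ hx,
      extendByZero_of_notMem H _ hx, add_zero]

theorem indFun_sum (H : Subgroup G) {ι : Type*} (s : Finset ι) (f : ι → H → ℂ) :
    Cfsg.indFun H (∑ i ∈ s, f i) = ∑ i ∈ s, Cfsg.indFun H (f i) :=
  map_sum (AddMonoidHom.mk' (Cfsg.indFun H) (indFun_add H)) f s

/-- Frobenius reciprocity. -/
theorem classInner_indFun_left (H : Subgroup G) [Fintype H] (θ : H → ℂ) {χ : G → ℂ}
    (hχ : Cfsg.IsClassFunction G χ) :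
    Cfsg.classInner (Cfsg.indFun H θ) χ = Cfsg.classInner θ (fun h : H => χ h) := by
  classical
  have key : ∀ x : G, ∑ g : G, Cfsg.extendByZero H θ (x⁻¹ * g * x) * conj (χ g) =
      ∑ h : H, θ h * conj (χ h) := by
    intro x
    calc ∑ g : G, Cfsg.extendByZero H θ (x⁻¹ * g * x) * conj (χ g)
        = ∑ y : G, Cfsg.extendByZero H θ y * conj (χ y) := by
          refine Fintype.sum_equiv ((Equiv.mulLeft x⁻¹).trans (Equiv.mulRight x)) _ _ fun g => ?_
          simp only [Equiv.trans_apply, Equiv.coe_mulLeft, Equiv.coe_mulRight]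
          rw [show χ (x⁻¹ * g * x) = χ g by simpa using hχ g x⁻¹]
      _ = ∑ y ∈ Finset.univ.filter (fun y : G => y ∈ H), Cfsg.extendByZero H θ y * conj (χ y) :=
          (Finset.sum_subset (Finset.subset_univ _) fun y _ hy => by
            rw [extendByZero_of_notMem H θ (by simpa using hy), zero_mul]).symm
      _ = ∑ h : H, θ h * conj (χ h) := by
          rw [Finset.sum_subtype (Finset.univ.filter fun y : G => y ∈ H) (p := fun y => y ∈ H)
            (by simp)]
          exact Finset.sum_congr rfl fun h _ => by rw [extendByZero_of_mem H θ h.2]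
  have hsum : ∑ g : G, Cfsg.indFun H θ g * conj (χ g) =
      (Nat.card H : ℂ)⁻¹ * ((Nat.card G : ℂ) * ∑ h : H, θ h * conj (χ h)) := by
    have h1 : ∀ g : G, Cfsg.indFun H θ g * conj (χ g) = (Nat.card H : ℂ)⁻¹ *
        ∑ x : G, Cfsg.extendByZero H θ (x⁻¹ * g * x) * conj (χ g) := fun g => by
      rw [Cfsg.indFun, mul_assoc, Finset.sum_mul]
    rw [Finset.sum_congr rfl fun g _ => h1 g, ← Finset.mul_sum, Finset.sum_comm]
    congr 1
    rw [Finset.sum_congr rfl fun x _ => key x, Finset.sum_const, Finset.card_univ, nsmul_eq_mul,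
      Fintype.card_eq_nat_card]
  unfold Cfsg.classInner
  rw [hsum]
  field_simp [natCard_ne_zero (G := G)]

/-- Reciprocity, second slot. -/
theorem classInner_indFun_right (H : Subgroup G) [Fintype H] (θ : H → ℂ) {χ : G → ℂ}
    (hχ : Cfsg.IsClassFunction G χ) :
    Cfsg.classInner χ (Cfsg.indFun H θ) = Cfsg.classInner (fun h : H => χ h) θ := by
  rw [classInner_conj_symm, classInner_indFun_left H θ hχ, ← classInner_conj_symm]

/-- The induced function of a character is a character. -/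
theorem isCharacter_indFun (H : Subgroup G) {θ : H → ℂ} (hθ : Cfsg.IsCharacter H θ) :
    Cfsg.IsCharacter G (Cfsg.indFun H θ) := by
  haveI : Fintype H := Fintype.ofFinite H
  refine isCharacter_of_classInner (isClassFunction_ind H θ) fun χ => ?_
  rw [classInner_indFun_left H θ (isClassFunction_of_isIrr χ.2)]
  exact classInner_characters hθ (isCharacter_restrict H (isCharacter_of_isIrr χ.2))

/-! ### Characters with natural multiplicities -/

/-- A non-zero character has an irreducible constituent. -/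
theorem exists_constituent {ξ : G → ℂ} (h : Cfsg.IsCharacter G ξ) (h0 : ξ ≠ 0) :
    ∃ χ, Cfsg.IsIrrCharacter G χ ∧ Cfsg.classInner ξ χ ≠ 0 := by
  by_contra hne
  push Not at hne
  exact h0 (classFunction_eq_zero (isClassFunction_of_isCharacter h) fun χ => hne χ.1 χ.2)

/-- A character having an irreducible constituent of at least its own degree equals it. -/
theorem eq_irr_of_degree_le {ξ χ : G → ℂ} (h : Cfsg.IsCharacter G ξ)
    (hχ : Cfsg.IsIrrCharacter G χ) (hne : Cfsg.classInner ξ χ ≠ 0) (hdeg : (ξ 1).re ≤ (χ 1).re) :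
    ξ = χ := by
  classical
  obtain ⟨m, hm⟩ := exists_nat_coeff h
  choose d hd0 hd using fun ψ : Cfsg.IrrCharacter G => exists_degree_pos ψ.2
  have hmχ : m ⟨χ, hχ⟩ ≠ 0 := by
    intro h0
    apply hne
    rw [hm, classInner_irr_coeff (fun ψ => (m ψ : ℂ)) ⟨χ, hχ⟩, h0, Nat.cast_zero]
  have hξ1 : (ξ 1).re = ((∑ ψ, m ψ * d ψ : ℕ) : ℝ) := by
    have : ξ 1 = ((∑ ψ, m ψ * d ψ : ℕ) : ℂ) := by
      rw [hm]
      simp [hd]
    rw [this, Complex.natCast_re]
  have hle : ∑ ψ, m ψ * d ψ ≤ d ⟨χ, hχ⟩ := by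
    have := hdeg
    rw [hξ1, show χ 1 = (d ⟨χ, hχ⟩ : ℂ) from hd ⟨χ, hχ⟩, Complex.natCast_re] at this
    exact_mod_cast this
  have hsplit : m ⟨χ, hχ⟩ * d ⟨χ, hχ⟩ +
      ∑ ψ ∈ (Finset.univ : Finset (Cfsg.IrrCharacter G)).erase ⟨χ, hχ⟩, m ψ * d ψ = ∑ ψ, m ψ * d ψ :=
    Finset.add_sum_erase Finset.univ (fun ψ => m ψ * d ψ) (Finset.mem_univ _)
  have h1 : m ⟨χ, hχ⟩ = 1 := by
    by_contra h1
    have : 2 * d ⟨χ, hχ⟩ ≤ m ⟨χ, hχ⟩ * d ⟨χ, hχ⟩ := Nat.mul_le_mul_right _ (by omega)
    have := hd0 ⟨χ, hχ⟩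
    omega
  have h2 : ∀ ψ, ψ ≠ (⟨χ, hχ⟩ : Cfsg.IrrCharacter G) → m ψ = 0 := by
    intro ψ hψ
    have hz : ∑ ψ ∈ (Finset.univ : Finset (Cfsg.IrrCharacter G)).erase ⟨χ, hχ⟩, m ψ * d ψ = 0 := by
      rw [h1, one_mul] at hsplit; omega
    have := Finset.sum_eq_zero_iff.mp hz ψ (by simp [hψ])
    rcases Nat.mul_eq_zero.mp this with h | h
    · exact h
    · exact absurd h (hd0 ψ).ne'
  rw [hm, Finset.sum_eq_single (⟨χ, hχ⟩ : Cfsg.IrrCharacter G) (fun ψ _ hψ => by simp [h2 ψ hψ]) (by simp), h1]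
  simp

/-- Characters with a common constituent are not orthogonal. -/
theorem classInner_eq_zero_constituent {ξ η : G → ℂ} (hξ : Cfsg.IsCharacter G ξ)
    (hη : Cfsg.IsCharacter G η) (h0 : Cfsg.classInner ξ η = 0) {χ : G → ℂ}
    (hχ : Cfsg.IsIrrCharacter G χ) : Cfsg.classInner ξ χ = 0 ∨ Cfsg.classInner η χ = 0 := by
  classical
  choose a ha using fun ψ : Cfsg.IrrCharacter G => classInner_character_irr hξ ψ.2
  choose b hb using fun ψ : Cfsg.IrrCharacter G => classInner_character_irr hη ψ.2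
  rw [classInner_eq_sum (isClassFunction_of_isCharacter hξ)] at h0
  simp only [ha, hb, Complex.conj_natCast, ← Nat.cast_mul, ← Nat.cast_sum, Nat.cast_eq_zero] at h0
  rcases Nat.mul_eq_zero.mp (Finset.sum_eq_zero_iff.mp h0 ⟨χ, hχ⟩ (Finset.mem_univ _)) with h | h
  · left; rw [show Cfsg.classInner ξ χ = _ from ha ⟨χ, hχ⟩, h, Nat.cast_zero]
  · right; rw [show Cfsg.classInner η χ = _ from hb ⟨χ, hχ⟩, h, Nat.cast_zero]

/-! ### Transport along isomorphisms -/

theorem classInner_comp_equiv {H : Type*} [Group H] [Fintype H] (f : H ≃* G) (φ ψ : G → ℂ) :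
    Cfsg.classInner (fun x => φ (f x)) (fun x => ψ (f x)) = Cfsg.classInner φ ψ := by
  unfold Cfsg.classInner
  rw [Nat.card_congr f.toEquiv]
  congr 1
  exact Fintype.sum_equiv f.toEquiv _ _ fun x => rfl

theorem isIrrCharacter_comp_equiv {H : Type*} [Group H] [Finite H] (f : H ≃* G) {χ : G → ℂ}
    (h : Cfsg.IsIrrCharacter G χ) : Cfsg.IsIrrCharacter H (fun x => χ (f x)) := by
  haveI : Fintype H := Fintype.ofFinite H
  refine isIrr_of_classInner_self (isCharacter_comp f.toMonoidHom (isCharacter_of_isIrr h)) ?_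
  rw [classInner_comp_equiv f χ χ]
  exact classInner_isIrr_self h

end CfsgLib.OddOrderChar
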