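import Cfsg.Agent.OddOrderChar.CyclicTISpan
import Cfsg.Prelude.Def_Characters
import Mathlib.GroupTheory.FiniteAbelian.Duality
import Mathlib.GroupTheory.SpecificGroups.Cyclic
import Mathlib.RingTheory.RootsOfUnity.AlgebraicallyClosed
import Mathlib.Analysis.Complex.Polynomial.Basic

/-!
# Linear characters of a product of two subgroups with trivial intersection

`FactorPair W₁ W₂` packages the hypotheses; `leftHat` and `rightHat` are the linear characters of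
`W₁ ⊔ W₂` trivial on `W₂` and on `W₁` respectively.
-/

set_option autoImplicit false
set_option linter.style.haveILetI false
set_option linter.unusedSectionVars false

namespace CfsgLib.OddOrderChar

open scoped ComplexConjugate

variable {G : Type*} [Group G] [Finite G]

/-- A cyclic join of two subgroups with trivial intersection. -/
structure FactorPair (W₁ W₂ : Subgroup G) : Prop where
  disjoint : W₁ ⊓ W₂ = ⊥
  comm : ∀ a ∈ W₁, ∀ b ∈ W₂, a * b = b * a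
  cyclic : IsCyclic ↥(W₁ ⊔ W₂)

variable {W₁ W₂ : Subgroup G} (hP : FactorPair W₁ W₂)
include hP

theorem FactorPair.mul_comm' (x y : ↥(W₁ ⊔ W₂)) : x * y = y * x := by
  haveI := hP.cyclic
  exact _root_.mul_comm' x y

/-- The two projections, existence form. -/
theorem FactorPair.exists_proj : ∃ p q : ↥(W₁ ⊔ W₂) →* ↥(W₁ ⊔ W₂),
    (∀ w, (p w : G) ∈ W₁ ∧ (q w : G) ∈ W₂ ∧ p w * q w = w) ∧
    (∀ w : ↥(W₁ ⊔ W₂), (w : G) ∈ W₁ → p w = w ∧ q w = 1) ∧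
    (∀ w : ↥(W₁ ⊔ W₂), (w : G) ∈ W₂ → p w = 1 ∧ q w = w) := by
  classical
  have key : ∀ a a' b b' : G, a ∈ W₁ → a' ∈ W₁ → b ∈ W₂ → b' ∈ W₂ → a * b = a' * b' →
      a = a' ∧ b = b' := by
    intro a a' b b' ha ha' hb hb' h
    have hm : a'⁻¹ * a ∈ W₁ ⊓ W₂ := ⟨W₁.mul_mem (W₁.inv_mem ha') ha, by
      have : a'⁻¹ * a = b' * b⁻¹ := by
        rw [eq_mul_inv_iff_mul_eq, mul_assoc, h]; group
      rw [this]; exact W₂.mul_mem hb' (W₂.inv_mem hb)⟩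
    rw [hP.disjoint, Subgroup.mem_bot, inv_mul_eq_one] at hm
    subst hm
    exact ⟨rfl, mul_left_cancel h⟩
  choose a ha b hb hab using fun w : ↥(W₁ ⊔ W₂) => exists_mul_of_mem_sup W₁ W₂ hP.comm w.2
  have hmul : ∀ v w, a (v * w) = a v * a w ∧ b (v * w) = b v * b w := by
    intro v w
    refine key _ _ _ _ (ha _) (W₁.mul_mem (ha v) (ha w)) (hb _) (W₂.mul_mem (hb v) (hb w)) ?_
    rw [hab, Subgroup.coe_mul]
    conv_lhs => rw [← hab v, ← hab w]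
    calc a v * b v * (a w * b w) = a v * (b v * a w) * b w := by group
      _ = a v * (a w * b v) * b w := by rw [hP.comm _ (ha w) _ (hb v)]
      _ = _ := by group
  let p : ↥(W₁ ⊔ W₂) →* ↥(W₁ ⊔ W₂) :=
    MonoidHom.mk' (fun w => ⟨a w, Subgroup.mem_sup_left (ha w)⟩) fun v w => Subtype.ext (hmul v w).1
  let q : ↥(W₁ ⊔ W₂) →* ↥(W₁ ⊔ W₂) :=
    MonoidHom.mk' (fun w => ⟨b w, Subgroup.mem_sup_right (hb w)⟩) fun v w => Subtype.ext (hmul v w).2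
  refine ⟨p, q, fun w => ⟨ha w, hb w, Subtype.ext (hab w)⟩, fun w hw => ?_, fun w hw => ?_⟩
  · obtain ⟨h1, h2⟩ := key _ _ _ _ (ha w) hw (hb w) W₂.one_mem (by rw [hab, mul_one])
    exact ⟨Subtype.ext h1, Subtype.ext h2⟩
  · obtain ⟨h1, h2⟩ := key _ _ _ _ (ha w) W₁.one_mem (hb w) hw (by rw [hab, one_mul])
    exact ⟨Subtype.ext h1, Subtype.ext h2⟩

/-- Projection to `W₁`. -/
noncomputable def FactorPair.fst : ↥(W₁ ⊔ W₂) →* ↥(W₁ ⊔ W₂) := hP.exists_proj.choose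

/-- Projection to `W₂`. -/
noncomputable def FactorPair.snd : ↥(W₁ ⊔ W₂) →* ↥(W₁ ⊔ W₂) := hP.exists_proj.choose_spec.choose

theorem FactorPair.fst_mem (w : ↥(W₁ ⊔ W₂)) : (hP.fst w : G) ∈ W₁ :=
  (hP.exists_proj.choose_spec.choose_spec.1 w).1

theorem FactorPair.snd_mem (w : ↥(W₁ ⊔ W₂)) : (hP.snd w : G) ∈ W₂ :=
  (hP.exists_proj.choose_spec.choose_spec.1 w).2.1

theorem FactorPair.fst_mul_snd (w : ↥(W₁ ⊔ W₂)) : hP.fst w * hP.snd w = w :=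
  (hP.exists_proj.choose_spec.choose_spec.1 w).2.2

theorem FactorPair.fst_snd_of_mem_left {w : ↥(W₁ ⊔ W₂)} (hw : (w : G) ∈ W₁) :
    hP.fst w = w ∧ hP.snd w = 1 :=
  hP.exists_proj.choose_spec.choose_spec.2.1 w hw

theorem FactorPair.fst_snd_of_mem_right {w : ↥(W₁ ⊔ W₂)} (hw : (w : G) ∈ W₂) :
    hP.fst w = 1 ∧ hP.snd w = w :=
  hP.exists_proj.choose_spec.choose_spec.2.2 w hw

theorem FactorPair.fst_ne_one {w : ↥(W₁ ⊔ W₂)} (hw : (w : G) ∉ W₂) : hP.fst w ≠ 1 := by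
  intro h
  apply hw
  rw [← hP.fst_mul_snd w, h, one_mul]
  exact hP.snd_mem w

theorem FactorPair.snd_ne_one {w : ↥(W₁ ⊔ W₂)} (hw : (w : G) ∉ W₁) : hP.snd w ≠ 1 := by
  intro h
  apply hw
  rw [← hP.fst_mul_snd w, h, mul_one]
  exact hP.fst_mem w

omit hP in
/-- Linear characters trivial on `W₂`. -/
abbrev leftHat (W₁ W₂ : Subgroup G) : Type _ :=
  {φ : ↥(W₁ ⊔ W₂) →* ℂˣ // ∀ w : ↥(W₁ ⊔ W₂), (w : G) ∈ W₂ → φ w = 1}

omit hP in
/-- Linear characters trivial on `W₁`. -/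
abbrev rightHat (W₁ W₂ : Subgroup G) : Type _ :=
  {ψ : ↥(W₁ ⊔ W₂) →* ℂˣ // ∀ w : ↥(W₁ ⊔ W₂), (w : G) ∈ W₁ → ψ w = 1}

theorem FactorPair.comp_fst_trivial (ω : ↥(W₁ ⊔ W₂) →* ℂˣ) (w : ↥(W₁ ⊔ W₂)) (hw : (w : G) ∈ W₂) :
    (ω.comp hP.fst) w = 1 := by
  rw [MonoidHom.comp_apply, (hP.fst_snd_of_mem_right hw).1, map_one]

theorem FactorPair.comp_snd_trivial (ω : ↥(W₁ ⊔ W₂) →* ℂˣ) (w : ↥(W₁ ⊔ W₂)) (hw : (w : G) ∈ W₁) :
    (ω.comp hP.snd) w = 1 := by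
  rw [MonoidHom.comp_apply, (hP.fst_snd_of_mem_left hw).2, map_one]

/-- Factorisation of linear characters. -/
noncomputable def FactorPair.hatEquiv :
    leftHat W₁ W₂ × rightHat W₁ W₂ ≃ (↥(W₁ ⊔ W₂) →* ℂˣ) where
  toFun p := p.1.1 * p.2.1
  invFun ω := (⟨ω.comp hP.fst, hP.comp_fst_trivial ω⟩, ⟨ω.comp hP.snd, hP.comp_snd_trivial ω⟩)
  left_inv p := by
    refine Prod.ext (Subtype.ext (MonoidHom.ext fun w => ?_)) (Subtype.ext (MonoidHom.ext fun w => ?_))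
    · simp only [MonoidHom.comp_apply, MonoidHom.mul_apply]
      rw [p.2.2 _ (hP.fst_mem w), mul_one]
      conv_rhs => rw [← hP.fst_mul_snd w, map_mul, p.1.2 _ (hP.snd_mem w), mul_one]
    · simp only [MonoidHom.comp_apply, MonoidHom.mul_apply]
      rw [p.1.2 _ (hP.snd_mem w), one_mul]
      conv_rhs => rw [← hP.fst_mul_snd w, map_mul, p.2.2 _ (hP.fst_mem w), one_mul]
  right_inv ω := MonoidHom.ext fun w => by
    simp only [MonoidHom.mul_apply, MonoidHom.comp_apply]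
    rw [← map_mul, hP.fst_mul_snd]

theorem FactorPair.hatEquiv_apply (p : leftHat W₁ W₂ × rightHat W₁ W₂) :
    hP.hatEquiv p = p.1.1 * p.2.1 := rfl

theorem FactorPair.card_hom : Nat.card (↥(W₁ ⊔ W₂) →* ℂˣ) = Nat.card ↥(W₁ ⊔ W₂) := by
  haveI := hP.cyclic
  letI : CommGroup ↥(W₁ ⊔ W₂) := IsCyclic.commGroup
  haveI : NeZero ((Monoid.exponent ↥(W₁ ⊔ W₂) : ℕ) : ℂ) :=
    ⟨Nat.cast_ne_zero.mpr Monoid.exponent_ne_zero_of_finite⟩
  exact CommGroup.card_monoidHom_of_hasEnoughRootsOfUnity _ ℂ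

theorem FactorPair.finite_hom : Finite (↥(W₁ ⊔ W₂) →* ℂˣ) :=
  Nat.finite_of_card_ne_zero (by rw [hP.card_hom]; exact Nat.card_pos.ne')

theorem FactorPair.exists_hom_ne_one {w : ↥(W₁ ⊔ W₂)} (hw : w ≠ 1) :
    ∃ ω : ↥(W₁ ⊔ W₂) →* ℂˣ, ω w ≠ 1 := by
  haveI := hP.cyclic
  letI : CommGroup ↥(W₁ ⊔ W₂) := IsCyclic.commGroup
  haveI : NeZero ((Monoid.exponent ↥(W₁ ⊔ W₂) : ℕ) : ℂ) :=
    ⟨Nat.cast_ne_zero.mpr Monoid.exponent_ne_zero_of_finite⟩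
  exact CommGroup.exists_apply_ne_one_of_hasEnoughRootsOfUnity _ ℂ hw

theorem FactorPair.card_leftHat : Nat.card (leftHat W₁ W₂) = Nat.card W₁ := by
  classical
  haveI : IsCyclic W₁ :=
    haveI := hP.cyclic
    isCyclic_of_injective (Subgroup.inclusion (le_sup_left : W₁ ≤ W₁ ⊔ W₂))
      (Subgroup.inclusion_injective _)
  letI : CommGroup ↥W₁ := IsCyclic.commGroup
  haveI : NeZero ((Monoid.exponent ↥W₁ : ℕ) : ℂ) :=
    ⟨Nat.cast_ne_zero.mpr Monoid.exponent_ne_zero_of_finite⟩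
  rw [← CommGroup.card_monoidHom_of_hasEnoughRootsOfUnity ↥W₁ ℂ]
  let p₁ : ↥(W₁ ⊔ W₂) →* ↥W₁ :=
    MonoidHom.mk' (fun w => ⟨hP.fst w, hP.fst_mem w⟩) fun v w => Subtype.ext (by simp)
  refine Nat.card_congr
    { toFun := fun φ => φ.1.comp (Subgroup.inclusion le_sup_left)
      invFun := fun f => ⟨f.comp p₁, fun w hw => ?_⟩
      left_inv := fun φ => Subtype.ext (MonoidHom.ext fun w => ?_)
      right_inv := fun f => MonoidHom.ext fun w => ?_ }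
  · have : p₁ w = 1 := Subtype.ext (by simp [p₁, (hP.fst_snd_of_mem_right hw).1])
    rw [MonoidHom.comp_apply, this, map_one]
  · show φ.1 (Subgroup.inclusion le_sup_left (p₁ w)) = φ.1 w
    have : Subgroup.inclusion (le_sup_left : W₁ ≤ W₁ ⊔ W₂) (p₁ w) = hP.fst w := rfl
    rw [this]
    conv_rhs => rw [← hP.fst_mul_snd w, map_mul, φ.2 _ (hP.snd_mem w), mul_one]
  · show f (p₁ (Subgroup.inclusion le_sup_left w)) = f w
    congr 1
    refine Subtype.ext ?_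
    exact congrArg (fun z : ↥(W₁ ⊔ W₂) => (z : G))
      (hP.fst_snd_of_mem_left (w := Subgroup.inclusion le_sup_left w) w.2).1

theorem FactorPair.card_sup : Nat.card ↥(W₁ ⊔ W₂) = Nat.card W₁ * Nat.card W₂ := by
  rw [← Nat.card_prod]
  refine (Nat.card_eq_of_bijective (fun p : W₁ × W₂ => (⟨p.1 * p.2, Subgroup.mul_mem _
    (Subgroup.mem_sup_left p.1.2) (Subgroup.mem_sup_right p.2.2)⟩ : ↥(W₁ ⊔ W₂))) ⟨?_, ?_⟩).symm
  · intro x y h
    have key : ∀ z : W₁ × W₂, hP.fst ⟨z.1 * z.2, Subgroup.mul_mem _ (Subgroup.mem_sup_left z.1.2)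
        (Subgroup.mem_sup_right z.2.2)⟩ = ⟨z.1, Subgroup.mem_sup_left z.1.2⟩ := fun z => by
      have : (⟨z.1 * z.2, Subgroup.mul_mem _ (Subgroup.mem_sup_left z.1.2)
        (Subgroup.mem_sup_right z.2.2)⟩ : ↥(W₁ ⊔ W₂)) =
          ⟨z.1, Subgroup.mem_sup_left z.1.2⟩ * ⟨z.2, Subgroup.mem_sup_right z.2.2⟩ := rfl
      rw [this, map_mul, (hP.fst_snd_of_mem_left (w := ⟨z.1, _⟩) z.1.2).1,
        (hP.fst_snd_of_mem_right (w := ⟨z.2, _⟩) z.2.2).1, mul_one]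
    have h1 := congrArg hP.fst h
    rw [key, key] at h1
    have h2 : x.1 = y.1 := Subtype.ext (congrArg (fun z : ↥(W₁ ⊔ W₂) => (z : G)) h1)
    have h3 := congrArg (fun z : ↥(W₁ ⊔ W₂) => (z : G)) h
    simp only [h2] at h3
    exact Prod.ext h2 (Subtype.ext (mul_left_cancel h3))
  · intro w
    exact ⟨(⟨_, hP.fst_mem w⟩, ⟨_, hP.snd_mem w⟩), hP.fst_mul_snd w⟩

theorem FactorPair.card_rightHat : Nat.card (rightHat W₁ W₂) = Nat.card W₂ := by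
  have h := Nat.card_congr hP.hatEquiv
  rw [Nat.card_prod, hP.card_hom, hP.card_sup, hP.card_leftHat] at h
  exact Nat.eq_of_mul_eq_mul_left Nat.card_pos h

omit hP in
theorem conj_hom_eq {W : Type*} [Group W] [Finite W] (ω : W →* ℂˣ) (w : W) :
    conj (ω w : ℂ) = ((ω⁻¹ w : ℂˣ) : ℂ) := by
  have hn : ‖(ω w : ℂ)‖ = 1 := Complex.norm_eq_one_of_pow_eq_one
    (by rw [← Units.val_pow_eq_pow_val, ← map_pow, pow_orderOf_eq_one, map_one, Units.val_one])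
    (orderOf_pos w).ne'
  rw [← Complex.inv_eq_conj hn, MonoidHom.inv_apply, Units.val_inv_eq_inv_val]

omit hP in
/-- Orthogonality of linear characters. -/
theorem classInner_hom {W : Type*} [Group W] [Fintype W] (ω ω' : W →* ℂˣ) [Decidable (ω = ω')] :
    Cfsg.classInner (fun w => (ω w : ℂ)) (fun w => (ω' w : ℂ)) = if ω = ω' then 1 else 0 := by
  unfold Cfsg.classInner
  have h : ∀ w, (ω w : ℂ) * conj (ω' w : ℂ) = (((ω * ω'⁻¹) w : ℂˣ) : ℂ) := fun w => by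
    rw [conj_hom_eq, MonoidHom.mul_apply, Units.val_mul]
  rw [Finset.sum_congr rfl fun w _ => h w]
  split_ifs with he
  · subst he
    simp [Nat.card_eq_fintype_card]
  · have hne : ω * ω'⁻¹ ≠ 1 := fun h => he (mul_inv_eq_one.mp h)
    obtain ⟨u, hu⟩ : ∃ u, (ω * ω'⁻¹) u ≠ 1 := by
      by_contra hc
      push Not at hc
      exact hne (MonoidHom.ext hc)
    have hshift : (((ω * ω'⁻¹) u : ℂˣ) : ℂ) * ∑ w, (((ω * ω'⁻¹) w : ℂˣ) : ℂ) =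
        ∑ w, (((ω * ω'⁻¹) w : ℂˣ) : ℂ) := by
      rw [Finset.mul_sum]
      refine Fintype.sum_equiv (Equiv.mulLeft u) _ _ fun w => ?_
      rw [Equiv.coe_mulLeft, map_mul, Units.val_mul]
    have hu' : (((ω * ω'⁻¹) u : ℂˣ) : ℂ) ≠ 1 := fun h => hu (Units.ext h)
    have : ∑ w, (((ω * ω'⁻¹) w : ℂˣ) : ℂ) = 0 := by
      by_contra h0
      exact hu' ((mul_eq_right₀ h0).mp hshift)
    rw [this, mul_zero]

/-- Sum of all linear characters at a non-trivial element. -/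
theorem FactorPair.sum_hom_eq_zero [Fintype (↥(W₁ ⊔ W₂) →* ℂˣ)] {w : ↥(W₁ ⊔ W₂)} (hw : w ≠ 1) :
    ∑ ω : ↥(W₁ ⊔ W₂) →* ℂˣ, (ω w : ℂ) = 0 := by
  obtain ⟨ω₀, h₀⟩ := hP.exists_hom_ne_one hw
  have h : (ω₀ w : ℂ) * ∑ ω : ↥(W₁ ⊔ W₂) →* ℂˣ, (ω w : ℂ) = ∑ ω : ↥(W₁ ⊔ W₂) →* ℂˣ, (ω w : ℂ) := by
    rw [Finset.mul_sum]
    refine Fintype.sum_equiv (Equiv.mulLeft ω₀) _ _ fun ω => ?_
    rw [Equiv.coe_mulLeft, MonoidHom.mul_apply, Units.val_mul]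
  by_contra h0
  exact h₀ (Units.ext ((mul_eq_right₀ h0).mp h))

theorem FactorPair.sum_leftHat_eq_zero [Fintype (leftHat W₁ W₂)] {w : ↥(W₁ ⊔ W₂)}
    (hw : (w : G) ∉ W₂) : ∑ φ : leftHat W₁ W₂, (φ.1 w : ℂ) = 0 := by
  obtain ⟨ω₀, h₀⟩ := hP.exists_hom_ne_one (hP.fst_ne_one hw)
  have h : ((ω₀.comp hP.fst) w : ℂ) * ∑ φ : leftHat W₁ W₂, (φ.1 w : ℂ) =
      ∑ φ : leftHat W₁ W₂, (φ.1 w : ℂ) := by
    rw [Finset.mul_sum]
    refine Fintype.sum_equiv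
      ((Equiv.mulLeft (ω₀.comp hP.fst)).subtypeEquiv fun φ => ⟨fun hφ v hv => ?_, fun hφ v hv => ?_⟩)
      _ _ fun φ => ?_
    · rw [Equiv.coe_mulLeft, MonoidHom.mul_apply, hP.comp_fst_trivial ω₀ v hv, hφ v hv, one_mul]
    · have := hφ v hv
      rwa [Equiv.coe_mulLeft, MonoidHom.mul_apply, hP.comp_fst_trivial ω₀ v hv, one_mul] at this
    · simp [Equiv.subtypeEquiv_apply]
  by_contra h0
  exact h₀ (Units.ext ((mul_eq_right₀ h0).mp h))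

theorem FactorPair.sum_rightHat_eq_zero [Fintype (rightHat W₁ W₂)] {w : ↥(W₁ ⊔ W₂)}
    (hw : (w : G) ∉ W₁) : ∑ ψ : rightHat W₁ W₂, (ψ.1 w : ℂ) = 0 := by
  obtain ⟨ω₀, h₀⟩ := hP.exists_hom_ne_one (hP.snd_ne_one hw)
  have h : ((ω₀.comp hP.snd) w : ℂ) * ∑ ψ : rightHat W₁ W₂, (ψ.1 w : ℂ) =
      ∑ ψ : rightHat W₁ W₂, (ψ.1 w : ℂ) := by
    rw [Finset.mul_sum]
    refine Fintype.sum_equiv
      ((Equiv.mulLeft (ω₀.comp hP.snd)).subtypeEquiv fun φ => ⟨fun hφ v hv => ?_, fun hφ v hv => ?_⟩)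
      _ _ fun φ => ?_
    · rw [Equiv.coe_mulLeft, MonoidHom.mul_apply, hP.comp_snd_trivial ω₀ v hv, hφ v hv, one_mul]
    · have := hφ v hv
      rwa [Equiv.coe_mulLeft, MonoidHom.mul_apply, hP.comp_snd_trivial ω₀ v hv, one_mul] at this
    · simp [Equiv.subtypeEquiv_apply]
  by_contra h0
  exact h₀ (Units.ext ((mul_eq_right₀ h0).mp h))

/-- Expansion of a function on `W₁W₂` in linear characters. -/
theorem FactorPair.expansion [Fintype ↥(W₁ ⊔ W₂)] [Fintype (↥(W₁ ⊔ W₂) →* ℂˣ)]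
    (f : ↥(W₁ ⊔ W₂) → ℂ) (w : ↥(W₁ ⊔ W₂)) :
    f w = ∑ ω : ↥(W₁ ⊔ W₂) →* ℂˣ, Cfsg.classInner f (fun x => (ω x : ℂ)) * (ω w : ℂ) := by
  classical
  have h : ∀ x : ↥(W₁ ⊔ W₂), ∑ ω : ↥(W₁ ⊔ W₂) →* ℂˣ, conj (ω x : ℂ) * (ω w : ℂ) =
      if x = w then (Nat.card ↥(W₁ ⊔ W₂) : ℂ) else 0 := by
    intro x
    have h1 : ∀ ω : ↥(W₁ ⊔ W₂) →* ℂˣ, conj (ω x : ℂ) * (ω w : ℂ) = (ω (x⁻¹ * w) : ℂ) := fun ω => by
      rw [conj_hom_eq, MonoidHom.inv_apply, map_mul, map_inv, Units.val_mul]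
    rw [Finset.sum_congr rfl fun ω _ => h1 ω]
    split_ifs with hx
    · subst hx
      simp only [inv_mul_cancel, map_one, Units.val_one, Finset.sum_const, Finset.card_univ, nsmul_eq_mul,
        mul_one, Fintype.card_eq_nat_card, hP.card_hom]
    · exact hP.sum_hom_eq_zero (fun h => hx (inv_mul_eq_one.mp h))
  simp only [Cfsg.classInner, mul_assoc, Finset.sum_mul, ← Finset.mul_sum]
  rw [Finset.sum_comm]
  simp only [← Finset.mul_sum, h, mul_ite, mul_zero, Finset.sum_ite_eq', Finset.mem_univ, if_true]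
  field_simp [Nat.card_pos.ne']

end CfsgLib.OddOrderChar
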