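import Cfsg.Prelude.Def_Characters
import Mathlib.Algebra.BigOperators.Finprod
import Mathlib.GroupTheory.QuotientGroup.Basic
import Mathlib.GroupTheory.Coset.Card

/-!
# Functions induced from normal subgroups
-/

set_option autoImplicit false

namespace CfsgLib.OddOrderChar

variable {G : Type*} [Group G]

theorem extendByZero_of_mem (H : Subgroup G) (θ : H → ℂ) {y : G} (hy : y ∈ H) :
    Cfsg.extendByZero H θ y = θ ⟨y, hy⟩ :=
  Subtype.val_injective.extend_apply θ 0 (⟨y, hy⟩ : H)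

theorem extendByZero_of_notMem (H : Subgroup G) (θ : H → ℂ) {y : G} (hy : y ∉ H) :
    Cfsg.extendByZero H θ y = 0 :=
  Function.extend_apply' θ (0 : G → ℂ) y (fun ⟨z, hz⟩ => hy (hz ▸ z.2))

/-- The conjugate `h ↦ θ (g h g⁻¹)` of a function on a normal subgroup. -/
def conjBy (H : Subgroup G) [hN : H.Normal] (θ : H → ℂ) (g : G) : H → ℂ :=
  fun h => θ ⟨g * h * g⁻¹, hN.conj_mem h h.2 g⟩

theorem conjBy_apply (H : Subgroup G) [hN : H.Normal] (θ : H → ℂ) (g : G) (h : H) :
    conjBy H θ g h = θ ⟨g * h * g⁻¹, hN.conj_mem h h.2 g⟩ := rfl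

theorem conjBy_one (H : Subgroup G) [H.Normal] (θ : H → ℂ) : conjBy H θ 1 = θ := by
  funext h; simp [conjBy]

theorem conjBy_mul (H : Subgroup G) [H.Normal] (θ : H → ℂ) (g g' : G) :
    conjBy H (conjBy H θ g) g' = conjBy H θ (g * g') := by
  funext h
  exact congrArg θ (Subtype.ext (by simp [mul_assoc]))

theorem conjBy_injective (H : Subgroup G) [H.Normal] (g : G) :
    Function.Injective (fun θ : H → ℂ => conjBy H θ g) := by
  intro a b hab
  simpa [conjBy_mul, conjBy_one] using congrArg (fun f => conjBy H f g⁻¹) hab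

variable [Fintype G]

/-- `indFun H θ` on `H` is the average of all conjugates of `θ`. -/
theorem indFun_normal_apply (H : Subgroup G) [hN : H.Normal] (θ : H → ℂ) (h : H) :
    Cfsg.indFun H θ h = (Nat.card H : ℂ)⁻¹ * ∑ g : G, conjBy H θ g h := by
  unfold Cfsg.indFun
  congr 1
  refine Fintype.sum_equiv (Equiv.inv G) _ _ fun x => ?_
  have hmem : x⁻¹ * (h : G) * x ∈ H := by simpa using hN.conj_mem h h.2 x⁻¹
  rw [extendByZero_of_mem H θ hmem]
  exact congrArg θ (Subtype.ext (by simp))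

theorem indFun_normal_eq_zero (H : Subgroup G) [hN : H.Normal] (θ : H → ℂ) {g : G} (hg : g ∉ H) :
    Cfsg.indFun H θ g = 0 := by
  unfold Cfsg.indFun
  rw [Finset.sum_eq_zero, mul_zero]
  intro x _
  refine extendByZero_of_notMem H θ fun h => hg ?_
  simpa [mul_assoc] using hN.conj_mem _ h x

open Classical in
/-- `(indFun H θ)|_H` as a multiple of the orbit sum. -/
theorem indFun_normal_eq_orbit_sum (H : Subgroup G) [hN : H.Normal] (θ : H → ℂ) :
    (fun h : H => Cfsg.indFun H θ h) =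
      ((Nat.card {g : G // ∀ h : H, θ ⟨g * h * g⁻¹, hN.conj_mem h h.2 g⟩ = θ h} : ℂ) /
        (Nat.card H : ℂ)) •
      ∑ᶠ ψ ∈ {ψ : H → ℂ | ∃ g : G, ψ = fun h : H => θ ⟨g * h * g⁻¹, hN.conj_mem h h.2 g⟩}, ψ := by
  set O := (Finset.univ : Finset G).image (conjBy H θ) with hO
  set r := Nat.card {g : G // ∀ h : H, θ ⟨g * h * g⁻¹, hN.conj_mem h h.2 g⟩ = θ h} with hr
  have hset : {ψ : H → ℂ | ∃ g : G, ψ = fun h : H => θ ⟨g * h * g⁻¹, hN.conj_mem h h.2 g⟩} =
      (O : Set (H → ℂ)) := by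
    ext ψ
    simp only [hO, Finset.coe_image, Finset.coe_univ, Set.image_univ, Set.mem_range, Set.mem_setOf_eq]
    exact ⟨fun ⟨g, hg⟩ => ⟨g, hg.symm⟩, fun ⟨g, hg⟩ => ⟨g, hg.symm⟩⟩
  rw [hset, finsum_mem_coe_finset]
  have hfib : ∀ ψ ∈ O, (Finset.univ.filter (fun g : G => conjBy H θ g = ψ)).card = r := by
    intro ψ hψ
    obtain ⟨g₀, -, rfl⟩ := Finset.mem_image.mp hψ
    rw [← Fintype.card_subtype, ← Nat.card_eq_fintype_card, hr]
    refine Nat.card_congr
      { toFun := fun g => ⟨g.1 * g₀⁻¹, fun h => ?_⟩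
        invFun := fun s => ⟨s.1 * g₀, ?_⟩
        left_inv := fun g => Subtype.ext (by simp)
        right_inv := fun s => Subtype.ext (by simp) }
    · have := congrArg (fun f => conjBy H f g₀⁻¹ h) g.2
      simp only [conjBy_mul, mul_inv_cancel, conjBy_one] at this
      exact this
    · have hs : conjBy H θ s.1 = θ := funext s.2
      rw [← conjBy_mul, hs]
  funext h
  rw [indFun_normal_apply, Pi.smul_apply, Finset.sum_apply, smul_eq_mul,
    ← Finset.sum_fiberwise_of_maps_to (t := O) (g := conjBy H θ)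
      (fun g _ => Finset.mem_image_of_mem _ (Finset.mem_univ g)), div_eq_inv_mul, mul_assoc]
  congr 1
  rw [Finset.mul_sum]
  refine Finset.sum_congr rfl fun ψ hψ => ?_
  rw [Finset.sum_congr rfl (g := fun _ => ψ h) (fun g hg => by rw [(Finset.mem_filter.mp hg).2]),
    Finset.sum_const, hfib ψ hψ, nsmul_eq_mul]

end CfsgLib.OddOrderChar
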