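import Cfsg.Agent.OddOrderChar.Reciprocity

/-!
# Clifford theory at the level of characters (Peterfalvi (1.5))

`conjBy H θ g` are the conjugates of a character `θ` of a normal subgroup `H`; the inertia group `T`
is given by its membership predicate.
-/

set_option autoImplicit false
set_option linter.style.haveILetI false
set_option linter.unusedSectionVars false

namespace CfsgLib.OddOrderChar

open CfsgLib.Characters
open scoped ComplexConjugate

variable {G : Type*} [Group G] [Fintype G] (H : Subgroup G) [hN : H.Normal] [Fintype H]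

theorem conjBy_eq_comp (θ : H → ℂ) (g : G) :
    conjBy H θ g = fun h : H => θ (MulAut.conjNormal (H := H) g h) := by
  funext h
  exact congrArg θ (Subtype.ext (by simp))

theorem isIrr_conjBy {θ : H → ℂ} (hθ : Cfsg.IsIrrCharacter H θ) (g : G) :
    Cfsg.IsIrrCharacter H (conjBy H θ g) := by
  rw [conjBy_eq_comp]
  exact isIrrCharacter_comp_equiv (MulAut.conjNormal (H := H) g : H ≃* H) hθ

/-- A conjugate has the same multiplicity in a restricted class function. -/
theorem classInner_res_conjBy {χ : G → ℂ} (hχ : Cfsg.IsClassFunction G χ) (θ : H → ℂ) (g : G) :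
    Cfsg.classInner (fun h : H => χ h) (conjBy H θ g) = Cfsg.classInner (fun h : H => χ h) θ := by
  have h1 : (fun h : H => χ h) = fun h : H => χ ((MulAut.conjNormal (H := H) g : H ≃* H) h) := by
    funext h
    exact (show χ (g * h * g⁻¹) = χ h from hχ h g).symm
  conv_lhs => rw [h1, conjBy_eq_comp]
  exact classInner_comp_equiv (MulAut.conjNormal (H := H) g : H ≃* H) (fun h : H => χ h) θ

theorem indFun_conjBy (θ : H → ℂ) (g : G) :
    Cfsg.indFun H (conjBy H θ g) = Cfsg.indFun H θ := by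
  funext y
  by_cases hy : y ∈ H
  · rw [show Cfsg.indFun H (conjBy H θ g) y = _ from indFun_normal_apply H _ ⟨y, hy⟩,
      show Cfsg.indFun H θ y = _ from indFun_normal_apply H _ ⟨y, hy⟩]
    congr 1
    refine Fintype.sum_equiv (Equiv.mulLeft g) _ _ fun x => ?_
    rw [conjBy_mul, Equiv.coe_mulLeft]
  · rw [indFun_normal_eq_zero H _ hy, indFun_normal_eq_zero H _ hy]

/-- Induced characters of non-conjugate irreducible characters are orthogonal. -/
theorem classInner_ind_ind_eq_zero {θ φ : H → ℂ} (hθ : Cfsg.IsIrrCharacter H θ)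
    (hφ : Cfsg.IsIrrCharacter H φ) (hne : ∀ g : G, φ ≠ conjBy H θ g) :
    Cfsg.classInner (Cfsg.indFun H φ) (Cfsg.indFun H θ) = 0 := by
  rw [classInner_indFun_left H φ (isClassFunction_ind H θ),
    show (fun h : H => Cfsg.indFun H θ h) = (Nat.card H : ℂ)⁻¹ • ∑ g : G, conjBy H θ g from
      funext fun h => by rw [indFun_normal_apply, Pi.smul_apply, Finset.sum_apply, smul_eq_mul],
    classInner_smul_right, classInner_sum_right, Finset.sum_eq_zero, mul_zero]
  exact fun g _ => classInner_isIrr_ne hφ (isIrr_conjBy H hθ g) (hne g)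

open Classical in
/-- The finite orbit of `θ`. -/
noncomputable def conjOrbit (θ : H → ℂ) : Finset (H → ℂ) :=
  (Finset.univ : Finset G).image (conjBy H θ)

theorem mem_conjOrbit {θ ψ : H → ℂ} : ψ ∈ conjOrbit H θ ↔ ∃ g : G, conjBy H θ g = ψ := by
  classical
  simp [conjOrbit]

/-- Clifford's theorem for characters. -/
theorem clifford_restrict {χ : G → ℂ} (hχ : Cfsg.IsIrrCharacter G χ) {θ : H → ℂ}
    (hθ : Cfsg.IsIrrCharacter H θ) (hne : Cfsg.classInner (fun h : H => χ h) θ ≠ 0) :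
    (fun h : H => χ h) = Cfsg.classInner (fun h : H => χ h) θ • ∑ ψ ∈ conjOrbit H θ, ψ := by
  classical
  set e := Cfsg.classInner (fun h : H => χ h) θ with he
  have hcl := isClassFunction_of_isIrr hχ
  have horb : ∀ ψ ∈ conjOrbit H θ, Cfsg.IsIrrCharacter H ψ := by
    intro ψ hψ
    obtain ⟨g, rfl⟩ := (mem_conjOrbit H).mp hψ
    exact isIrr_conjBy H hθ g
  refine classFunction_ext (isClassFunction_of_isCharacter (isCharacter_restrict H (isCharacter_of_isIrr hχ)))
    ?_ fun ψ => ?_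
  · intro x y
    simp only [Pi.smul_apply, Finset.sum_apply]
    congr 1
    exact Finset.sum_congr rfl fun ψ hψ => isClassFunction_of_isIrr (horb ψ hψ) x y
  · rw [classInner_smul_left, classInner_sum_left]
    by_cases hψ : (ψ : H → ℂ) ∈ conjOrbit H θ
    · rw [Finset.sum_eq_single (ψ : H → ℂ) (fun b hb hbne => classInner_isIrr_ne (horb b hb) ψ.2 hbne)
        (fun h => absurd hψ h), classInner_isIrr_self ψ.2, mul_one]
      obtain ⟨g, hg⟩ := (mem_conjOrbit H).mp hψ
      rw [← hg, classInner_res_conjBy H hcl θ g]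
    · rw [Finset.sum_eq_zero (fun b hb => classInner_isIrr_ne (horb b hb) ψ.2 (fun h => hψ (h ▸ hb))),
        mul_zero]
      have h0 := classInner_ind_ind_eq_zero H hθ ψ.2 (fun g hg => hψ ((mem_conjOrbit H).mpr ⟨g, hg.symm⟩))
      rcases classInner_eq_zero_constituent (isCharacter_indFun H (isCharacter_of_isIrr ψ.2))
        (isCharacter_indFun H (isCharacter_of_isIrr hθ)) h0 hχ with h | h
      · rw [classInner_indFun_left H _ hcl] at h
        rw [classInner_conj_symm, h, map_zero]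
      · rw [classInner_indFun_left H θ hcl, classInner_conj_symm, map_eq_zero] at h
        exact absurd h hne

/-- In the invariant case the restriction is a multiple of `θ`. -/
theorem clifford_restrict_invariant {χ : G → ℂ} (hχ : Cfsg.IsIrrCharacter G χ) {θ : H → ℂ}
    (hθ : Cfsg.IsIrrCharacter H θ) (hinv : ∀ g : G, conjBy H θ g = θ)
    (hne : Cfsg.classInner (fun h : H => χ h) θ ≠ 0) :
    (fun h : H => χ h) = Cfsg.classInner (fun h : H => χ h) θ • θ := by
  classical
  have h := clifford_restrict H hχ hθ hne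
  have ho : conjOrbit H θ = {θ} := by
    ext ψ
    rw [mem_conjOrbit, Finset.mem_singleton]
    exact ⟨fun ⟨g, hg⟩ => hg ▸ hinv g, fun hψ => ⟨1, hψ ▸ conjBy_one H θ⟩⟩
  rwa [ho, Finset.sum_singleton] at h

/-- The orbit has as many elements as the index of the inertia group. -/
theorem card_conjOrbit (θ : H → ℂ) (T : Subgroup G) (hT : ∀ g : G, g ∈ T ↔ conjBy H θ g = θ) :
    (conjOrbit H θ).card = T.index := by
  classical
  have hfib : ∀ ψ ∈ conjOrbit H θ,
      (Finset.univ.filter (fun g : G => conjBy H θ g = ψ)).card = Nat.card T := by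
    intro ψ hψ
    obtain ⟨g₀, rfl⟩ := (mem_conjOrbit H).mp hψ
    rw [← Fintype.card_subtype, ← Nat.card_eq_fintype_card]
    refine Nat.card_congr
      { toFun := fun g => ⟨g.1 * g₀⁻¹, ?_⟩
        invFun := fun s => ⟨s.1 * g₀, ?_⟩
        left_inv := fun g => Subtype.ext (by simp)
        right_inv := fun s => Subtype.ext (by simp) }
    · rw [hT, ← conjBy_mul, g.2, conjBy_mul, mul_inv_cancel, conjBy_one]
    · rw [← conjBy_mul, (hT _).mp s.2]
  have h := Finset.card_eq_sum_card_fiberwise (f := conjBy H θ) (s := (Finset.univ : Finset G))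
    (t := conjOrbit H θ) (fun g _ => (mem_conjOrbit H).mpr ⟨g, rfl⟩)
  rw [Finset.sum_congr rfl hfib, Finset.sum_const, smul_eq_mul, Finset.card_univ,
    Fintype.card_eq_nat_card, ← T.index_mul_card] at h
  exact (Nat.eq_of_mul_eq_mul_right Nat.card_pos h).symm

/-- Degrees of the constituents. -/
theorem clifford_degree {χ : G → ℂ} (hχ : Cfsg.IsIrrCharacter G χ) {θ : H → ℂ}
    (hθ : Cfsg.IsIrrCharacter H θ) (T : Subgroup G) (hT : ∀ g : G, g ∈ T ↔ conjBy H θ g = θ)
    (hne : Cfsg.classInner (fun h : H => χ h) θ ≠ 0) :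
    χ 1 = Cfsg.classInner (fun h : H => χ h) θ * ((T.index : ℂ) * θ 1) := by
  classical
  have h := congrFun (clifford_restrict H hχ hθ hne) (1 : H)
  simp only [OneMemClass.coe_one, Pi.smul_apply, Finset.sum_apply, smul_eq_mul] at h
  rw [h, Finset.sum_congr rfl (g := fun _ => θ 1) ?_, Finset.sum_const, nsmul_eq_mul,
    card_conjOrbit H θ T hT]
  intro ψ hψ
  obtain ⟨g, rfl⟩ := (mem_conjOrbit H).mp hψ
  exact congrArg θ (Subtype.ext (by simp))

/-- `θ` read on `H.subgroupOf T`. -/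
def onSubgroupOf (T : Subgroup G) (θ : H → ℂ) : H.subgroupOf T → ℂ :=
  fun x => θ ⟨(x : T), Subgroup.mem_subgroupOf.mp x.2⟩

theorem inertia_le {θ : H → ℂ} (hθ : Cfsg.IsClassFunction H θ) (T : Subgroup G)
    (hT : ∀ g : G, g ∈ T ↔ conjBy H θ g = θ) : H ≤ T := fun x hx => (hT x).mpr <| funext fun h =>
  (congrArg θ (Subtype.ext (by simp)) : θ _ = θ (⟨x, hx⟩ * h * ⟨x, hx⟩⁻¹)).trans (hθ h ⟨x, hx⟩)

variable (T : Subgroup G) [Fintype T] [Fintype (H.subgroupOf T)]

theorem classInner_onSubgroupOf (hHT : H ≤ T) (φ ψ : H → ℂ) :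
    Cfsg.classInner (onSubgroupOf H T φ) (onSubgroupOf H T ψ) = Cfsg.classInner φ ψ :=
  classInner_comp_equiv (Subgroup.subgroupOfEquivOfLe hHT) φ ψ

theorem isIrr_onSubgroupOf (hHT : H ≤ T) {θ : H → ℂ} (hθ : Cfsg.IsIrrCharacter H θ) :
    Cfsg.IsIrrCharacter (H.subgroupOf T) (onSubgroupOf H T θ) :=
  isIrrCharacter_comp_equiv (Subgroup.subgroupOfEquivOfLe hHT) hθ

theorem onSubgroupOf_invariant {θ : H → ℂ} (hT : ∀ g : G, g ∈ T ↔ conjBy H θ g = θ) (t : T) :
    conjBy (H.subgroupOf T) (onSubgroupOf H T θ) t = onSubgroupOf H T θ :=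
  funext fun x => congrFun ((hT t).mp t.2) ⟨((x : T) : G), Subgroup.mem_subgroupOf.mp x.2⟩

/-- Induction in two steps, for a character of a normal subgroup. -/
theorem indFun_trans (hHT : H ≤ T) (θ : H → ℂ) :
    Cfsg.indFun H θ = Cfsg.indFun T (Cfsg.indFun (H.subgroupOf T) (onSubgroupOf H T θ)) := by
  refine classFunction_ext (isClassFunction_ind H θ) (isClassFunction_ind T _) fun χ => ?_
  have hcl := isClassFunction_of_isIrr χ.2
  rw [classInner_indFun_left H θ hcl, classInner_indFun_left T _ hcl,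
    classInner_indFun_left (H.subgroupOf T) _
      (isClassFunction_of_isCharacter (isCharacter_restrict T (isCharacter_of_isIrr χ.2)))]
  exact (classInner_onSubgroupOf H T hHT θ fun h : H => (χ : G → ℂ) h).symm

/-- Clifford correspondence. -/
theorem clifford_correspondence {θ : H → ℂ} (hθ : Cfsg.IsIrrCharacter H θ)
    (hT : ∀ g : G, g ∈ T ↔ conjBy H θ g = θ) {ψ : T → ℂ} (hψ : Cfsg.IsIrrCharacter T ψ)
    (hne : Cfsg.classInner (fun x : H.subgroupOf T => ψ x) (onSubgroupOf H T θ) ≠ 0) :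
    Cfsg.IsIrrCharacter G (Cfsg.indFun T ψ) ∧
      Cfsg.classInner (fun h : H => Cfsg.indFun T ψ h) θ =
        Cfsg.classInner (fun x : H.subgroupOf T => ψ x) (onSubgroupOf H T θ) ∧
      ∀ ψ' : T → ℂ, Cfsg.IsIrrCharacter T ψ' →
        Cfsg.classInner (fun x : H.subgroupOf T => ψ' x) (onSubgroupOf H T θ) ≠ 0 →
        Cfsg.indFun T ψ' = Cfsg.indFun T ψ → ψ' = ψ := by
  classical
  have hHT := inertia_le H (isClassFunction_of_isIrr hθ) T hT
  have hθ' := isIrr_onSubgroupOf H T hHT hθ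
  have hψc := isCharacter_of_isIrr hψ
  have hind := isCharacter_indFun T hψc
  choose a ha using fun η : Cfsg.IrrCharacter T => classInner_character_irr
    (isCharacter_restrict (H.subgroupOf T) (isCharacter_of_isIrr η.2)) hθ'
  obtain ⟨d, -, hd⟩ := exists_degree_pos hψ
  obtain ⟨dt, hdt0, hdt⟩ := exists_degree_pos hθ
  have hψ1 : (d : ℂ) = (a ⟨ψ, hψ⟩ : ℂ) * (dt : ℂ) := by
    have h := congrFun (clifford_restrict_invariant (H.subgroupOf T) hψ hθ'
      (onSubgroupOf_invariant H T hT) hne) 1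
    rw [← hd, ← hdt, ← ha ⟨ψ, hψ⟩]
    have h1 : onSubgroupOf H T θ 1 = θ 1 := congrArg θ (Subtype.ext (by simp))
    rw [← h1]
    simpa using h
  have hind1 : Cfsg.indFun T ψ 1 = ((T.index * (a ⟨ψ, hψ⟩ * dt) : ℕ) : ℂ) := by
    rw [indFun_one, hd, hψ1]; push_cast; ring
  have ha0 : a ⟨ψ, hψ⟩ ≠ 0 := fun h => hne (by rw [show _ = _ from ha ⟨ψ, hψ⟩, h, Nat.cast_zero])
  have hind0 : Cfsg.indFun T ψ ≠ 0 := by
    intro h
    have h2 := congrFun h 1
    rw [hind1, Pi.zero_apply, Nat.cast_eq_zero] at h2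
    simp [ha0, hdt0.ne', T.index_ne_zero_of_finite] at h2
  obtain ⟨χ, hχ, hχψ⟩ := exists_constituent hind hind0
  have hclχ := isClassFunction_of_isIrr hχ
  have hresT := isCharacter_restrict T (isCharacter_of_isIrr hχ)
  choose b hb using fun η : Cfsg.IrrCharacter T => classInner_character_irr hresT η.2
  -- the multiplicity of `θ` in `χ`, through `T`
  have hk : Cfsg.classInner (fun h : H => χ h) θ = ((∑ η, b η * a η : ℕ) : ℂ) := by
    rw [← classInner_onSubgroupOf H T hHT]
    conv_lhs => rw [show onSubgroupOf H T (fun h : H => χ h) =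
      ∑ η : Cfsg.IrrCharacter T, (b η : ℂ) • (fun x : H.subgroupOf T => (η : T → ℂ) x) from
        funext fun x => by
          have h := congrFun (character_expansion hresT) (x : T)
          simpa [hb, onSubgroupOf] using h]
    rw [classInner_sum_left, Nat.cast_sum]
    exact Finset.sum_congr rfl fun η _ => by rw [classInner_smul_left, ha, Nat.cast_mul]
  have hbψ : b ⟨ψ, hψ⟩ ≠ 0 := by
    intro h
    apply hχψ
    have h2 := hb ⟨ψ, hψ⟩
    rw [h, Nat.cast_zero] at h2
    rw [classInner_indFun_left T ψ hclχ, classInner_conj_symm, h2, map_zero]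
  have hle : a ⟨ψ, hψ⟩ ≤ ∑ η, b η * a η := by
    refine le_trans ?_ (Finset.single_le_sum (f := fun η => b η * a η) (fun _ _ => Nat.zero_le _)
      (Finset.mem_univ ⟨ψ, hψ⟩))
    exact Nat.le_mul_of_pos_left _ (Nat.pos_of_ne_zero hbψ)
  have hk0 : Cfsg.classInner (fun h : H => χ h) θ ≠ 0 := by
    rw [hk, Nat.cast_ne_zero]; omega
  have hχ1 : χ 1 = ((T.index * ((∑ η, b η * a η) * dt) : ℕ) : ℂ) := by
    rw [clifford_degree H hχ hθ T hT hk0, hk, hdt]; push_cast; ring
  have heq : Cfsg.indFun T ψ = χ := by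
    refine eq_irr_of_degree_le hind hχ hχψ ?_
    rw [hind1, hχ1, Complex.natCast_re, Complex.natCast_re]
    exact_mod_cast Nat.mul_le_mul_left _ (Nat.mul_le_mul_right _ hle)
  have hkeq : ∑ η, b η * a η = a ⟨ψ, hψ⟩ := by
    have h := congrFun heq 1
    rw [hind1, hχ1, Nat.cast_inj] at h
    exact (Nat.eq_of_mul_eq_mul_right hdt0
      (Nat.eq_of_mul_eq_mul_left (Nat.pos_of_ne_zero T.index_ne_zero_of_finite) h)).symm
  refine ⟨heq ▸ hχ, by rw [heq, hk, hkeq]; exact (ha ⟨ψ, hψ⟩).symm, fun ψ' hψ' hne' he => ?_⟩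
  by_contra hne2
  have ha' : a ⟨ψ', hψ'⟩ ≠ 0 := fun h => hne' (by rw [show _ = _ from ha ⟨ψ', hψ'⟩, h, Nat.cast_zero])
  have hb' : b ⟨ψ', hψ'⟩ ≠ 0 := by
    intro h
    have h2 := hb ⟨ψ', hψ'⟩
    rw [h, Nat.cast_zero] at h2
    apply hχψ
    rw [← he, classInner_indFun_left T ψ' hclχ, classInner_conj_symm, h2, map_zero]
  have h3 : b ⟨ψ, hψ⟩ * a ⟨ψ, hψ⟩ + b ⟨ψ', hψ'⟩ * a ⟨ψ', hψ'⟩ ≤ ∑ η, b η * a η := by
    rw [← Finset.sum_pair (f := fun η => b η * a η) (a := (⟨ψ, hψ⟩ : Cfsg.IrrCharacter T))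
      (b := ⟨ψ', hψ'⟩) (fun h => hne2 (congrArg Subtype.val h).symm)]
    exact Finset.sum_le_sum_of_subset (Finset.subset_univ _)
  have h4 := Nat.le_mul_of_pos_left (a ⟨ψ, hψ⟩) (Nat.pos_of_ne_zero hbψ)
  have h5 := Nat.mul_pos (Nat.pos_of_ne_zero hb') (Nat.pos_of_ne_zero ha')
  omega

end CfsgLib.OddOrderChar
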