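import Cfsg.Agent.OddOrderChar.AbelianInertia
import Cfsg.Agent.OddOrderChar.CoprimeCoset
import Cfsg.Agent.RealChars.Basic
import Mathlib.GroupTheory.Complement

/-!
# Peterfalvi (4.3): characters of the kernel fixed by a complement
-/

set_option autoImplicit false
set_option linter.style.haveILetI false
set_option linter.unusedSectionVars false

namespace CfsgLib.OddOrderChar

open CfsgLib.Characters

variable {L : Type*} [Group L] [Finite L] (K W₂ : Subgroup L) [hK : K.Normal] (x : L)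

/-- An element of coprime order with abelian centraliser `W₂` in `K` fixes `|W₂|` classes of `K`. -/
theorem card_fixed_classes (hW₂ : IsMulCommutative W₂) (hcop : Nat.Coprime (orderOf x) (Nat.card K))
    (hC : K ⊓ Subgroup.centralizer ({x} : Set L) = W₂) :
    Nat.card {C : ConjClasses K // ∀ y, ConjClasses.mk y = C →
      IsConj ((MulAut.conjNormal (H := K) x : K ≃* K) y) y} = Nat.card W₂ := by
  classical
  have hmem : ∀ b, b ∈ W₂ ↔ b ∈ K ∧ x * b = b * x := fun b => by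
    rw [← hC]; simp [Subgroup.mem_centralizer_iff]
  obtain ⟨n, hn⟩ := exists_pow_extract hcop
  have hpK : ∀ c ∈ K, c ^ Nat.card K = 1 := fun c hc =>
    congrArg Subtype.val (pow_card_eq_one' (G := K) (x := ⟨c, hc⟩))
  have hext : ∀ c ∈ K, c * x = x * c → (c * x) ^ n = x := fun c hc h => by
    rw [h]; exact hn L x c h.symm (pow_orderOf_eq_one x) (hpK c hc)
  have hx1 : x ^ n = x := by simpa using hext 1 K.one_mem (by simp)
  have hval : ∀ k : K, (((MulAut.conjNormal (H := K) x : K ≃* K) k : K) : L) = x * k * x⁻¹ :=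
    fun k => MulAut.conjNormal_apply x k
  let f : W₂ → {C : ConjClasses K // ∀ y, ConjClasses.mk y = C →
      IsConj ((MulAut.conjNormal (H := K) x : K ≃* K) y) y} := fun c =>
    ⟨ConjClasses.mk ⟨c, ((hmem c).mp c.2).1⟩, fun y hy => by
      have hc := ConjClasses.mk_eq_mk_iff_isConj.mp hy
      have h1 := (MulAut.conjNormal (H := K) x : K ≃* K).toMonoidHom.map_isConj hc
      have h2 : (MulAut.conjNormal (H := K) x : K ≃* K) ⟨c, ((hmem c).mp c.2).1⟩ =
          ⟨c, ((hmem c).mp c.2).1⟩ := Subtype.ext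
            ((hval _).trans (mul_inv_eq_iff_eq_mul.mpr ((hmem c).mp c.2).2))
      refine h1.trans ?_
      show IsConj ((MulAut.conjNormal (H := K) x : K ≃* K) ⟨c, ((hmem c).mp c.2).1⟩) y
      rw [h2]
      exact hc.symm⟩
  refine (Nat.card_eq_of_bijective f ⟨?_, ?_⟩).symm
  · intro c c' hcc
    have h := ConjClasses.mk_eq_mk_iff_isConj.mp (congrArg Subtype.val hcc)
    obtain ⟨⟨k, hk⟩, hkc⟩ := isConj_iff.mp h
    have hkc' : k * (c : L) * k⁻¹ = c' := congrArg Subtype.val hkc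
    have hcx := ((hmem c).mp c.2).2
    have hcx' := ((hmem c').mp c'.2).2
    set H := K ⊓ Subgroup.centralizer ({(c : L)} : Set L) with hH
    have hxc : x * (c : L) * x⁻¹ = c := by rw [hcx, mul_inv_cancel_right]
    have hxn : x ∈ Subgroup.normalizer (H : Set L) := by
      rw [Subgroup.mem_normalizer_iff]
      intro y
      simp only [hH, Subgroup.mem_inf, Subgroup.mem_centralizer_iff, Set.mem_singleton_iff, forall_eq]
      constructor
      · rintro ⟨h1, h2⟩
        refine ⟨hK.conj_mem y h1 x, ?_⟩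
        calc (c : L) * (x * y * x⁻¹) = x * (c : L) * x⁻¹ * (x * y * x⁻¹) := by rw [hxc]
          _ = x * ((c : L) * y) * x⁻¹ := by group
          _ = x * (y * (c : L)) * x⁻¹ := by rw [h2]
          _ = x * y * x⁻¹ * (x * (c : L) * x⁻¹) := by group
          _ = x * y * x⁻¹ * (c : L) := by rw [hxc]
      · rintro ⟨h1, h2⟩
        refine ⟨by simpa [mul_assoc] using hK.conj_mem _ h1 x⁻¹, ?_⟩
        apply mul_left_cancel (a := x)
        apply mul_right_cancel (b := x⁻¹)
        calc x * ((c : L) * y) * x⁻¹ = x * (c : L) * x⁻¹ * (x * y * x⁻¹) := by group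
          _ = x * y * x⁻¹ * (c : L) := by rw [hxc, h2]
          _ = x * y * x⁻¹ * (x * (c : L) * x⁻¹) := by rw [hxc]
          _ = x * (y * (c : L)) * x⁻¹ := by group
    set u := k⁻¹ * x * k * x⁻¹ with hu
    have hcu : x * k * (c : L) * (x * k)⁻¹ = c' := by
      calc x * k * (c : L) * (x * k)⁻¹ = x * (k * (c : L) * k⁻¹) * x⁻¹ := by group
        _ = c' := by rw [hkc', hcx', mul_inv_cancel_right]
    have huH : u ∈ H := by
      refine ⟨?_, ?_⟩
      · have : u = k⁻¹ * (x * k * x⁻¹) := by rw [hu]; group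
        rw [this]; exact K.mul_mem (K.inv_mem hk) (hK.conj_mem k hk x)
      · refine Subgroup.mem_centralizer_iff.mpr ?_
        simp only [Set.mem_singleton_iff, forall_eq]
        have h3 : u * (c : L) * u⁻¹ = c := by
          calc u * (c : L) * u⁻¹ = k⁻¹ * x * k * (x⁻¹ * (c : L) * x) * k⁻¹ * x⁻¹ * k := by rw [hu]; group
            _ = k⁻¹ * x * k * (x⁻¹ * ((c : L) * x)) * k⁻¹ * x⁻¹ * k := by group
            _ = k⁻¹ * x * k * (c : L) * k⁻¹ * x⁻¹ * k := by rw [← hcx]; group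
            _ = k⁻¹ * (x * k * (c : L) * (x * k)⁻¹) * k := by group
            _ = k⁻¹ * (k * (c : L) * k⁻¹) * k := by rw [hcu, hkc']
            _ = c := by group
        exact (mul_inv_eq_iff_eq_mul.mp h3).symm
    obtain ⟨z, hz, d, hd, hdx, hze⟩ := exists_conj_coset_fixed H x hxn
      (hcop.coprime_dvd_right (Subgroup.card_dvd_of_le inf_le_left)) u huH
    have h4 := congrArg (· ^ n) hze
    simp only [conj_pow] at h4
    have h5 : u * x = k⁻¹ * x * k⁻¹⁻¹ := by rw [hu]; group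
    rw [h5, conj_pow, hx1, hext d hd.1 hdx] at h4
    have h6 : k * z⁻¹ ∈ W₂ := by
      rw [hmem]
      refine ⟨K.mul_mem hk (K.inv_mem hz.1), ?_⟩
      calc x * (k * z⁻¹) = k * z⁻¹ * (z * (k⁻¹ * x * k⁻¹⁻¹) * z⁻¹) := by group
        _ = k * z⁻¹ * x := by rw [h4]
    have hz' : z * (c : L) = (c : L) * z := by
      exact (Subgroup.mem_centralizer_iff.mp hz.2 _ rfl).symm
    have h7 : k * z⁻¹ * (c : L) = (c : L) * (k * z⁻¹) :=
      congrArg Subtype.val (mul_comm' (⟨k * z⁻¹, h6⟩ : W₂) c)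
    refine Subtype.ext ?_
    rw [← hkc']
    calc (c : L) = (c : L) * (k * z⁻¹) * (k * z⁻¹)⁻¹ := by group
      _ = k * z⁻¹ * ((c : L) * z) * k⁻¹ := by rw [← h7]; group
      _ = k * z⁻¹ * (z * (c : L)) * k⁻¹ := by rw [hz']
      _ = k * (c : L) * k⁻¹ := by group
  · rintro ⟨C, hC'⟩
    obtain ⟨a, rfl⟩ := ConjClasses.mk_surjective C
    obtain ⟨y, hy⟩ := isConj_iff.mp (hC' a rfl)
    have hy' : (y : L) * (x * a * x⁻¹) * (y : L)⁻¹ = a := by
      have := congrArg Subtype.val hy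
      simpa [hval] using this
    have hcomm : (y : L) * x * a = a * ((y : L) * x) := by
      calc (y : L) * x * a = (y : L) * (x * a * x⁻¹) * (y : L)⁻¹ * ((y : L) * x) := by group
        _ = a * ((y : L) * x) := by rw [hy']
    obtain ⟨z, hz, c, hc, hcx, hze⟩ := exists_conj_coset_fixed K x
      (Subgroup.mem_normalizer_iff.mpr fun n => ⟨fun hn => hK.conj_mem n hn x,
        fun hn => by simpa [mul_assoc] using hK.conj_mem _ hn x⁻¹⟩) hcop y y.2
    have hcomm' : Commute (c * x) (z * a * z⁻¹) := by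
      rw [← hze]
      calc z * ((y : L) * x) * z⁻¹ * (z * a * z⁻¹) = z * ((y : L) * x * a) * z⁻¹ := by group
        _ = z * (a * ((y : L) * x)) * z⁻¹ := by rw [hcomm]
        _ = z * a * z⁻¹ * (z * ((y : L) * x) * z⁻¹) := by group
    have hxz : x * (z * a * z⁻¹) = (z * a * z⁻¹) * x := by
      have := hcomm'.pow_left n
      rwa [hext c hc hcx] at this
    refine ⟨⟨z * a * z⁻¹, (hmem _).mpr ⟨hK.conj_mem _ a.2 z, hxz⟩⟩, Subtype.ext ?_⟩
    refine ConjClasses.mk_eq_mk_iff_isConj.mpr (isConj_iff.mpr ⟨⟨z, hz⟩⁻¹, Subtype.ext ?_⟩)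
    simp [mul_assoc]

/-- The same count for irreducible characters, by Brauer's permutation lemma. -/
theorem card_fixed_irr (hW₂ : IsMulCommutative W₂) (hcop : Nat.Coprime (orderOf x) (Nat.card K))
    (hC : K ⊓ Subgroup.centralizer ({x} : Set L) = W₂) :
    Nat.card {θ : Cfsg.IrrCharacter K // conjBy K (θ : K → ℂ) x = θ} = Nat.card W₂ := by
  haveI : Fintype K := Fintype.ofFinite _
  rw [← card_fixed_classes K W₂ x hW₂ hcop hC]
  refine Eq.trans ?_ (RealChars.card_fixed_eq (fun k => (MulAut.conjNormal (H := K) x : K ≃* K) k)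
    (fun {y z} h => (MulAut.conjNormal (H := K) x : K ≃* K).toMonoidHom.map_isConj h)
    (fun χ hχ => isIrrCharacter_comp_equiv (G := K) (H := K) (MulAut.conjNormal (H := K) x : K ≃* K) hχ))
  haveI : Fintype L := Fintype.ofFinite _
  exact Nat.card_congr (Equiv.subtypeEquivRight fun θ => by rw [conjBy_eq_comp]; rfl)

variable (W₁ : Subgroup L)

/-- Peterfalvi (4.3): irreducible characters of `K` in the set-up `L = K ⋊ W₁`. -/
theorem kernel_characters [Fintype L] [Fintype K] (hKW₁ : K ⊓ W₁ = ⊥) (hKW₁' : K ⊔ W₁ = ⊤)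
    (hW₁ : W₁ ≠ ⊥) (hW₁c : IsCyclic W₁) (hHall : Nat.Coprime (Nat.card W₁) W₁.index)
    (hW₂c : IsMulCommutative W₂)
    (hC : ∀ x ∈ W₁, x ≠ 1 → K ⊓ Subgroup.centralizer ({x} : Set L) = W₂) :
    (∀ θ : K → ℂ, Cfsg.IsIrrCharacter K θ → (∃ x ∈ W₁, conjBy K θ x ≠ θ) →
      Cfsg.IsIrrCharacter L (Cfsg.indFun K θ)) ∧
    Nat.card {θ : Cfsg.IrrCharacter K // ∀ x ∈ W₁, conjBy K (θ : K → ℂ) x = θ} = Nat.card W₂ ∧
    (∀ θ : K → ℂ, Cfsg.IsIrrCharacter K θ → (∀ x ∈ W₁, conjBy K θ x = θ) →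
      ∃ C : Finset (L → ℂ), C.card = Nat.card W₁ ∧ (∀ μ ∈ C, Cfsg.IsIrrCharacter L μ) ∧
        Cfsg.indFun K θ = ∑ μ ∈ C, μ) := by
  classical
  have hcompl : Subgroup.IsComplement' K W₁ :=
    Subgroup.isComplement'_of_disjoint_and_mul_eq_univ (disjoint_iff.mpr hKW₁)
      (by rw [← Subgroup.normal_mul, hKW₁', Subgroup.coe_top])
  have hcopK : Nat.Coprime (Nat.card W₁) (Nat.card K) := by rwa [← hcompl.index_eq_card]
  have hindex : K.index = Nat.card W₁ := hcompl.symm.index_eq_card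
  have hord : ∀ y ∈ W₁, Nat.Coprime (orderOf y) (Nat.card K) := fun y hy =>
    hcopK.coprime_dvd_left (by rw [← Subgroup.orderOf_mk y hy]; exact orderOf_dvd_natCard _)
  have hdecomp : ∀ g : L, ∃ k ∈ K, ∃ w ∈ W₁, k * w = g := by
    intro g
    have : g ∈ ((K ⊔ W₁ : Subgroup L) : Set L) := by rw [hKW₁']; trivial
    rw [Subgroup.normal_mul] at this
    exact Set.mem_mul.mp this
  obtain ⟨⟨x, hx⟩, hgen⟩ := hW₁c.exists_generator
  have hgen' : ∀ y ∈ W₁, ∃ m : ℕ, x ^ m = y := by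
    intro y hy
    obtain ⟨m, hm⟩ := (mem_powers_iff_mem_zpowers (G := W₁)).mpr (hgen ⟨y, hy⟩)
    exact ⟨m, congrArg Subtype.val hm⟩
  have hx1 : x ≠ 1 := by
    rintro rfl
    apply hW₁
    rw [Subgroup.eq_bot_iff_forall]
    intro y hy
    obtain ⟨m, hm⟩ := hgen' y hy
    simpa using hm.symm
  have hpow : ∀ (θ : K → ℂ), conjBy K θ x = θ → ∀ y ∈ W₁, conjBy K θ y = θ := by
    intro θ h y hy
    obtain ⟨m, rfl⟩ := hgen' y hy
    clear hy
    induction m with
    | zero => rw [pow_zero, conjBy_one]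
    | succ m ih => rw [pow_succ, ← conjBy_mul, ih, h]
  have hcount : Nat.card {θ : Cfsg.IrrCharacter K // ∀ y ∈ W₁, conjBy K (θ : K → ℂ) y = θ} =
      Nat.card W₂ := by
    rw [← card_fixed_irr K W₂ x hW₂c (hord x hx) (hC x hx hx1)]
    exact Nat.card_congr (Equiv.subtypeEquivRight fun θ => ⟨fun h => h x hx, fun h => hpow _ h⟩)
  have hsame : ∀ y ∈ W₁, y ≠ 1 → ∀ θ : Cfsg.IrrCharacter K, conjBy K (θ : K → ℂ) y = θ →
      ∀ z ∈ W₁, conjBy K (θ : K → ℂ) z = θ := by
    intro y hy hy1 θ hθ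
    by_contra hne
    let incl : {θ : Cfsg.IrrCharacter K // ∀ y ∈ W₁, conjBy K (θ : K → ℂ) y = θ} →
        {θ : Cfsg.IrrCharacter K // conjBy K (θ : K → ℂ) y = θ} := fun φ => ⟨φ.1, φ.2 y hy⟩
    have hinj : Function.Injective incl := fun a b h => Subtype.ext (congrArg Subtype.val h :)
    have hbij := (Nat.bijective_iff_injective_and_card incl).mpr
      ⟨hinj, by rw [hcount, card_fixed_irr K W₂ y hW₂c (hord y hy) (hC y hy hy1)]⟩
    obtain ⟨φ, hφ⟩ := hbij.2 ⟨θ, hθ⟩
    have h' : φ.1 = θ := congrArg Subtype.val hφ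
    exact hne (h' ▸ φ.2)
  have hstab : ∀ θ : K → ℂ, Cfsg.IsIrrCharacter K θ → ∀ k ∈ K, conjBy K θ k = θ :=
    fun θ hθ k hk => funext fun h =>
      (congrArg θ (Subtype.ext (by simp)) : θ _ = θ (⟨k, hk⟩ * h * ⟨k, hk⟩⁻¹)).trans
        (isClassFunction_of_isIrr hθ h ⟨k, hk⟩)
  refine ⟨fun θ hθ hmove => ?_, hcount, fun θ hθ hfix => ?_⟩
  · refine isIrr_of_classInner_self (isCharacter_indFun K (isCharacter_of_isIrr hθ)) ?_
    have hTK : ∀ g : L, conjBy K θ g = θ ↔ g ∈ K := by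
      refine fun g => ⟨fun hg => ?_, hstab θ hθ g⟩
      obtain ⟨k, hk, w, hw, rfl⟩ := hdecomp g
      rw [← conjBy_mul, hstab θ hθ k hk] at hg
      by_cases hw1 : w = 1
      · simpa [hw1] using hk
      · obtain ⟨z, hz, hzne⟩ := hmove
        exact absurd (hsame w hw hw1 ⟨θ, hθ⟩ hg z hz) hzne
    rw [classInner_indFun_left K θ (isClassFunction_ind K θ),
      show (fun h : K => Cfsg.indFun K θ h) = (Nat.card K : ℂ)⁻¹ • ∑ g : L, conjBy K θ g from
        funext fun h => by rw [indFun_normal_apply, Pi.smul_apply, Finset.sum_apply, smul_eq_mul],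
      classInner_smul_right, classInner_sum_right,
      Finset.sum_congr rfl (g := fun g => if g ∈ K then (1 : ℂ) else 0) (fun g _ => ?_),
      Finset.sum_boole, map_inv₀, Complex.conj_natCast]
    · rw [← Fintype.card_subtype, ← Nat.card_eq_fintype_card]
      exact inv_mul_cancel₀ (Nat.cast_ne_zero.mpr Nat.card_pos.ne')
    · split_ifs with hg
      · rw [(hTK g).mpr hg, classInner_isIrr_self hθ]
      · exact classInner_isIrr_ne hθ (isIrr_conjBy K hθ g) (fun e => hg ((hTK g).mp e.symm))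
  · have hall : ∀ g : L, g ∈ (⊤ : Subgroup L) ↔ conjBy K θ g = θ := by
      refine fun g => ⟨fun _ => ?_, fun _ => trivial⟩
      obtain ⟨k, hk, w, hw, rfl⟩ := hdecomp g
      rw [← conjBy_mul, hstab θ hθ k hk, hfix w hw]
    haveI : IsMulCommutative W₁ := inferInstance
    have hab : ∀ a ∈ (⊤ : Subgroup L), ∀ b ∈ (⊤ : Subgroup L), a * b * a⁻¹ * b⁻¹ ∈ K := by
      intro a _ b _
      rw [← QuotientGroup.eq_one_iff]
      obtain ⟨k, hk, v, hv, rfl⟩ := hdecomp a
      obtain ⟨k', hk', w, hw, rfl⟩ := hdecomp b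
      have h1 : ((k : L) : L ⧸ K) = 1 := (QuotientGroup.eq_one_iff k).mpr hk
      have h2 : ((k' : L) : L ⧸ K) = 1 := (QuotientGroup.eq_one_iff k').mpr hk'
      have hvw : v * w = w * v := congrArg Subtype.val (mul_comm' (⟨v, hv⟩ : W₁) ⟨w, hw⟩)
      simp only [QuotientGroup.mk_mul, QuotientGroup.mk_inv, h1, h2, one_mul]
      rw [← QuotientGroup.mk_mul, hvw, QuotientGroup.mk_mul]; group
    obtain ⟨e, C, he, hC', hcard, hsum, -, hone⟩ := induced_abelian_inertia K hθ ⊤ hall hab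
    obtain rfl := hone (by rw [Subgroup.relIndex_top_right, hindex]; exact hcopK.symm)
    refine ⟨C, ?_, hC', by simpa using hsum⟩
    rw [Subgroup.relIndex_top_right, hindex] at hcard
    simpa using hcard

end CfsgLib.OddOrderChar
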