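import Cfsg.Prelude.Def_OddOrderLocal
import Cfsg.Agent.OddOrderChar.CoprimeCoset
import Mathlib.GroupTheory.Complement

/-!
# The group-theoretic set-up of Peterfalvi (4.2)
-/

set_option autoImplicit false

namespace CfsgLib.OddOrderChar

variable {L : Type*} [Group L] [Finite L]

/-- In the set-up `L = K ⋊ W₁` with `C_K(x) = W₂`, the group `W₁ W₂` is self-normalising cyclic. -/
theorem selfNormalizingCyclic_of_hall (K W₁ W₂ : Subgroup L) [hK : K.Normal] (hKW₁ : K ⊓ W₁ = ⊥)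
    (hKW₁' : K ⊔ W₁ = ⊤) (hW₁ : W₁ ≠ ⊥) (hW₁c : IsCyclic W₁)
    (hHall : Nat.Coprime (Nat.card W₁) W₁.index) (hW₂ : W₂ ≠ ⊥) (hW₂c : IsCyclic W₂)
    (hW₂K : W₂ ≤ K)
    (hC : ∀ x ∈ W₁, x ≠ 1 → K ⊓ Subgroup.centralizer ({x} : Set L) = W₂) :
    Cfsg.IsSelfNormalizingCyclic W₁ W₂ := by
  classical
  have hd : W₁ ⊓ W₂ = ⊥ := le_bot_iff.mp (le_trans (inf_le_inf_left _ hW₂K) (by rw [inf_comm, hKW₁]))
  have hmemC : ∀ x ∈ W₁, x ≠ 1 → ∀ b, (b ∈ W₂ ↔ b ∈ K ∧ x * b = b * x) := by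
    intro x hx hx1 b
    rw [← hC x hx hx1]
    simp [Subgroup.mem_centralizer_iff]
  have hcomm : ∀ a ∈ W₁, ∀ b ∈ W₂, a * b = b * a := by
    intro a ha b hb
    by_cases ha1 : a = 1
    · simp [ha1]
    · exact ((hmemC a ha ha1 b).1 hb).2
  have hcompl : Subgroup.IsComplement' K W₁ :=
    Subgroup.isComplement'_of_disjoint_and_mul_eq_univ (disjoint_iff.mpr hKW₁)
      (by rw [← Subgroup.normal_mul, hKW₁', Subgroup.coe_top])
  have hcop : Nat.Coprime (Nat.card W₁) (Nat.card K) := by rwa [← hcompl.index_eq_card]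
  have hcop2 : Nat.Coprime (Nat.card W₁) (Nat.card W₂) :=
    hcop.coprime_dvd_right (Subgroup.card_dvd_of_le hW₂K)
  have hprod : ∀ w ∈ W₁ ⊔ W₂, ∃ a ∈ W₁, ∃ b ∈ W₂, a * b = w := by
    intro w hw
    have hw' : w ∈ ((W₁ ⊔ W₂ : Subgroup L) : Set L) := hw
    rw [Subgroup.coe_mul_of_left_le_normalizer_right] at hw'
    · exact Set.mem_mul.mp hw'
    · intro a ha
      rw [Subgroup.mem_normalizer_iff]
      refine fun b => ⟨fun hb => ?_, fun hb => ?_⟩
      · rwa [hcomm a ha b hb, mul_inv_cancel_right]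
      · have h := hcomm a⁻¹ (W₁.inv_mem ha) _ hb
        have : b = a⁻¹ * (a * b * a⁻¹) * a := by group
        rw [this, h]; simpa using hb
  let e : ↥W₁ × ↥W₂ →* ↥(W₁ ⊔ W₂) :=
    { toFun := fun p => ⟨p.1 * p.2, Subgroup.mul_mem _ (Subgroup.mem_sup_left p.1.2)
        (Subgroup.mem_sup_right p.2.2)⟩
      map_one' := Subtype.ext (by simp)
      map_mul' := fun p q => Subtype.ext (by
        show (p.1 : L) * q.1 * ((p.2 : L) * q.2) = (p.1 : L) * p.2 * ((q.1 : L) * q.2)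
        have h := hcomm q.1 q.1.2 p.2 p.2.2
        calc (p.1 : L) * q.1 * ((p.2 : L) * q.2) = p.1 * (q.1 * p.2) * q.2 := by group
          _ = p.1 * (p.2 * q.1) * q.2 := by rw [h]
          _ = _ := by group) }
  have he : Function.Surjective e := fun w => by
    obtain ⟨a, ha, b, hb, hab⟩ := hprod w w.2
    exact ⟨⟨⟨a, ha⟩, ⟨b, hb⟩⟩, Subtype.ext hab⟩
  haveI : IsCyclic (↥W₁ × ↥W₂) := Group.isCyclic_prod_iff.mpr ⟨hW₁c, hW₂c, hcop2⟩
  have hcyc : IsCyclic ↥(W₁ ⊔ W₂) := isCyclic_of_surjective e he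
  refine ⟨hW₁, hW₂, hd, hcomm, hcyc, fun X hX hXne => le_antisymm ?_ ?_⟩
  · intro g hg
    obtain ⟨w, hw⟩ := hXne
    obtain ⟨hwW, hwn⟩ := hX hw
    obtain ⟨hw'W, -⟩ := hX ((Subgroup.mem_set_normalizer_iff.mp hg w).mp hw)
    obtain ⟨a, ha, b, hb, rfl⟩ := hprod w hwW
    obtain ⟨a', ha', b', hb', hab'⟩ := hprod _ hw'W
    have ha1 : a ≠ 1 := by
      rintro rfl
      exact hwn (Or.inr (by simpa using hb))
    obtain ⟨n, hn⟩ := exists_pow_extract hcop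
    have hp1 : ∀ x ∈ W₁, x ^ Nat.card W₁ = 1 := fun x hx => by
      have := pow_card_eq_one' (G := W₁) (x := ⟨x, hx⟩)
      exact congrArg Subtype.val this
    have hpK : ∀ x ∈ K, x ^ Nat.card K = 1 := fun x hx => by
      have := pow_card_eq_one' (G := K) (x := ⟨x, hx⟩)
      exact congrArg Subtype.val this
    have h1 : (a * b) ^ n = a := hn L a b (hcomm a ha b hb) (hp1 a ha) (hpK b (hW₂K hb))
    have h2 : (a' * b') ^ n = a' := hn L a' b' (hcomm a' ha' b' hb') (hp1 a' ha') (hpK b' (hW₂K hb'))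
    have h3 := congrArg (· ^ n) hab'
    simp only [conj_pow, h1, h2] at h3
    obtain ⟨k, hk, t, ht, rfl⟩ : ∃ k ∈ K, ∃ t ∈ W₁, k * t = g := by
      have : g ∈ ((K ⊔ W₁ : Subgroup L) : Set L) := by rw [hKW₁']; trivial
      rw [Subgroup.normal_mul] at this
      exact Set.mem_mul.mp this
    have hta : t * a * t⁻¹ = a := by
      have : IsMulCommutative W₁ := inferInstance
      have h := congrArg Subtype.val (mul_comm' (⟨t, ht⟩ : W₁) ⟨a, ha⟩)
      simp only [Subgroup.coe_mul] at h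
      rw [h, mul_inv_cancel_right]
    have h4 : a' = k * a * k⁻¹ := by
      rw [h3]
      calc k * t * a * (k * t)⁻¹ = k * (t * a * t⁻¹) * k⁻¹ := by group
        _ = _ := by rw [hta]
    have h5 : a' * a⁻¹ = 1 := by
      have hmem : a' * a⁻¹ ∈ K ⊓ W₁ := ⟨by
        rw [h4]
        simpa [mul_assoc] using K.mul_mem hk (hK.conj_mem _ (K.inv_mem hk) a), W₁.mul_mem ha' (W₁.inv_mem ha)⟩
      rwa [hKW₁, Subgroup.mem_bot] at hmem
    have h6 : a = k * a * k⁻¹ := (mul_inv_eq_one.mp h5).symm.trans h4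
    have hk2 : k ∈ W₂ := (hmemC a ha ha1 k).2 ⟨hk, eq_mul_inv_iff_mul_eq.mp h6⟩
    exact Subgroup.mul_mem _ (Subgroup.mem_sup_right hk2) (Subgroup.mem_sup_left ht)
  · intro g hg
    rw [Subgroup.mem_set_normalizer_iff]
    have key : ∀ g ∈ W₁ ⊔ W₂, ∀ x ∈ X, g * x * g⁻¹ ∈ X := by
      intro g hg x hx
      have hab : IsMulCommutative ↥(W₁ ⊔ W₂) := inferInstance
      have h := congrArg Subtype.val (mul_comm' (⟨g, hg⟩ : ↥(W₁ ⊔ W₂)) ⟨x, (hX hx).1⟩)
      simp only [Subgroup.coe_mul] at h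
      rwa [h, mul_inv_cancel_right]
    refine fun x => ⟨key g hg x, fun hx => ?_⟩
    have := key g⁻¹ (Subgroup.inv_mem _ hg) _ hx
    simpa [mul_assoc] using this

end CfsgLib.OddOrderChar
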