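import Cfsg.Agent.OddOrderChar.CyclicTIRational
import Cfsg.Agent.OddOrderChar.TypePLike
import Cfsg.Agent.Characters.Classes

/-!
# Peterfalvi (4.3)(b): the characters `μ` of `L = K ⋊ W₁`
-/

set_option autoImplicit false
set_option linter.style.haveILetI false
set_option linter.unusedSectionVars false

namespace CfsgLib.OddOrderChar

open CfsgLib.Characters
open scoped ComplexConjugate

variable {L : Type*} [Group L] [Fintype L] {K W₁ W₂ : Subgroup L}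

/-- The projection onto the complement. -/
theorem exists_compl_proj [K.Normal] (hKW₁ : K ⊓ W₁ = ⊥) (hKW₁' : K ⊔ W₁ = ⊤) :
    ∃ π : L →* ↥W₁, (∀ k ∈ K, π k = 1) ∧ (∀ a : W₁, π (a : L) = a) ∧
      ∀ g, g * ((π g : L))⁻¹ ∈ K := by
  have hdec : ∀ g : L, ∃ t : W₁, g * (t : L)⁻¹ ∈ K := by
    intro g
    have : g ∈ ((K ⊔ W₁ : Subgroup L) : Set L) := by rw [hKW₁']; trivial
    rw [Subgroup.normal_mul] at this
    obtain ⟨k, hk, t, ht, rfl⟩ := Set.mem_mul.mp this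
    exact ⟨⟨t, ht⟩, by simpa using hk⟩
  have huniq : ∀ (g : L) (s t : W₁), g * (s : L)⁻¹ ∈ K → g * (t : L)⁻¹ ∈ K → s = t := by
    intro g s t hs ht
    have h : (t : L) * (s : L)⁻¹ ∈ K ⊓ W₁ :=
      ⟨by simpa [mul_assoc] using K.mul_mem (K.inv_mem ht) hs, W₁.mul_mem t.2 (W₁.inv_mem s.2)⟩
    rw [hKW₁, Subgroup.mem_bot, mul_inv_eq_one] at h
    exact Subtype.ext h.symm
  choose π hπ using hdec
  refine ⟨MonoidHom.mk' π fun g h => huniq (g * h) _ _ (hπ _) ?_, fun k hk => ?_, fun a => ?_, hπ⟩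
  · have := K.mul_mem (hπ g) (Subgroup.Normal.conj_mem inferInstance _ (hπ h) (π g : L))
    simp only [Subgroup.coe_mul, mul_inv_rev]
    simpa [mul_assoc] using this
  · exact huniq k _ 1 (hπ k) (by simpa using hk)
  · exact huniq (a : L) _ a (hπ a) (by simp)

/-- `W \ W₂` is a TI subset of `L` with normaliser `W`. -/
theorem typeP_mem_of_conj [K.Normal] (hW₁c : IsCyclic W₁)
    (hHall : Nat.Coprime (Nat.card W₁) (Nat.card K)) (hW₂K : W₂ ≤ K)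
    (hC : ∀ x ∈ W₁, x ≠ 1 → K ⊓ Subgroup.centralizer ({x} : Set L) = W₂)
    (hP : FactorPair W₁ W₂) {π : L →* ↥W₁} (hπK : ∀ k ∈ K, π k = 1)
    (hπ : ∀ a : W₁, π (a : L) = a) (hπd : ∀ g, g * ((π g : L))⁻¹ ∈ K)
    (w : ↥(W₁ ⊔ W₂)) (hw : (w : L) ∉ W₂) {g : L} (hg : g * (w : L) * g⁻¹ ∈ W₁ ⊔ W₂) :
    g ∈ W₁ ⊔ W₂ := by
  obtain ⟨n, hn⟩ := exists_pow_extract hHall
  have hfst : ∀ v : ↥(W₁ ⊔ W₂), (π (v : L) : L) = (hP.fst v : L) := by
    intro v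
    conv_lhs => rw [← hP.fst_mul_snd v]
    rw [Subgroup.coe_mul, map_mul, hπK _ (hW₂K (hP.snd_mem v)), mul_one]
    exact congrArg Subtype.val (hπ ⟨_, hP.fst_mem v⟩)
  have hext : ∀ v : ↥(W₁ ⊔ W₂), (v : L) ^ n = (hP.fst v : L) := by
    intro v
    have hc : (hP.fst v : L) * hP.snd v = hP.snd v * hP.fst v :=
      congrArg Subtype.val (hP.mul_comm' (hP.fst v) (hP.snd v))
    conv_lhs => rw [← hP.fst_mul_snd v]
    rw [Subgroup.coe_mul]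
    exact hn L _ _ hc
      (congrArg Subtype.val (pow_card_eq_one' (G := W₁) (x := ⟨_, hP.fst_mem v⟩)))
      (congrArg Subtype.val (pow_card_eq_one' (G := K) (x := ⟨_, hW₂K (hP.snd_mem v)⟩)))
  haveI : IsMulCommutative W₁ := inferInstance
  have hfix : π (g * (w : L) * g⁻¹) = π (w : L) := by
    rw [map_mul, map_mul, map_inv, mul_comm' (π g), mul_inv_cancel_right]
  have h1 : g * (hP.fst w : L) * g⁻¹ = (hP.fst w : L) := by
    calc g * (hP.fst w : L) * g⁻¹ = (g * (w : L) * g⁻¹) ^ n := by rw [conj_pow, hext]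
      _ = (hP.fst ⟨_, hg⟩ : L) := hext ⟨_, hg⟩
      _ = (hP.fst w : L) := by rw [← hfst, ← hfst]; exact congrArg Subtype.val hfix
  have ha1 : (hP.fst w : L) ≠ 1 := fun h => hP.fst_ne_one hw (Subtype.ext h)
  have hk : g * ((π g : L))⁻¹ ∈ W₂ := by
    rw [← hC _ (hP.fst_mem w) ha1]
    refine ⟨hπd g, Subgroup.mem_centralizer_iff.mpr fun y hy => ?_⟩
    rw [Set.mem_singleton_iff.mp hy]
    have ht : (hP.fst w : L) * ((π g : L))⁻¹ = ((π g : L))⁻¹ * hP.fst w := by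
      have := congrArg Subtype.val
        (mul_comm' (⟨_, hP.fst_mem w⟩ : W₁) (π g)⁻¹)
      simpa using this
    have hga : g * (hP.fst w : L) = hP.fst w * g := mul_inv_eq_iff_eq_mul.mp h1
    rw [← mul_assoc, ← hga, mul_assoc, ht, ← mul_assoc]
  have := Subgroup.mul_mem (W₁ ⊔ W₂) (Subgroup.mem_sup_right hk) (Subgroup.mem_sup_left (π g).2)
  simpa using this

/-- Outside `K` every element is conjugate into `W \ W₂`. -/
theorem typeP_exists_conj [K.Normal] (hHall : Nat.Coprime (Nat.card W₁) (Nat.card K)) (hW₂K : W₂ ≤ K)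
    (hKW₁ : K ⊓ W₁ = ⊥)
    (hC : ∀ x ∈ W₁, x ≠ 1 → K ⊓ Subgroup.centralizer ({x} : Set L) = W₂)
    {π : L →* ↥W₁} (hπd : ∀ g, g * ((π g : L))⁻¹ ∈ K) {g : L} (hg : g ∉ K) :
    ∃ (z : L) (w : ↥(W₁ ⊔ W₂)), (w : L) ∉ W₂ ∧ z * g * z⁻¹ = w := by
  set t := (π g : L) with ht
  have ht1 : t ≠ 1 := fun h => hg (by simpa [← ht, h] using hπd g)
  have hord : Nat.Coprime (orderOf t) (Nat.card K) :=
    hHall.coprime_dvd_left (by rw [← Subgroup.orderOf_mk t (π g).2]; exact orderOf_dvd_natCard _)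
  obtain ⟨z, -, c, hc, hct, he⟩ := exists_conj_coset_fixed K t
    (Subgroup.mem_normalizer_iff.mpr fun m =>
      ⟨fun hm => Subgroup.Normal.conj_mem inferInstance m hm t,
        fun hm => by simpa [mul_assoc] using Subgroup.Normal.conj_mem inferInstance _ hm t⁻¹⟩)
    hord (g * t⁻¹) (hπd g)
  rw [inv_mul_cancel_right] at he
  have hc2 : c ∈ W₂ := by
    rw [← hC t (π g).2 ht1]
    exact ⟨hc, Subgroup.mem_centralizer_iff.mpr fun y hy => by rw [Set.mem_singleton_iff.mp hy, hct]⟩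
  refine ⟨z, ⟨c * t, Subgroup.mul_mem _ (Subgroup.mem_sup_right hc2)
    (Subgroup.mem_sup_left (π g).2)⟩, fun h => ht1 ?_, he⟩
  have h2 : t ∈ K ⊓ W₁ :=
    ⟨by simpa using K.mul_mem (K.inv_mem hc) (hW₂K h), (π g).2⟩
  rwa [hKW₁, Subgroup.mem_bot] at h2

/-- Induction does nothing on `W \ W₂` to functions vanishing on `W₂`. -/
theorem indFun_eq_of_ti (hP : FactorPair W₁ W₂)
    (hTI : ∀ w : ↥(W₁ ⊔ W₂), (w : L) ∉ W₂ → ∀ g : L, g * (w : L) * g⁻¹ ∈ W₁ ⊔ W₂ → g ∈ W₁ ⊔ W₂)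
    (f : ↥(W₁ ⊔ W₂) → ℂ) (w : ↥(W₁ ⊔ W₂))
    (hw : (w : L) ∉ W₂) : Cfsg.indFun (W₁ ⊔ W₂) f w = f w := by
  classical
  have hval : ∀ x : L, Cfsg.extendByZero (W₁ ⊔ W₂) f (x⁻¹ * (w : L) * x) =
      if x ∈ W₁ ⊔ W₂ then f w else 0 := by
    intro x
    by_cases hx : x ∈ W₁ ⊔ W₂
    · rw [if_pos hx, extendByZero_of_mem _ f (Subgroup.mul_mem _
        (Subgroup.mul_mem _ (Subgroup.inv_mem _ hx) w.2) hx)]
      refine congrArg f (Subtype.ext ?_)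
      have hc : x * (w : L) = (w : L) * x := congrArg Subtype.val (hP.mul_comm' ⟨x, hx⟩ w)
      show x⁻¹ * (w : L) * x = w
      rw [mul_assoc, ← hc]; group
    · rw [if_neg hx, extendByZero_of_notMem _ f]
      exact fun hm => hx ((Subgroup.inv_mem_iff _).mp (hTI w hw x⁻¹ (by rwa [inv_inv])))
  unfold Cfsg.indFun
  rw [Finset.sum_congr rfl fun x _ => hval x, Finset.sum_ite, Finset.sum_const, Finset.sum_const_zero,
    add_zero, nsmul_eq_mul, ← Fintype.card_subtype, ← Nat.card_eq_fintype_card, ← mul_assoc,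
    inv_mul_cancel₀ (Nat.cast_ne_zero.mpr Nat.card_pos.ne'), one_mul]

/-- Induction of a function vanishing on `W₂` vanishes on `K`. -/
theorem indFun_eq_zero_of_mem [K.Normal] (hKW : ∀ w : ↥(W₁ ⊔ W₂), (w : L) ∈ K → (w : L) ∈ W₂)
    (f : ↥(W₁ ⊔ W₂) → ℂ) (hf : ∀ w : ↥(W₁ ⊔ W₂), (w : L) ∈ W₂ → f w = 0) {g : L} (hg : g ∈ K) :
    Cfsg.indFun (W₁ ⊔ W₂) f g = 0 := by
  unfold Cfsg.indFun
  rw [Finset.sum_eq_zero, mul_zero]
  intro x _
  by_cases hm : x⁻¹ * g * x ∈ W₁ ⊔ W₂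
  · rw [extendByZero_of_mem _ f hm]
    refine hf _ (hKW _ ?_)
    simpa using Subgroup.Normal.conj_mem inferInstance g hg x⁻¹
  · rw [extendByZero_of_notMem _ f hm]

/-- The product of an irreducible character and a linear one. -/
theorem isIrr_linear_mul {χ : L → ℂ} (h : Cfsg.IsIrrCharacter L χ) (τ : L →* ℂˣ) :
    Cfsg.IsIrrCharacter L (fun g => (τ g : ℂ) * χ g) := by
  refine isIrr_of_classInner_self
    (isCharacter_mul (isCharacter_homFun τ) (isCharacter_of_isIrr h)) ?_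
  rw [← classInner_isIrr_self h]
  unfold Cfsg.classInner
  congr 1
  refine Finset.sum_congr rfl fun g _ => ?_
  have h1 : (τ g : ℂ) * conj (τ g : ℂ) = 1 := by
    rw [conj_hom_eq, ← Units.val_mul, MonoidHom.inv_apply, mul_inv_cancel, Units.val_one]
  rw [map_mul]
  linear_combination (χ g * conj (χ g)) * h1

theorem IsSignedIrr.linear_mul {u : L → ℂ} (h : IsSignedIrr u) (τ : L →* ℂˣ) :
    IsSignedIrr (fun g => (τ g : ℂ) * u g) := by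
  rcases h with h | h
  · exact Or.inl (isIrr_linear_mul h τ)
  · refine Or.inr ?_
    convert isIrr_linear_mul h τ using 1
    funext g
    simp

/-- Peterfalvi (4.3)(b). -/
theorem typeP_mu [hK : K.Normal] (hKW₁ : K ⊓ W₁ = ⊥) (hKW₁' : K ⊔ W₁ = ⊤) (hW₁ : W₁ ≠ ⊥)
    (hW₁c : IsCyclic W₁) (hHall : Nat.Coprime (Nat.card W₁) W₁.index) (hW₂ : W₂ ≠ ⊥)
    (hW₂c : IsCyclic W₂) (hW₂K : W₂ ≤ K)
    (hC : ∀ x ∈ W₁, x ≠ 1 → K ⊓ Subgroup.centralizer ({x} : Set L) = W₂)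
    (hodd : Odd (Nat.card ↥(W₁ ⊔ W₂))) :
    ∃ (μ : (↥(W₁ ⊔ W₂) →* ℂˣ) → (L → ℂ)) (δ : (↥(W₁ ⊔ W₂) →* ℂˣ) → ℂ),
      Function.Injective μ ∧ (∀ ω, Cfsg.IsIrrCharacter L (μ ω)) ∧ (∀ ω, δ ω = 1 ∨ δ ω = -1) ∧
      (∀ ω ω' : ↥(W₁ ⊔ W₂) →* ℂˣ, (∀ w : ↥(W₁ ⊔ W₂), (w : L) ∈ W₂ → ω w = ω' w) →
        δ ω = δ ω' ∧ Cfsg.indFun (W₁ ⊔ W₂) (fun w => (ω w : ℂ) - (ω' w : ℂ)) = δ ω • (μ ω - μ ω')) ∧
      (∀ ω, ∀ w : ↥(W₁ ⊔ W₂), (w : L) ∉ W₂ → μ ω w = δ ω * (ω w : ℂ)) ∧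
      (∀ θ : L → ℂ, Cfsg.IsIrrCharacter L θ → (∀ ω, θ ≠ μ ω) →
        ∀ w : ↥(W₁ ⊔ W₂), (w : L) ∉ W₂ → θ w = 0) ∧
      (∀ ω, ∃ n : ℤ, μ ω 1 - δ ω = n * (Nat.card W₁ : ℂ)) := by
  classical
  have hcompl : Subgroup.IsComplement' K W₁ :=
    Subgroup.isComplement'_of_disjoint_and_mul_eq_univ (disjoint_iff.mpr hKW₁)
      (by rw [← Subgroup.normal_mul, hKW₁', Subgroup.coe_top])
  have hcop : Nat.Coprime (Nat.card W₁) (Nat.card K) := by rwa [← hcompl.index_eq_card]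
  have hW := selfNormalizingCyclic_of_hall K W₁ W₂ hKW₁ hKW₁' hW₁ hW₁c hHall hW₂ hW₂c hW₂K hC
  have hP := factorPair_of_snc hW
  haveI := hP.finite_hom
  letI : Fintype ↥(W₁ ⊔ W₂) := Fintype.ofFinite _
  letI : Fintype (↥(W₁ ⊔ W₂) →* ℂˣ) := Fintype.ofFinite _
  letI : Fintype (leftHat W₁ W₂) := Fintype.ofFinite _
  letI : Fintype (rightHat W₁ W₂) := Fintype.ofFinite _
  obtain ⟨π, hπK, hπ, hπd⟩ := exists_compl_proj hKW₁ hKW₁'
  have hTI : ∀ w : ↥(W₁ ⊔ W₂), (w : L) ∉ W₂ → ∀ g : L, g * (w : L) * g⁻¹ ∈ W₁ ⊔ W₂ →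
      g ∈ W₁ ⊔ W₂ := fun w hw g hg => typeP_mem_of_conj hW₁c hcop hW₂K hC hP hπK hπ hπd w hw hg
  have hKW : ∀ w : ↥(W₁ ⊔ W₂), (w : L) ∈ K → (w : L) ∈ W₂ := by
    intro w hw
    have h1 : (hP.fst w : L) ∈ K := by
      have : (w : L) * (hP.snd w : L)⁻¹ ∈ K := K.mul_mem hw (K.inv_mem (hW₂K (hP.snd_mem w)))
      rwa [← congrArg Subtype.val (hP.fst_mul_snd w), Subgroup.coe_mul, mul_inv_cancel_right] at this
    have h2 : (hP.fst w : L) ∈ K ⊓ W₁ := ⟨h1, hP.fst_mem w⟩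
    rw [hKW₁, Subgroup.mem_bot] at h2
    rw [← hP.fst_mul_snd w, Subgroup.coe_mul, h2, one_mul]
    exact hP.snd_mem w
  obtain ⟨χ, hχ⟩ := exists_cyclicTIFamily hW hodd
  -- inflation to `L` of a linear character
  let incl : ↥W₁ →* ↥(W₁ ⊔ W₂) := Subgroup.inclusion le_sup_left
  let τ : (↥(W₁ ⊔ W₂) →* ℂˣ) → (L →* ℂˣ) := fun ρ => ρ.comp (incl.comp π)
  have hτK : ∀ ρ, ∀ k ∈ K, τ ρ k = 1 := fun ρ k hk => by simp [τ, hπK k hk]
  have hτW : ∀ ρ : ↥(W₁ ⊔ W₂) →* ℂˣ, (∀ w : ↥(W₁ ⊔ W₂), (w : L) ∈ W₂ → ρ w = 1) →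
      ∀ w : ↥(W₁ ⊔ W₂), τ ρ w = ρ w := by
    intro ρ hρ w
    have e : incl (π (w : L)) = hP.fst w := by
      refine Subtype.ext ?_
      show ((π (w : L) : L)) = (hP.fst w : L)
      conv_lhs => rw [← hP.fst_mul_snd w]
      rw [Subgroup.coe_mul, map_mul, hπK _ (hW₂K (hP.snd_mem w)), mul_one]
      exact congrArg Subtype.val (hπ ⟨_, hP.fst_mem w⟩)
    show ρ (incl (π (w : L))) = ρ w
    rw [e]
    conv_rhs => rw [← hP.fst_mul_snd w, map_mul, hρ _ (hP.snd_mem w), mul_one]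
  have htwist : ∀ ω ω' : ↥(W₁ ⊔ W₂) →* ℂˣ, (∀ w : ↥(W₁ ⊔ W₂), (w : L) ∈ W₂ → ω w = ω' w) →
      χ ω' = fun g => (τ (ω' * ω⁻¹) g : ℂ) * χ ω g := by
    intro ω ω' h
    have hρ : ∀ w : ↥(W₁ ⊔ W₂), (w : L) ∈ W₂ → (ω' * ω⁻¹) w = 1 := fun w hw => by
      rw [MonoidHom.mul_apply, MonoidHom.inv_apply, h w hw, mul_inv_cancel]
    refine (tiFamily_unique hW hodd hχ ω' (IsSignedIrr.linear_mul (hχ.irr_or_neg ω) _)
      (fun w h1 h2 => ?_)).symm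
    rw [hτW _ hρ w, hχ.eq_on ω w h1 h2, hχ.eq_on ω' w h1 h2, ← Units.val_mul, MonoidHom.mul_apply,
      MonoidHom.inv_apply, inv_mul_cancel_right]
  -- values on `W₁`
  have hA : ∀ (ψ : rightHat W₁ W₂) (a : ↥(W₁ ⊔ W₂)), (a : L) ∈ W₁ → (a : L) ∉ W₂ →
      χ ψ.1 a = 1 := by
    intro ψ a ha ha2
    by_cases hψ : ψ.1 = 1
    · rw [hψ, hχ.map_one]
    have ha1 : a ≠ 1 := fun h => ha2 (by rw [h]; exact W₂.one_mem)
    obtain ⟨ω₀, hω₀⟩ := hP.exists_hom_ne_one ha1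
    let φ : leftHat W₁ W₂ := ⟨ω₀.comp hP.fst, hP.comp_fst_trivial ω₀⟩
    have hφa : φ.1 a ≠ 1 := by
      show ω₀ (hP.fst a) ≠ 1
      rwa [(hP.fst_snd_of_mem_left ha).1]
    have hφ : φ.1 ≠ 1 := fun h => hφa (by rw [h]; rfl)
    have hind := congrFun (hχ.induced_eq φ.1 ψ.1 hφ hψ φ.2 ψ.2) (a : L)
    rw [show Cfsg.indFun (W₁ ⊔ W₂)
      (fun w => 1 - (φ.1 w : ℂ) - (ψ.1 w : ℂ) + (φ.1 w : ℂ) * (ψ.1 w : ℂ)) a = _ from
        indFun_eq_of_ti hP hTI _ a ha2] at hind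
    have e1 : χ φ.1 a = (φ.1 a : ℂ) := by
      have := htwist 1 φ.1 fun w hw => (φ.2 w hw).symm
      rw [this]
      beta_reduce
      rw [hχ.map_one, mul_one, hτW _ (fun w hw => by simp [φ.2 w hw]) a]
      simp
    have e2 : χ (φ.1 * ψ.1) a = (φ.1 a : ℂ) * χ ψ.1 a := by
      have := htwist ψ.1 (φ.1 * ψ.1) fun w hw => by rw [MonoidHom.mul_apply, φ.2 w hw, one_mul]
      rw [this]
      beta_reduce
      rw [hτW _ (fun w hw => by simp [φ.2 w hw]) a]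
      simp
    rw [ψ.2 a ha, e1, e2, Units.val_one] at hind
    have h0 : (1 - (φ.1 a : ℂ)) * (1 - χ ψ.1 a) = 0 := by linear_combination -hind
    rcases mul_eq_zero.mp h0 with h | h
    · exact absurd (Units.ext (sub_eq_zero.mp h).symm) hφa
    · exact (sub_eq_zero.mp h).symm
  have hcomp : ∀ ω : ↥(W₁ ⊔ W₂) →* ℂˣ, ∀ w : ↥(W₁ ⊔ W₂), (w : L) ∈ W₂ →
      (ω.comp hP.snd) w = ω w := fun ω w hw => by
    rw [MonoidHom.comp_apply, (hP.fst_snd_of_mem_right hw).2]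
  have hval : ∀ ω, ∀ w : ↥(W₁ ⊔ W₂), (w : L) ∉ W₂ → χ ω w = (ω w : ℂ) := by
    intro ω w hw
    by_cases h1 : (w : L) ∈ W₁
    · rw [htwist (ω.comp hP.snd) ω (hcomp ω)]
      beta_reduce
      rw [hA ⟨_, hP.comp_snd_trivial ω⟩ w h1 hw, mul_one,
        hτW _ (fun v hv => by
          rw [MonoidHom.mul_apply, MonoidHom.inv_apply, hcomp ω v hv, mul_inv_cancel]) w,
        MonoidHom.mul_apply, MonoidHom.inv_apply, hP.comp_snd_trivial ω w h1, inv_one, mul_one]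
    · exact hχ.eq_on ω w h1 hw
  have hind : ∀ ω ω' : ↥(W₁ ⊔ W₂) →* ℂˣ, (∀ w : ↥(W₁ ⊔ W₂), (w : L) ∈ W₂ → ω w = ω' w) →
      Cfsg.indFun (W₁ ⊔ W₂) (fun w => (ω w : ℂ) - (ω' w : ℂ)) = χ ω - χ ω' := by
    intro ω ω' h
    funext g
    by_cases hg : g ∈ K
    · rw [indFun_eq_zero_of_mem hKW _ (fun w hw => by rw [h w hw, sub_self]) hg, Pi.sub_apply,
        htwist ω ω' h]
      simp [hτK _ g hg]
    · obtain ⟨z, w, hw, he⟩ := typeP_exists_conj hcop hW₂K hKW₁ hC hπd hg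
      rw [← isClassFunction_ind _ _ g z, Pi.sub_apply,
        ← (IsSignedIrr.isClassFunction (hχ.irr_or_neg ω)) g z,
        ← (IsSignedIrr.isClassFunction (hχ.irr_or_neg ω')) g z, he, indFun_eq_of_ti hP hTI _ w hw,
        hval ω w hw, hval ω' w hw]
  -- signs
  let δ : (↥(W₁ ⊔ W₂) →* ℂˣ) → ℂ := fun ω => if Cfsg.IsIrrCharacter L (χ ω) then 1 else -1
  have hδ : ∀ ω, δ ω = 1 ∨ δ ω = -1 := fun ω => by simp only [δ]; split_ifs <;> simp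
  have hδ2 : ∀ ω, δ ω * δ ω = 1 := fun ω => by rcases hδ ω with h | h <;> rw [h] <;> norm_num
  have hμirr : ∀ ω, Cfsg.IsIrrCharacter L (δ ω • χ ω) := by
    intro ω
    simp only [δ]
    split_ifs with h
    · rwa [one_smul]
    · rw [neg_one_smul]
      exact (hχ.irr_or_neg ω).resolve_left h
  have hδeq : ∀ ω ω' : ↥(W₁ ⊔ W₂) →* ℂˣ, (∀ w : ↥(W₁ ⊔ W₂), (w : L) ∈ W₂ → ω w = ω' w) →
      δ ω = δ ω' := by
    intro ω ω' h
    have key : Cfsg.IsIrrCharacter L (χ ω) ↔ Cfsg.IsIrrCharacter L (χ ω') :=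
      ⟨fun hi => by rw [htwist ω ω' h]; exact isIrr_linear_mul hi _,
        fun hi => by rw [htwist ω' ω fun w hw => (h w hw).symm]; exact isIrr_linear_mul hi _⟩
    simp only [δ, key]
  refine ⟨fun ω => δ ω • χ ω, δ, ?_, hμirr, hδ, fun ω ω' h => ⟨hδeq ω ω' h, ?_⟩, ?_, ?_, ?_⟩
  · intro ω ω' h
    by_contra hne
    have h0 := congrArg (fun f => Cfsg.classInner f (χ ω)) h
    simp only [classInner_smul_left, hχ.orthonormal, if_pos, if_neg (Ne.symm hne), mul_one, mul_zero] at h0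
    have := hδ2 ω
    rw [h0, mul_zero] at this
    exact zero_ne_one this
  · rw [hind ω ω' h]
    simp only [← hδeq ω ω' h, ← smul_sub, smul_smul, hδ2, one_smul]
  · intro ω w hw
    show δ ω * χ ω w = _
    rw [hval ω w hw]
  · intro θ hθ hne w hw
    have horth : ∀ ω, Cfsg.classInner θ (χ ω) = 0 := by
      intro ω
      have e : χ ω = δ ω • (δ ω • χ ω) := by rw [smul_smul, hδ2, one_smul]
      rw [e, classInner_smul_right, classInner_isIrr_ne hθ (hμirr ω) (hne ω), mul_zero]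
    let c : (↥(W₁ ⊔ W₂) →* ℂˣ) → ℂ := fun ω =>
      Cfsg.classInner (fun x : ↥(W₁ ⊔ W₂) => θ x) (fun x => (ω x : ℂ))
    have hc : ∀ (φ : leftHat W₁ W₂) (ψ : rightHat W₁ W₂), c (φ.1 * ψ.1) = c ψ.1 := by
      intro φ ψ
      have h1 : Cfsg.classInner θ (Cfsg.indFun (W₁ ⊔ W₂)
          (fun x => ((φ.1 * ψ.1) x : ℂ) - (ψ.1 x : ℂ))) = 0 := by
        rw [hind (φ.1 * ψ.1) ψ.1 (fun x hx => by rw [MonoidHom.mul_apply, φ.2 x hx, one_mul]),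
          classInner_sub_right, horth, horth, sub_zero]
      rw [classInner_indFun_right _ _ (isClassFunction_of_isIrr hθ),
        show (fun x => ((φ.1 * ψ.1) x : ℂ) - (ψ.1 x : ℂ)) =
          (fun x => ((φ.1 * ψ.1) x : ℂ)) - (fun x => (ψ.1 x : ℂ)) from rfl,
        classInner_sub_right, sub_eq_zero] at h1
      exact h1
    rw [hP.expansion (fun x : ↥(W₁ ⊔ W₂) => θ x) w]
    show ∑ ω : ↥(W₁ ⊔ W₂) →* ℂˣ, c ω * (ω w : ℂ) = 0
    rw [← Equiv.sum_comp hP.hatEquiv (fun ω => c ω * (ω w : ℂ)), Fintype.sum_prod_type, Finset.sum_comm]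
    refine Finset.sum_eq_zero fun ψ _ => ?_
    simp only [hP.hatEquiv_apply, hc, MonoidHom.mul_apply, Units.val_mul, ← Finset.mul_sum,
      ← Finset.sum_mul, hP.sum_leftHat_eq_zero hw, zero_mul, mul_zero]
  · intro ω
    set ψ : rightHat W₁ W₂ := ⟨ω.comp hP.snd, hP.comp_snd_trivial ω⟩
    have h1 : χ ω 1 = χ ψ.1 1 := by
      rw [htwist ψ.1 ω (hcomp ω)]
      simp
    have hd : δ ω = δ ψ.1 := (hδeq ψ.1 ω (hcomp ω)).symm
    letI : Fintype W₁ := Fintype.ofFinite _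
    obtain ⟨m, hm⟩ := classInner_characters
      (isCharacter_restrict W₁ (isCharacter_of_isIrr (hμirr ψ.1)))
      (isCharacter_homFun (1 : ↥W₁ →* ℂˣ))
    obtain ⟨d, hd'⟩ : ∃ d : ℤ, δ ψ.1 = (d : ℂ) := by
      rcases hδ ψ.1 with h | h
      · exact ⟨1, by simp [h]⟩
      · exact ⟨-1, by simp [h]⟩
    refine ⟨(m : ℤ) - d, ?_⟩
    have hsum : ∑ a : W₁, δ ψ.1 * χ ψ.1 a = δ ψ.1 * χ ψ.1 1 + ((Nat.card W₁ : ℂ) - 1) * δ ψ.1 := by
      rw [← Finset.add_sum_erase _ _ (Finset.mem_univ (1 : W₁)), Finset.sum_congr rfl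
        (g := fun _ => δ ψ.1) (fun a ha => ?_), Finset.sum_const, Finset.card_erase_of_mem
        (Finset.mem_univ _), Finset.card_univ, nsmul_eq_mul, Fintype.card_eq_nat_card,
        Nat.cast_sub (Nat.one_le_iff_ne_zero.mpr Nat.card_pos.ne'), Nat.cast_one]
      · rfl
      have ha2 : (a : L) ∉ W₂ := by
        intro h
        have : (a : L) ∈ W₁ ⊓ W₂ := ⟨a.2, h⟩
        rw [hW.2.2.1, Subgroup.mem_bot] at this
        exact (Finset.mem_erase.mp ha).1 (Subtype.ext this)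
      rw [show χ ψ.1 (a : L) = 1 from hA ψ ⟨a, Subgroup.mem_sup_left a.2⟩ a.2 ha2, mul_one]
    have hm' : (Nat.card W₁ : ℂ)⁻¹ * ∑ a : W₁, δ ψ.1 * χ ψ.1 a = (m : ℂ) := by
      rw [← hm]
      simp [Cfsg.classInner, homFun, Finset.mul_sum]
    rw [hsum, inv_mul_eq_iff_eq_mul₀ (Nat.cast_ne_zero.mpr Nat.card_pos.ne')] at hm'
    show δ ω * χ ω 1 - δ ω = _
    rw [hd, h1]
    push_cast
    rw [← hd']
    linear_combination hm'

end CfsgLib.OddOrderChar
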