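import Cfsg.Agent.OddOrderChar.CyclicTI

/-!
# Peterfalvi (3.6): tables `F i + G j` with few non-zero entries
-/

set_option autoImplicit false
set_option linter.style.haveILetI false
set_option linter.unusedSectionVars false

namespace CfsgLib.OddOrderChar

/-- A table `F i + G j` with fewer than `2|A|` non-zero entries is constant on one line. -/
theorem additive_table_few {A B : Type*} [Fintype A] [Fintype B] [DecidableEq A] [DecidableEq B]
    (F : A → ℂ) (G : B → ℂ) (hA : 2 ≤ Fintype.card A) (hAB : Fintype.card A + 2 ≤ Fintype.card B)
    (hfew : ((Finset.univ : Finset (A × B)).filter fun p => F p.1 + G p.2 ≠ 0).card <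
      2 * Fintype.card A) :
    (∀ i j, F i + G j = 0) ∨ (∃ j₀ a, ∀ i j, F i + G j = if j = j₀ then a else 0) ∨
      (∃ i₀ a, ∀ i j, F i + G j = if i = i₀ then a else 0) := by
  set n := Fintype.card A with hn
  set m := Fintype.card B with hm
  let col : B → Finset A := fun j => Finset.univ.filter fun i => F i + G j ≠ 0
  have hcard : ∑ j, (col j).card < 2 * n := by
    refine lt_of_le_of_lt (le_of_eq ?_) hfew
    simp only [col, Finset.card_filter, Fintype.sum_prod_type]
    exact Finset.sum_comm
  by_cases hG : ∀ j j', G j = G j'
  · obtain ⟨j₀⟩ : Nonempty B := Fintype.card_pos_iff.mp (by omega)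
    by_cases hall : ∀ i, F i + G j₀ = 0
    · exact Or.inl fun i j => by rw [hG j j₀, hall i]
    push Not at hall
    obtain ⟨i₀, hi₀⟩ := hall
    refine Or.inr (Or.inr ⟨i₀, F i₀ + G j₀, fun i j => ?_⟩)
    split_ifs with h
    · rw [h, hG j j₀]
    · by_contra hne
      have h2 : ∀ j', 2 ≤ (col j').card := fun j' => by
        rw [← Finset.card_pair (Ne.symm h)]
        refine Finset.card_le_card fun k hk => ?_
        simp only [Finset.mem_insert, Finset.mem_singleton] at hk
        simp only [col, Finset.mem_filter, Finset.mem_univ, true_and, hG j' j₀]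
        rcases hk with rfl | rfl
        · exact hi₀
        · rwa [hG j₀ j]
      have h3 := Finset.sum_le_sum (s := Finset.univ) fun j' _ => h2 j'
      rw [Finset.sum_const, Finset.card_univ, smul_eq_mul, ← hm] at h3
      omega
  · push Not at hG
    obtain ⟨ja, jb, hab⟩ := hG
    by_cases h2 : ∀ j, 2 ≤ (col j).card
    · have h3 := Finset.sum_le_sum (s := Finset.univ) fun j _ => h2 j
      rw [Finset.sum_const, Finset.card_univ, smul_eq_mul, ← hm] at h3
      omega
    push Not at h2
    obtain ⟨j₁, hj₁⟩ := h2
    rcases Nat.le_one_iff_eq_zero_or_eq_one.mp (Nat.lt_succ_iff.mp hj₁) with hc | hc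
    · -- `F` is constant
      have hF : ∀ i, F i = -G j₁ := by
        intro i
        have : i ∉ col j₁ := by rw [Finset.card_eq_zero.mp hc]; exact Finset.notMem_empty i
        simp only [col, Finset.mem_filter, Finset.mem_univ, true_and, not_not] at this
        exact eq_neg_of_add_eq_zero_left this
      have hfull : ∀ j, G j ≠ G j₁ → (col j).card = n := by
        intro j hj
        rw [hn, ← Finset.card_univ]
        congr 1
        refine Finset.filter_true_of_mem fun i _ h => hj ?_
        rw [hF i] at h
        linear_combination h
      obtain ⟨j₀, hj₀⟩ : ∃ j₀, G j₀ ≠ G j₁ := by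
        by_cases h : G ja = G j₁
        · exact ⟨jb, fun e => hab (h.trans e.symm)⟩
        · exact ⟨ja, h⟩
      refine Or.inr (Or.inl ⟨j₀, G j₀ - G j₁, fun i j => ?_⟩)
      split_ifs with h
      · rw [h, hF i]; ring
      · by_contra hne
        have hj : G j ≠ G j₁ := fun e => hne (by rw [hF i, e]; ring)
        have h3 := Finset.sum_le_sum_of_subset (f := fun j => (col j).card)
          (Finset.subset_univ ({j, j₀} : Finset B))
        rw [Finset.sum_pair h, hfull j hj, hfull j₀ hj₀] at h3
        omega
    · exfalso
      obtain ⟨i₀, hi₀⟩ := Finset.card_eq_one.mp hc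
      have hF : ∀ i, i ≠ i₀ → F i = -G j₁ := by
        intro i hi
        have : i ∉ col j₁ := by rw [hi₀]; simpa using hi
        simp only [col, Finset.mem_filter, Finset.mem_univ, true_and, not_not] at this
        exact eq_neg_of_add_eq_zero_left this
      have hi₀ne : F i₀ + G j₁ ≠ 0 := by
        have : i₀ ∈ col j₁ := by rw [hi₀]; exact Finset.mem_singleton_self _
        simpa [col] using this
      obtain ⟨j₀, hj₀⟩ : ∃ j₀, G j₀ ≠ G j₁ := by
        by_cases h : G ja = G j₁
        · exact ⟨jb, fun e => hab (h.trans e.symm)⟩
        · exact ⟨ja, h⟩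
      have hbig : n - 1 ≤ (col j₀).card := by
        rw [hn, ← Finset.card_univ, ← Finset.card_erase_of_mem (Finset.mem_univ i₀)]
        refine Finset.card_le_card fun i hi => ?_
        simp only [col, Finset.mem_filter, Finset.mem_univ, true_and]
        intro h
        rw [hF i (Finset.ne_of_mem_erase hi)] at h
        exact hj₀ (by linear_combination h)
      have hone : ∀ j, 1 ≤ (col j).card := by
        intro j
        refine Finset.card_pos.mpr ?_
        by_cases h : G j = G j₁
        · exact ⟨i₀, by simp only [col, Finset.mem_filter, Finset.mem_univ, true_and, h]; exact hi₀ne⟩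
        · obtain ⟨i, hi⟩ := Finset.card_pos.mp (show 0 < ((Finset.univ : Finset A).erase i₀).card by
            rw [Finset.card_erase_of_mem (Finset.mem_univ _), Finset.card_univ, ← hn]; omega)
          refine ⟨i, ?_⟩
          simp only [col, Finset.mem_filter, Finset.mem_univ, true_and]
          intro e
          rw [hF i (Finset.ne_of_mem_erase hi)] at e
          exact h (by linear_combination e)
      have h3 := Finset.sum_le_sum (s := (Finset.univ : Finset B).erase j₀) fun j _ => hone j
      rw [Finset.sum_const, Finset.card_erase_of_mem (Finset.mem_univ _), Finset.card_univ, smul_eq_mul,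
        ← hm, mul_one] at h3
      rw [← Finset.add_sum_erase _ _ (Finset.mem_univ j₀)] at hcard
      omega

end CfsgLib.OddOrderChar
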