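import Cfsg.Agent.OddOrderChar.Clifford
import Cfsg.Agent.Characters.Integrality
import Mathlib.GroupTheory.SchurZassenhaus
import Mathlib.LinearAlgebra.Determinant
import Mathlib.LinearAlgebra.Eigenspace.Triangularizable

/-!
# Extending an invariant character across a coprime abelian quotient

For a normal subgroup `N` with abelian quotient of order prime to `|N|`, every invariant irreducible
character of `N` extends.  Commuting intertwiners are normalised at a common eigenvector.
-/

set_option autoImplicit false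
set_option linter.style.haveILetI false
set_option linter.unusedSectionVars false

namespace CfsgLib.OddOrderChar

open CfsgLib.Characters

/-- Commuting endomorphisms have a common eigenvector. -/
theorem exists_common_eigenvector {ι V : Type*} [AddCommGroup V] [Module ℂ V] [FiniteDimensional ℂ V]
    [Nontrivial V] (U : ι → Module.End ℂ V) (hc : ∀ i j, U i * U j = U j * U i) :
    ∃ v : V, v ≠ 0 ∧ ∀ i, ∃ c : ℂ, U i v = c • v := by
  classical
  have hex : ∃ d, ∃ M : Submodule ℂ V, M ≠ ⊥ ∧ (∀ i, ∀ x ∈ M, U i x ∈ M) ∧ Module.finrank ℂ M = d :=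
    ⟨_, ⊤, top_ne_bot, fun i x _ => Submodule.mem_top, rfl⟩
  obtain ⟨M, hM0, hMinv, hMd⟩ := Nat.find_spec hex
  haveI : Nontrivial M := Submodule.nontrivial_iff_ne_bot.mpr hM0
  obtain ⟨v, hvM, hv⟩ := M.exists_mem_ne_zero_of_ne_bot hM0
  refine ⟨v, hv, fun i => ?_⟩
  obtain ⟨c, hc'⟩ := Module.End.exists_eigenvalue ((U i).restrict (hMinv i))
  refine ⟨c, ?_⟩
  set E := M ⊓ LinearMap.ker (U i - c • 1) with hE
  have hE0 : E ≠ ⊥ := by
    obtain ⟨w, hw, hw0⟩ := hc'.exists_hasEigenvector
    rw [Module.End.mem_eigenspace_iff] at hw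
    refine fun h => hw0 (Subtype.ext ?_)
    have hmem : (w : V) ∈ E :=
      ⟨w.2, by simpa [sub_eq_zero] using congrArg Subtype.val hw⟩
    rw [h, Submodule.mem_bot] at hmem
    exact hmem
  have hEinv : ∀ j, ∀ x ∈ E, U j x ∈ E := by
    rintro j x ⟨hxM, hx⟩
    refine ⟨hMinv j x hxM, ?_⟩
    simp only [SetLike.mem_coe, LinearMap.mem_ker, LinearMap.sub_apply, LinearMap.smul_apply,
      Module.End.one_apply, sub_eq_zero] at hx ⊢
    rw [← Module.End.mul_apply, hc i j, Module.End.mul_apply, hx, map_smul]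
  have hle := Nat.find_min' hex (m := Module.finrank ℂ E) ⟨E, hE0, hEinv, rfl⟩
  have heq : E = M := Submodule.eq_of_le_of_finrank_le inf_le_left (by omega)
  have : v ∈ E := heq ▸ hvM
  simpa [sub_eq_zero] using this.2

variable {G : Type*} [Group G] [Fintype G] (N : Subgroup G) [hN : N.Normal] [Fintype N]

/-- `X` intertwines a representation of `N` with its conjugate by `a`. -/
def IsConjTwiner {V : Type*} [AddCommGroup V] [Module ℂ V] (ρ : Representation ℂ N V) (a : G)
    (X : Module.End ℂ V) : Prop :=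
  Function.Bijective X ∧ ∀ (n : N) (x : V), X (ρ n x) = ρ (MulAut.conjNormal (H := N) a n) (X x)

variable {V : Type*} [AddCommGroup V] [Module ℂ V] [FiniteDimensional ℂ V]
  {ρ : Representation ℂ N V}

theorem IsConjTwiner.mul {a b : G} {X Y : Module.End ℂ V} (hX : IsConjTwiner N ρ a X)
    (hY : IsConjTwiner N ρ b Y) : IsConjTwiner N ρ (a * b) (X * Y) :=
  ⟨hX.1.comp hY.1, fun n x => by
    rw [Module.End.mul_apply, Module.End.mul_apply, hY.2, hX.2, map_mul]
    rfl⟩

theorem IsConjTwiner.eq_smul [ρ.IsIrreducible] {a : G} {X Y : Module.End ℂ V}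
    (hX : IsConjTwiner N ρ a X) (hY : IsConjTwiner N ρ a Y) : ∃ c : ℂ, X = c • Y := by
  let e := LinearEquiv.ofBijective Y hY.1
  obtain ⟨c, hc⟩ := schur_scalar ρ (e.symm.toLinearMap ∘ₗ X) fun n x => by
    apply e.injective
    simp only [LinearMap.comp_apply, LinearEquiv.coe_coe, LinearEquiv.apply_symm_apply]
    show X (ρ n x) = Y (ρ n (e.symm (X x)))
    rw [hX.2, hY.2, show Y (e.symm (X x)) = X x from e.apply_symm_apply _]
  refine ⟨c, LinearMap.ext fun x => ?_⟩
  have h := congrArg e (LinearMap.congr_fun hc x)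
  simpa [e] using h

theorem IsConjTwiner.pow {a : G} {X : Module.End ℂ V} (hX : IsConjTwiner N ρ a X) (k : ℕ) :
    IsConjTwiner N ρ (a ^ k) (X ^ k) := by
  induction k with
  | zero => exact ⟨Function.bijective_id, fun n x => by simp⟩
  | succ k ih => rw [pow_succ, pow_succ]; exact ih.mul N hX

/-- An invariant irreducible character extends across a coprime abelian quotient. -/
theorem exists_extension_of_coprime {θ : N → ℂ} (hθ : Cfsg.IsIrrCharacter N θ)
    (hinv : ∀ g : G, conjBy N θ g = θ) (hab : ∀ x y : G, x * y * x⁻¹ * y⁻¹ ∈ N)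
    (hcop : Nat.Coprime (Nat.card N) N.index) :
    ∃ ξ : G → ℂ, Cfsg.IsIrrCharacter G ξ ∧ (fun n : N => ξ n) = θ := by
  classical
  obtain ⟨d, ρ, hρ, hρθ⟩ := hθ
  haveI := hρ
  haveI := nontrivial_of_isIrreducible ρ
  obtain ⟨A, hA⟩ := Subgroup.exists_right_complement'_of_coprime hcop
  have habA : ∀ a b : A, a * b = b * a := fun a b => by
    have h1 : (a : G) * b * (a : G)⁻¹ * (b : G)⁻¹ ∈ N ⊓ A :=
      ⟨hab a b, A.mul_mem (A.mul_mem (A.mul_mem a.2 b.2) (A.inv_mem a.2)) (A.inv_mem b.2)⟩
    rw [disjoint_iff.mp hA.disjoint, Subgroup.mem_bot, mul_inv_eq_one, mul_inv_eq_iff_eq_mul] at h1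
    exact Subtype.ext h1
  -- intertwiners
  have hex : ∀ a : G, ∃ X, IsConjTwiner N ρ a X := by
    intro a
    obtain ⟨φ⟩ := equiv_of_char_eq ρ
      (ρ.comp (MulAut.conjNormal (H := N) a : N ≃* N).toMonoidHom) (by
        have h := hinv a
        rw [conjBy_eq_comp, ← hρθ] at h
        exact h.symm)
    exact ⟨φ.toLinearEquiv.toLinearMap, φ.toLinearEquiv.bijective, fun n x => equiv_map φ n x⟩
  choose U hU using fun a : A => hex a
  have hdet : ∀ a, LinearMap.det (U a) ≠ 0 := fun a =>
    (LinearEquiv.isUnit_det' (LinearEquiv.ofBijective (U a) (hU a).1)).ne_zero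
  have hfin : Module.finrank ℂ (Fin d → ℂ) ∣ Nat.card N := finrank_dvd_card (ρ := ρ)
  -- they commute
  have hcomm : ∀ a b, U a * U b = U b * U a := by
    intro a b
    obtain ⟨ω, hω⟩ := IsConjTwiner.eq_smul N ((hU a).mul N (hU b))
      (by have h := (hU b).mul N (hU a)
          rwa [← Subgroup.coe_mul, ← habA a b, Subgroup.coe_mul] at h)
    have h1 : ω ^ Module.finrank ℂ (Fin d → ℂ) = 1 := by
      have h := congrArg LinearMap.det hω
      rw [LinearMap.det_smul, map_mul, map_mul, mul_comm (LinearMap.det (U b))] at h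
      exact (mul_eq_right₀ (mul_ne_zero (hdet a) (hdet b))).mp h.symm
    obtain ⟨c, hc⟩ : ∃ c : ℂ, U a ^ Nat.card A = c • 1 := by
      have h := (hU a).pow N (Nat.card A)
      rw [← Subgroup.coe_pow, pow_card_eq_one', Subgroup.coe_one] at h
      exact IsConjTwiner.eq_smul N h ⟨Function.bijective_id, fun n x => by simp⟩
    have hiter : ∀ k : ℕ, U a ^ k * U b = ω ^ k • (U b * U a ^ k) := by
      intro k
      induction k with
      | zero => simp
      | succ k ih =>
        rw [pow_succ, mul_assoc, hω, mul_smul_comm, ← mul_assoc, ih, smul_mul_assoc, mul_assoc,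
          smul_smul, ← pow_succ']
    have h2 : ω ^ Nat.card A = 1 := by
      have h := hiter (Nat.card A)
      rw [hc, smul_mul_assoc, one_mul, mul_smul_comm, mul_one, smul_smul] at h
      have hc0 : c ≠ 0 := by
        intro hc0
        rw [hc0, zero_smul] at hc
        have := congrArg LinearMap.det hc
        rw [map_pow, LinearMap.det_zero, zero_pow Module.finrank_pos.ne', pow_eq_zero_iff Nat.card_pos.ne'] at this
        exact hdet a this
      have hb0 : U b ≠ 0 := by
        intro h0
        obtain ⟨x, hx⟩ := exists_ne (0 : Fin d → ℂ)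
        obtain ⟨y, hy⟩ := (hU b).1.2 x
        rw [h0, LinearMap.zero_apply] at hy
        exact hx hy.symm
      exact (mul_eq_right₀ hc0).mp (smul_left_injective ℂ hb0 h).symm
    have h3 : ω = 1 := by
      have hcop' : Nat.Coprime (Module.finrank ℂ (Fin d → ℂ)) (Nat.card A) := by
        rw [← hA.symm.index_eq_card]
        exact hcop.coprime_dvd_left hfin
      have h := pow_gcd_eq_one.mpr ⟨h1, h2⟩
      rwa [hcop'.gcd_eq_one, pow_one] at h
    rw [hω, h3, one_smul]
  obtain ⟨v, hv0, hv⟩ := exists_common_eigenvector U hcomm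
  choose c hc using hv
  have hc0 : ∀ a, c a ≠ 0 := fun a h => by
    have := hc a
    rw [h, zero_smul] at this
    exact hv0 ((hU a).1.1 (this.trans (map_zero _).symm))
  set W : A → Module.End ℂ (Fin d → ℂ) := fun a => (c a)⁻¹ • U a with hW
  have hWv : ∀ a, W a v = v := fun a => by
    simp only [hW, LinearMap.smul_apply, hc a, smul_smul, inv_mul_cancel₀ (hc0 a), one_smul]
  have hWt : ∀ a : A, IsConjTwiner N ρ a (W a) := fun a => by
    refine ⟨⟨fun x y h => (hU a).1.1 (smul_right_injective _ (inv_ne_zero (hc0 a)) h), fun y => ?_⟩,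
      fun n x => ?_⟩
    · obtain ⟨x, hx⟩ := (hU a).1.2 (c a • y)
      exact ⟨x, by simp [hW, hx, hc0 a]⟩
    · simp only [hW, LinearMap.smul_apply, (hU a).2, map_smul]
  have huniq : ∀ (a : G) (X Y : Module.End ℂ (Fin d → ℂ)), IsConjTwiner N ρ a X →
      IsConjTwiner N ρ a Y → X v = v → Y v = v → X = Y := by
    intro a X Y hX hY hXv hYv
    obtain ⟨k, hk⟩ := IsConjTwiner.eq_smul N hX hY
    have h := LinearMap.congr_fun hk v
    rw [LinearMap.smul_apply, hXv, hYv] at h
    have : k = 1 := (smul_left_injective ℂ hv0 ((one_smul ℂ v).trans h)).symm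
    rw [hk, this, one_smul]
  have hW1 : W 1 = 1 :=
    huniq 1 _ _ (by simpa using hWt 1) ⟨Function.bijective_id, fun n x => by simp⟩ (hWv 1) rfl
  have hWmul : ∀ a b, W (a * b) = W a * W b := fun a b =>
    huniq _ _ _ (hWt (a * b)) ((hWt a).mul N (hWt b)) (hWv _)
      (by rw [Module.End.mul_apply, hWv, hWv])
  let e : N × A ≃ G := Equiv.ofBijective (fun x => (x.1 : G) * x.2) hA
  let f : G → Module.End ℂ (Fin d → ℂ) := fun t => ρ (e.symm t).1 * W (e.symm t).2
  have hf : ∀ (n : N) (a : A), f ((n : G) * a) = ρ n * W a := fun n a => by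
    have : e.symm ((n : G) * a) = (n, a) := e.symm_apply_eq.mpr rfl
    simp only [f, this]
  let σ : Representation ℂ G (Fin d → ℂ) :=
    { toFun := f
      map_one' := by
        have h := hf 1 1
        simp only [Subgroup.coe_one, mul_one, map_one, one_mul, hW1] at h
        exact h
      map_mul' := fun t t' => by
        obtain ⟨⟨n, a⟩, rfl⟩ := e.surjective t
        obtain ⟨⟨n', a'⟩, rfl⟩ := e.surjective t'
        show f (((n : G) * a) * ((n' : G) * a')) = f ((n : G) * a) * f ((n' : G) * a')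
        have : ((n : G) * a) * ((n' : G) * a') =
            ((n * MulAut.conjNormal (H := N) (a : G) n' : N) : G) * ((a * a' : A) : G) := by
          simp only [Subgroup.coe_mul, MulAut.conjNormal_apply]; group
        rw [this, hf, hf, hf, map_mul, hWmul]
        have htw : ρ (MulAut.conjNormal (H := N) (a : G) n') * W a = W a * ρ n' :=
          LinearMap.ext fun x => ((hWt a).2 n' x).symm
        rw [mul_assoc, ← mul_assoc (ρ (MulAut.conjNormal (H := N) (a : G) n')), htw, mul_assoc,
          mul_assoc] }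
  have hres : (fun n : N => σ.character n) = θ := by
    rw [← hρθ]
    funext n
    have h := hf n 1
    simp only [Subgroup.coe_one, mul_one, hW1] at h
    exact congrArg (LinearMap.trace ℂ (Fin d → ℂ)) h
  have hchar := isCharacter_character σ
  have h0 : σ.character ≠ 0 := fun h => irr_ne_zero ⟨d, ρ, hρ, hρθ⟩ (hres ▸ funext fun n => congrFun h n)
  obtain ⟨χ, hχ, hne⟩ := exists_constituent hchar h0
  refine ⟨σ.character, ?_, hres⟩
  have hθirr : Cfsg.IsIrrCharacter N θ := ⟨d, ρ, hρ, hρθ⟩
  -- every constituent lies over `θ`, so has at least its degree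
  have hlie : Cfsg.classInner (fun n : N => χ n) θ ≠ 0 := by
    intro h
    apply hne
    have hle : ∀ ψ : Cfsg.IrrCharacter N, Cfsg.classInner (fun n : N => χ n) ψ.1 *
        Cfsg.classInner (fun n : N => σ.character n) ψ.1 = 0 := by
      intro ψ
      rw [hres]
      by_cases hψ : θ = ψ.1
      · rw [← hψ, h, zero_mul]
      · rw [classInner_isIrr_ne hθirr ψ.2 hψ, mul_zero]
    by_contra hne'
    obtain ⟨m, hm⟩ := exists_nat_coeff hchar
    obtain ⟨ψ, hψ, hψne⟩ := exists_constituent (isCharacter_restrict N (isCharacter_of_isIrr hχ))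
      (fun h => irr_one_ne_zero hχ (congrFun h 1))
    rcases mul_eq_zero.mp (hle ⟨ψ, hψ⟩) with h2 | h2
    · exact hψne h2
    · choose b hb using fun η : Cfsg.IrrCharacter G => classInner_character_irr
        (isCharacter_restrict N (isCharacter_of_isIrr η.2)) hψ
      rw [show (fun n : N => σ.character n) = ∑ η : Cfsg.IrrCharacter G,
          (m η : ℂ) • (fun n : N => (η : G → ℂ) n) from funext fun n => by
        rw [hm]; simp, classInner_sum_left] at h2
      simp only [classInner_smul_left, hb, ← Nat.cast_mul, ← Nat.cast_sum, Nat.cast_eq_zero] at h2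
      have h3 := Finset.sum_eq_zero_iff.mp h2 ⟨χ, hχ⟩ (Finset.mem_univ _)
      rcases Nat.mul_eq_zero.mp h3 with h4 | h4
      · apply hne'
        rw [hm, classInner_irr_coeff (fun η => (m η : ℂ)) ⟨χ, hχ⟩, h4, Nat.cast_zero]
      · apply hψne
        rw [show Cfsg.classInner (fun n : N => χ n) ψ = _ from hb ⟨χ, hχ⟩, h4, Nat.cast_zero]
  have hd := clifford_restrict_invariant N hχ hθirr hinv hlie
  have heq : σ.character = χ := by
    refine eq_irr_of_degree_le hchar hχ hne ?_
    obtain ⟨m, hm⟩ := classInner_character_irr (isCharacter_restrict N (isCharacter_of_isIrr hχ)) hθirr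
    have h1 := congrFun hd 1
    have h2 := congrFun hres 1
    simp only [OneMemClass.coe_one, Pi.smul_apply, smul_eq_mul] at h1 h2
    rw [h1, h2, hm]
    obtain ⟨dt, -, hdt⟩ := exists_degree_pos hθirr
    rw [hdt, ← Nat.cast_mul, Complex.natCast_re, Complex.natCast_re]
    have hm0 : m ≠ 0 := fun h => hlie (by rw [hm, h, Nat.cast_zero])
    exact_mod_cast Nat.le_mul_of_pos_left _ (Nat.pos_of_ne_zero hm0)
  exact heq ▸ hχ

end CfsgLib.OddOrderChar
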