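import Cfsg.Prelude.Def_OddOrderLocal
import Cfsg.Prelude.Def_OddOrderChar
import Cfsg.Agent.OddOrderChar.CyclicDual
import Cfsg.Agent.OddOrderChar.Reciprocity

/-!
# Peterfalvi (3.1)-(3.5): cyclic TI subgroups, basic identities
-/

set_option autoImplicit false
set_option linter.style.haveILetI false
set_option linter.unusedSectionVars false

namespace CfsgLib.OddOrderChar

open CfsgLib.Characters
open scoped ComplexConjugate

variable {G : Type*} [Group G] {W₁ W₂ : Subgroup G}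

/-- The linear character as a complex function. -/
def homFun {W : Type*} [MulOneClass W] (ω : W →* ℂˣ) : W → ℂ := fun w => (ω w : ℂ)

/-- `(1 - φ)(1 - ψ)`. -/
def tiAlpha (φ ψ : ↥(W₁ ⊔ W₂) →* ℂˣ) : ↥(W₁ ⊔ W₂) → ℂ :=
  fun w => 1 - (φ w : ℂ) - (ψ w : ℂ) + (φ w : ℂ) * (ψ w : ℂ)

theorem tiAlpha_eq (φ ψ : ↥(W₁ ⊔ W₂) →* ℂˣ) :
    tiAlpha φ ψ = homFun 1 - homFun φ - homFun ψ + homFun (φ * ψ) := by
  funext w
  simp [tiAlpha, homFun]

theorem tiAlpha_eq_zero (φ : leftHat W₁ W₂) (ψ : rightHat W₁ W₂) {w : ↥(W₁ ⊔ W₂)}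
    (hw : (w : G) ∈ W₁ ∨ (w : G) ∈ W₂) : tiAlpha φ.1 ψ.1 w = 0 := by
  rcases hw with hw | hw
  · simp [tiAlpha, ψ.2 w hw]
  · simp [tiAlpha, φ.2 w hw]

theorem factorPair_of_snc (hW : Cfsg.IsSelfNormalizingCyclic W₁ W₂) : FactorPair W₁ W₂ :=
  ⟨hW.2.2.1, hW.2.2.2.1, hW.2.2.2.2.1⟩

theorem snc_normalizer_single (hW : Cfsg.IsSelfNormalizingCyclic W₁ W₂) {w : G} (hw : w ∈ W₁ ⊔ W₂)
    (hw₁ : w ∉ W₁) (hw₂ : w ∉ W₂) {g : G} (hg : g * w * g⁻¹ = w) : g ∈ W₁ ⊔ W₂ := by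
  rw [← hW.2.2.2.2.2 {w} (by simp [hw, hw₁, hw₂]) (Set.singleton_nonempty w),
    Subgroup.mem_set_normalizer_iff]
  intro x
  simp only [Set.mem_singleton_iff]
  constructor
  · rintro rfl; exact hg
  · intro h; exact mul_left_cancel (mul_right_cancel (h.trans hg.symm))

variable [Finite G]

theorem mem_iff_pow_card (hW : Cfsg.IsSelfNormalizingCyclic W₁ W₂) {U : Subgroup G}
    (hU : U ≤ W₁ ⊔ W₂) {x : G} (hx : x ∈ W₁ ⊔ W₂) : x ∈ U ↔ x ^ Nat.card U = 1 := by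
  classical
  constructor
  · intro h
    exact congrArg Subtype.val (pow_card_eq_one' (G := U) (x := ⟨x, h⟩))
  · intro h
    haveI := hW.2.2.2.2.1
    letI : Fintype ↥(W₁ ⊔ W₂) := Fintype.ofFinite _
    set S := (Finset.univ : Finset ↥(W₁ ⊔ W₂)).filter (fun a => a ^ Nat.card U = 1) with hS
    set T : Finset ↥(W₁ ⊔ W₂) := Finset.univ.filter (fun a : ↥(W₁ ⊔ W₂) => (a : G) ∈ U) with hT
    have hsub : T ⊆ S := by
      intro a ha
      simp only [hS, hT, Finset.mem_filter, Finset.mem_univ, true_and] at ha ⊢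
      exact Subtype.ext ((SubmonoidClass.coe_pow a _).trans
        (congrArg Subtype.val (pow_card_eq_one' (G := U) (x := ⟨(a : G), ha⟩))))
    have hTc : T.card = Nat.card U := by
      rw [hT, ← Fintype.card_subtype, ← Nat.card_eq_fintype_card]
      exact Nat.card_congr ⟨fun a => ⟨a.1.1, a.2⟩, fun u => ⟨⟨u.1, hU u.2⟩, u.2⟩,
        fun a => Subtype.ext (Subtype.ext rfl), fun u => Subtype.ext rfl⟩
    have hle : S.card ≤ T.card := by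
      rw [hTc]
      exact IsCyclic.card_pow_eq_one_le Nat.card_pos
    have hmem : (⟨x, hx⟩ : ↥(W₁ ⊔ W₂)) ∈ T := by
      rw [Finset.eq_of_subset_of_card_le hsub hle]
      simp only [hS, Finset.mem_filter, Finset.mem_univ, true_and]
      exact Subtype.ext (by simpa using h)
    simpa [hT] using hmem

/-- The elements outside `W₁ ∪ W₂` form a TI set with normaliser `W`. -/
theorem snc_mem_of_conj (hW : Cfsg.IsSelfNormalizingCyclic W₁ W₂) {w g : G} (hw : w ∈ W₁ ⊔ W₂)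
    (hw₁ : w ∉ W₁) (hw₂ : w ∉ W₂) (h : g * w * g⁻¹ ∈ W₁ ⊔ W₂) (h₁ : g * w * g⁻¹ ∉ W₁)
    (h₂ : g * w * g⁻¹ ∉ W₂) : g ∈ W₁ ⊔ W₂ := by
  classical
  have hP := factorPair_of_snc hW
  have hmap : (W₁ ⊔ W₂).map (MulAut.conj g).toMonoidHom = W₁ ⊔ W₂ := by
    refine Subgroup.eq_of_le_of_card_ge ?_ ?_
    · rintro _ ⟨x, hx, rfl⟩
      refine snc_normalizer_single hW h h₁ h₂ ?_
      have hc : x * w = w * x := congrArg Subtype.val (hP.mul_comm' ⟨x, hx⟩ ⟨w, hw⟩)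
      show g * x * g⁻¹ * (g * w * g⁻¹) * (g * x * g⁻¹)⁻¹ = g * w * g⁻¹
      calc g * x * g⁻¹ * (g * w * g⁻¹) * (g * x * g⁻¹)⁻¹ = g * (x * w) * x⁻¹ * g⁻¹ := by group
        _ = g * (w * x) * x⁻¹ * g⁻¹ := by rw [hc]
        _ = _ := by group
    · rw [Subgroup.card_map_of_injective (MulAut.conj g).injective]
  have hWiff : ∀ x : G, g * x * g⁻¹ ∈ W₁ ⊔ W₂ ↔ x ∈ W₁ ⊔ W₂ := by
    intro x
    conv_lhs => rw [← hmap]
    exact Subgroup.mem_map_iff_mem (MulAut.conj g).injective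
  have hUiff : ∀ U : Subgroup G, U ≤ W₁ ⊔ W₂ → ∀ x : G, g * x * g⁻¹ ∈ U ↔ x ∈ U := by
    intro U hU x
    constructor
    · intro hx
      have hx' := (hWiff x).mp (hU hx)
      rw [mem_iff_pow_card hW hU hx']
      have h3 := (mem_iff_pow_card hW hU (hU hx)).mp hx
      rw [conj_pow, mul_inv_eq_one, mul_eq_left] at h3
      exact h3
    · intro hx
      rw [mem_iff_pow_card hW hU ((hWiff x).mpr (hU hx)), conj_pow,
        (mem_iff_pow_card hW hU (hU hx)).mp hx]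
      group
  rw [← hW.2.2.2.2.2 ((↑(W₁ ⊔ W₂) : Set G) \ (↑W₁ ∪ ↑W₂)) subset_rfl ⟨w, hw, by simp [hw₁, hw₂]⟩,
    Subgroup.mem_set_normalizer_iff]
  intro x
  simp only [Set.mem_diff, SetLike.mem_coe, Set.mem_union, hWiff x, hUiff W₁ le_sup_left x,
    hUiff W₂ le_sup_right x]

variable [Fintype G]

/-- Induction does nothing to the values on `V`. -/
theorem indFun_eq_on_V (hW : Cfsg.IsSelfNormalizingCyclic W₁ W₂) (f : ↥(W₁ ⊔ W₂) → ℂ)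
    (hf : ∀ w : ↥(W₁ ⊔ W₂), (w : G) ∈ W₁ ∨ (w : G) ∈ W₂ → f w = 0) (w : ↥(W₁ ⊔ W₂))
    (hw₁ : (w : G) ∉ W₁) (hw₂ : (w : G) ∉ W₂) : Cfsg.indFun (W₁ ⊔ W₂) f w = f w := by
  classical
  have hP := factorPair_of_snc hW
  have hval : ∀ x : G, Cfsg.extendByZero (W₁ ⊔ W₂) f (x⁻¹ * (w : G) * x) =
      if x ∈ W₁ ⊔ W₂ then f w else 0 := by
    intro x
    by_cases hx : x ∈ W₁ ⊔ W₂
    · rw [if_pos hx, extendByZero_of_mem _ f (Subgroup.mul_mem _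
        (Subgroup.mul_mem _ (Subgroup.inv_mem _ hx) w.2) hx)]
      refine congrArg f (Subtype.ext ?_)
      have hc : x * (w : G) = (w : G) * x := congrArg Subtype.val (hP.mul_comm' ⟨x, hx⟩ w)
      show x⁻¹ * (w : G) * x = w
      rw [mul_assoc, ← hc]; group
    · rw [if_neg hx]
      by_cases hm : x⁻¹ * (w : G) * x ∈ W₁ ⊔ W₂
      · rw [extendByZero_of_mem _ f hm]
        by_contra hne
        have h12 : ¬(x⁻¹ * (w : G) * x ∈ W₁ ∨ x⁻¹ * (w : G) * x ∈ W₂) := fun h => hne (hf _ h)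
        push Not at h12
        refine hx ((Subgroup.inv_mem_iff _).mp ?_)
        refine snc_mem_of_conj hW w.2 hw₁ hw₂ ?_ ?_ ?_ <;> rw [inv_inv]
        exacts [hm, h12.1, h12.2]
      · rw [extendByZero_of_notMem _ f hm]
  unfold Cfsg.indFun
  rw [Finset.sum_congr rfl fun x _ => hval x, Finset.sum_ite, Finset.sum_const, Finset.sum_const_zero,
    add_zero, nsmul_eq_mul, ← Fintype.card_subtype, ← Nat.card_eq_fintype_card, ← mul_assoc,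
    inv_mul_cancel₀ (Nat.cast_ne_zero.mpr Nat.card_pos.ne'), one_mul]

variable [Fintype ↥(W₁ ⊔ W₂)]

/-- The isometry of induction on functions supported on `V`. -/
theorem classInner_ind_V (hW : Cfsg.IsSelfNormalizingCyclic W₁ W₂) (f f' : ↥(W₁ ⊔ W₂) → ℂ)
    (hf : ∀ w : ↥(W₁ ⊔ W₂), (w : G) ∈ W₁ ∨ (w : G) ∈ W₂ → f w = 0)
    (hf' : ∀ w : ↥(W₁ ⊔ W₂), (w : G) ∈ W₁ ∨ (w : G) ∈ W₂ → f' w = 0) :
    Cfsg.classInner (Cfsg.indFun (W₁ ⊔ W₂) f) (Cfsg.indFun (W₁ ⊔ W₂) f') = Cfsg.classInner f f' := by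
  rw [classInner_indFun_left _ f (isClassFunction_ind _ f')]
  unfold Cfsg.classInner
  congr 1
  refine Finset.sum_congr rfl fun w _ => ?_
  by_cases h : (w : G) ∈ W₁ ∨ (w : G) ∈ W₂
  · rw [hf w h, zero_mul, zero_mul]
  · push Not at h
    beta_reduce
    rw [indFun_eq_on_V hW f' hf' w h.1 h.2]

/-- The inner products of the functions `(1-φ)(1-ψ)`. -/
theorem classInner_tiAlpha (hP : FactorPair W₁ W₂) (φ φ' : leftHat W₁ W₂) (ψ ψ' : rightHat W₁ W₂)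
    (hφ : φ.1 ≠ 1) (hφ' : φ'.1 ≠ 1) (hψ : ψ.1 ≠ 1) (hψ' : ψ'.1 ≠ 1)
    [Decidable (φ.1 = φ'.1)] [Decidable (ψ.1 = ψ'.1)] :
    Cfsg.classInner (tiAlpha φ.1 ψ.1) (tiAlpha φ'.1 ψ'.1) =
      (1 + if φ.1 = φ'.1 then 1 else 0) * (1 + if ψ.1 = ψ'.1 then 1 else 0) := by
  classical
  let o₁ : leftHat W₁ W₂ := ⟨1, fun w _ => rfl⟩
  let o₂ : rightHat W₁ W₂ := ⟨1, fun w _ => rfl⟩
  have inj : ∀ (a a' : leftHat W₁ W₂) (b b' : rightHat W₁ W₂),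
      (a.1 * b.1 = a'.1 * b'.1) ↔ (a.1 = a'.1 ∧ b.1 = b'.1) := by
    intro a a' b b'
    refine ⟨fun h => ?_, fun h => by rw [h.1, h.2]⟩
    have := hP.hatEquiv.injective (a₁ := (a, b)) (a₂ := (a', b')) h
    exact ⟨congrArg (fun p : leftHat W₁ W₂ × rightHat W₁ W₂ => p.1.1) this,
      congrArg (fun p : leftHat W₁ W₂ × rightHat W₁ W₂ => p.2.1) this⟩
  have key : ∀ (a a' : leftHat W₁ W₂) (b b' : rightHat W₁ W₂),
      Cfsg.classInner (homFun (a.1 * b.1)) (homFun (a'.1 * b'.1)) =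
        (if a.1 = a'.1 then (1 : ℂ) else 0) * (if b.1 = b'.1 then (1 : ℂ) else 0) := by
    intro a a' b b'
    unfold homFun
    rw [classInner_hom]
    by_cases h1 : a.1 = a'.1 <;> by_cases h2 : b.1 = b'.1 <;> simp [inj, h1, h2]
  have e : ∀ (a : leftHat W₁ W₂) (b : rightHat W₁ W₂), tiAlpha a.1 b.1 =
      homFun (o₁.1 * o₂.1) - homFun (a.1 * o₂.1) - homFun (o₁.1 * b.1) + homFun (a.1 * b.1) := by
    intro a b
    rw [tiAlpha_eq]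
    have h1 : (o₁.1 * o₂.1) = 1 := MonoidHom.ext fun w => mul_one _
    have h2 : a.1 * o₂.1 = a.1 := MonoidHom.ext fun w => mul_one _
    have h3 : o₁.1 * b.1 = b.1 := MonoidHom.ext fun w => one_mul _
    rw [h1, h2, h3]
  rw [e, e]
  simp only [classInner_add_left, classInner_add_right, classInner_sub_left, classInner_sub_right, key]
  have n1 : ¬ o₁.1 = φ.1 := fun h => hφ h.symm
  have n2 : ¬ o₁.1 = φ'.1 := fun h => hφ' h.symm
  have n3 : ¬ o₂.1 = ψ.1 := fun h => hψ h.symm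
  have n4 : ¬ o₂.1 = ψ'.1 := fun h => hψ' h.symm
  have n5 : ¬ φ.1 = o₁.1 := hφ
  have n6 : ¬ ψ.1 = o₂.1 := hψ
  simp only [n2, n4, n5, n6, if_false, if_true]
  ring_nf

theorem classInner_tiAlpha_one (hP : FactorPair W₁ W₂) (φ : leftHat W₁ W₂) (ψ : rightHat W₁ W₂)
    (hφ : φ.1 ≠ 1) (hψ : ψ.1 ≠ 1) :
    Cfsg.classInner (tiAlpha φ.1 ψ.1) (homFun (1 : ↥(W₁ ⊔ W₂) →* ℂˣ)) = 1 := by
  classical
  have hne : φ.1 * ψ.1 ≠ 1 := by
    intro h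
    have := hP.hatEquiv.injective (a₁ := (φ, ψ)) (a₂ := (⟨1, fun w _ => rfl⟩, ⟨1, fun w _ => rfl⟩))
      (by rw [hP.hatEquiv_apply, hP.hatEquiv_apply, h]; exact (MonoidHom.ext fun w => (mul_one _).symm))
    exact hφ (congrArg (fun p : leftHat W₁ W₂ × rightHat W₁ W₂ => p.1.1) this)
  rw [tiAlpha_eq, classInner_add_left, classInner_sub_left, classInner_sub_left]
  unfold homFun
  rw [classInner_hom, classInner_hom, classInner_hom, classInner_hom, if_pos rfl, if_neg hφ, if_neg hψ,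
    if_neg hne]
  ring

/-- Peterfalvi (3.5): the relation satisfied by a class function vanishing on `V`. -/
theorem tiFamily_relation (hW : Cfsg.IsSelfNormalizingCyclic W₁ W₂)
    {χ : (↥(W₁ ⊔ W₂) →* ℂˣ) → (G → ℂ)} (hχ : Cfsg.IsCyclicTIFamily W₁ W₂ χ) {θ : G → ℂ}
    (hθ : Cfsg.IsClassFunction G θ)
    (hθV : ∀ w : ↥(W₁ ⊔ W₂), (w : G) ∉ W₁ → (w : G) ∉ W₂ → θ w = 0)
    (φ : leftHat W₁ W₂) (ψ : rightHat W₁ W₂) :
    Cfsg.classInner θ (χ 1) + Cfsg.classInner θ (χ (φ.1 * ψ.1)) =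
      Cfsg.classInner θ (χ φ.1) + Cfsg.classInner θ (χ ψ.1) := by
  by_cases hφ : φ.1 = 1
  · rw [hφ, show (1 : ↥(W₁ ⊔ W₂) →* ℂˣ) * ψ.1 = ψ.1 from MonoidHom.ext fun w => one_mul _]
  by_cases hψ : ψ.1 = 1
  · rw [hψ, show φ.1 * (1 : ↥(W₁ ⊔ W₂) →* ℂˣ) = φ.1 from MonoidHom.ext fun w => mul_one _]
    ring
  have h0 : Cfsg.classInner θ (Cfsg.indFun (W₁ ⊔ W₂) (tiAlpha φ.1 ψ.1)) = 0 := by
    rw [classInner_indFun_right _ _ hθ]
    unfold Cfsg.classInner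
    rw [Finset.sum_eq_zero, mul_zero]
    intro w _
    by_cases h : (w : G) ∈ W₁ ∨ (w : G) ∈ W₂
    · rw [tiAlpha_eq_zero φ ψ h, map_zero, mul_zero]
    · push Not at h
      beta_reduce
      rw [hθV w h.1 h.2, zero_mul]
  have heq : Cfsg.indFun (W₁ ⊔ W₂) (tiAlpha φ.1 ψ.1) = χ 1 - χ φ.1 - χ ψ.1 + χ (φ.1 * ψ.1) := by
    rw [show Cfsg.indFun (W₁ ⊔ W₂) (tiAlpha φ.1 ψ.1) = _ from hχ.induced_eq φ.1 ψ.1 hφ hψ φ.2 ψ.2]
    funext g
    simp [hχ.map_one]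
  rw [heq, classInner_add_right, classInner_sub_right, classInner_sub_right] at h0
  linear_combination h0

/-- Peterfalvi (3.4): a function on `W` orthogonal to all `(1-φ)(1-ψ)` vanishes on `V`. -/
theorem vanish_on_V' (hP : FactorPair W₁ W₂) {θ : ↥(W₁ ⊔ W₂) → ℂ}
    (h : ∀ (φ : leftHat W₁ W₂) (ψ : rightHat W₁ W₂), φ.1 ≠ 1 → ψ.1 ≠ 1 →
      Cfsg.classInner θ (tiAlpha φ.1 ψ.1) = 0)
    (w : ↥(W₁ ⊔ W₂)) (hw₁ : (w : G) ∉ W₁) (hw₂ : (w : G) ∉ W₂) : θ w = 0 := by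
  classical
  haveI := hP.finite_hom
  letI : Fintype (↥(W₁ ⊔ W₂) →* ℂˣ) := Fintype.ofFinite _
  letI : Fintype (leftHat W₁ W₂) := Fintype.ofFinite _
  letI : Fintype (rightHat W₁ W₂) := Fintype.ofFinite _
  let f : ↥(W₁ ⊔ W₂) → ℂ := fun x => if (x : G) ∈ W₁ ∨ (x : G) ∈ W₂ then 0 else θ x
  let c : (↥(W₁ ⊔ W₂) →* ℂˣ) → ℂ := fun ω => Cfsg.classInner f (homFun ω)
  have hc : ∀ (φ : leftHat W₁ W₂) (ψ : rightHat W₁ W₂), c (φ.1 * ψ.1) = (c φ.1 - c 1) + c ψ.1 := by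
    intro φ ψ
    by_cases hφ : φ.1 = 1
    · rw [hφ, show (1 : ↥(W₁ ⊔ W₂) →* ℂˣ) * ψ.1 = ψ.1 from MonoidHom.ext fun w => one_mul _]
      ring
    by_cases hψ : ψ.1 = 1
    · rw [hψ, show φ.1 * (1 : ↥(W₁ ⊔ W₂) →* ℂˣ) = φ.1 from MonoidHom.ext fun w => mul_one _]
      ring
    have h1 := h φ ψ hφ hψ
    have h2 : Cfsg.classInner f (tiAlpha φ.1 ψ.1) = 0 := by
      rw [← h1]
      unfold Cfsg.classInner
      congr 1
      refine Finset.sum_congr rfl fun x _ => ?_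
      by_cases hx : (x : G) ∈ W₁ ∨ (x : G) ∈ W₂
      · simp [tiAlpha_eq_zero φ ψ hx]
      · simp [f, hx]
    rw [tiAlpha_eq, classInner_add_right, classInner_sub_right, classInner_sub_right] at h2
    simp only [c]
    linear_combination h2
  have hfw : f w = 0 := by
    rw [hP.expansion f w]
    show ∑ ω : ↥(W₁ ⊔ W₂) →* ℂˣ, c ω * (ω w : ℂ) = 0
    rw [← Equiv.sum_comp hP.hatEquiv (fun ω => c ω * (ω w : ℂ)), Fintype.sum_prod_type]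
    simp only [hP.hatEquiv_apply, hc, MonoidHom.mul_apply, Units.val_mul, add_mul,
      Finset.sum_add_distrib]
    have z1 : ∀ φ : leftHat W₁ W₂, ∑ ψ : rightHat W₁ W₂, (c φ.1 - c 1) * ((φ.1 w : ℂ) * (ψ.1 w : ℂ)) = 0 := by
      intro φ
      rw [← Finset.mul_sum, ← Finset.mul_sum, hP.sum_rightHat_eq_zero hw₁, mul_zero, mul_zero]
    have z2 : ∀ ψ : rightHat W₁ W₂, ∑ φ : leftHat W₁ W₂, c ψ.1 * ((φ.1 w : ℂ) * (ψ.1 w : ℂ)) = 0 := by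
      intro ψ
      rw [← Finset.mul_sum, ← Finset.sum_mul, hP.sum_leftHat_eq_zero hw₂, zero_mul, mul_zero]
    rw [Finset.sum_eq_zero fun φ _ => z1 φ, zero_add, Finset.sum_comm, Finset.sum_eq_zero fun ψ _ => z2 ψ]
  simpa [f, hw₁, hw₂] using hfw

/-- Peterfalvi (3.4): a class function orthogonal to all `(1-φ)(1-ψ)` induced vanishes on `V`. -/
theorem vanish_on_V (hP : FactorPair W₁ W₂) {θ : G → ℂ} (hθ : Cfsg.IsClassFunction G θ)
    (h : ∀ (φ : leftHat W₁ W₂) (ψ : rightHat W₁ W₂), φ.1 ≠ 1 → ψ.1 ≠ 1 →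
      Cfsg.classInner θ (Cfsg.indFun (W₁ ⊔ W₂) (tiAlpha φ.1 ψ.1)) = 0)
    (w : ↥(W₁ ⊔ W₂)) (hw₁ : (w : G) ∉ W₁) (hw₂ : (w : G) ∉ W₂) : θ w = 0 :=
  vanish_on_V' hP (θ := fun x : ↥(W₁ ⊔ W₂) => θ x)
    (fun φ ψ hφ hψ => (classInner_indFun_right _ _ hθ).symm.trans (h φ ψ hφ hψ)) w hw₁ hw₂

end CfsgLib.OddOrderChar
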