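import Cfsg.Agent.OddOrderChar.CyclicTIExistence
import Cfsg.Agent.GaloisConj.Basic
import Cfsg.Agent.PRational.Basic
import Mathlib.RingTheory.RootsOfUnity.PrimitiveRoots

/-!
# Uniqueness of the cyclic TI family on `V` and rationality of its values (Peterfalvi (3.9))
-/

set_option autoImplicit false
set_option linter.style.haveILetI false
set_option linter.unusedSectionVars false

namespace CfsgLib.OddOrderChar

open CfsgLib.Characters
open scoped ComplexConjugate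

/-- Sums of powers over the primitive roots of unity are integers. -/
theorem exists_int_primitive_sum (n j : ℕ) :
    ∃ z : ℤ, ∑ μ ∈ primitiveRoots n ℂ, μ ^ j = (z : ℂ) := by
  classical
  induction n using Nat.strong_induction_on with
  | _ n ih =>
    rcases Nat.eq_zero_or_pos n with rfl | hn
    · exact ⟨0, by simp⟩
    have hζ := Complex.isPrimitiveRoot_exp n hn.ne'
    set ζ := Complex.exp (2 * Real.pi * Complex.I / n) with hζdef
    have himg : Polynomial.nthRootsFinset n (1 : ℂ) = (Finset.range n).image (fun i => ζ ^ i) := by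
      ext x
      rw [Polynomial.mem_nthRootsFinset hn, Finset.mem_image]
      constructor
      · intro hx
        haveI : NeZero n := ⟨hn.ne'⟩
        obtain ⟨i, hi, e⟩ := hζ.eq_pow_of_pow_eq_one hx
        exact ⟨i, Finset.mem_range.mpr hi, e⟩
      · rintro ⟨i, -, rfl⟩
        rw [← pow_mul, mul_comm, pow_mul, hζ.pow_eq_one, one_pow]
    have htot : ∃ z : ℤ, ∑ μ ∈ Polynomial.nthRootsFinset n (1 : ℂ), μ ^ j = (z : ℂ) := by
      rw [himg, Finset.sum_image (fun a ha b hb e =>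
        hζ.pow_inj (Finset.mem_range.mp ha) (Finset.mem_range.mp hb) e)]
      simp only [← pow_mul]
      simp only [fun i : ℕ => mul_comm i j, pow_mul]
      by_cases h1 : ζ ^ j = 1
      · exact ⟨n, by simp [h1]⟩
      · refine ⟨0, ?_⟩
        rw [geom_sum_eq h1, ← pow_mul, mul_comm, pow_mul, hζ.pow_eq_one, one_pow]
        simp
    obtain ⟨z, hz⟩ := htot
    rw [IsPrimitiveRoot.nthRoots_one_eq_biUnion_primitiveRoots, Finset.sum_biUnion
      (fun a _ b _ hab => IsPrimitiveRoot.disjoint hab), ← Nat.insert_self_properDivisors hn.ne',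
      Finset.sum_insert Nat.self_notMem_properDivisors] at hz
    choose! c hc using fun d (hd : d ∈ Nat.properDivisors n) => ih d (Nat.mem_properDivisors.mp hd).2
    refine ⟨z - ∑ d ∈ n.properDivisors, c d, ?_⟩
    rw [Finset.sum_congr rfl hc] at hz
    push_cast
    linear_combination hz

/-- Sums of powers of a root of unity over the units are integers. -/
theorem exists_int_units_sum (m : ℕ) [NeZero m] {x : ℂ} (hx : x ^ m = 1) :
    ∃ z : ℤ, ∑ a : (ZMod m)ˣ, x ^ (a : ZMod m).val = (z : ℂ) := by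
  classical
  have hζ := Complex.isPrimitiveRoot_exp m (NeZero.ne m)
  set ζ := Complex.exp (2 * Real.pi * Complex.I / m) with hζdef
  obtain ⟨j, -, rfl⟩ := hζ.eq_pow_of_pow_eq_one hx
  obtain ⟨z, hz⟩ := exists_int_primitive_sum m j
  refine ⟨z, hz ▸ ?_⟩
  refine Finset.sum_bij (fun a _ => ζ ^ (a : ZMod m).val) ?_ ?_ ?_ ?_
  · intro a _
    exact (mem_primitiveRoots (NeZero.pos m)).mpr
      (hζ.pow_of_coprime _ (ZMod.val_coe_unit_coprime a))
  · intro a _ b _ e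
    exact Units.ext (ZMod.val_injective m (hζ.pow_inj (ZMod.val_lt _) (ZMod.val_lt _) e))
  · intro μ hμ
    obtain ⟨i, hi, hcop, rfl⟩ := hζ.isPrimitiveRoot_iff.mp
      ((mem_primitiveRoots (NeZero.pos m)).mp hμ)
    exact ⟨ZMod.unitOfCoprime i hcop, Finset.mem_univ _, by
      rw [ZMod.coe_unitOfCoprime, ZMod.val_natCast, Nat.mod_eq_of_lt hi]⟩
  · intro a _
    rw [← pow_mul, ← pow_mul, mul_comm]

variable {G : Type*} [Group G] [Fintype G] {W₁ W₂ : Subgroup G}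

theorem IsSignedIrr.isClassFunction {u : G → ℂ} (h : IsSignedIrr u) : Cfsg.IsClassFunction G u := by
  rcases h with h | h
  · exact isClassFunction_of_isIrr h
  · intro x y
    exact neg_injective (isClassFunction_of_isIrr h x y)

/-- A signed irreducible character is determined by its values on `V`, if they are those of `χ ω`. -/
theorem tiFamily_unique (hW : Cfsg.IsSelfNormalizingCyclic W₁ W₂)
    (hodd : Odd (Nat.card ↥(W₁ ⊔ W₂))) {χ : (↥(W₁ ⊔ W₂) →* ℂˣ) → (G → ℂ)}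
    (hχ : Cfsg.IsCyclicTIFamily W₁ W₂ χ) (ω : ↥(W₁ ⊔ W₂) →* ℂˣ) {u : G → ℂ} (hu : IsSignedIrr u)
    (hV : ∀ w : ↥(W₁ ⊔ W₂), (w : G) ∉ W₁ → (w : G) ∉ W₂ → u w = χ ω w) : u = χ ω := by
  classical
  letI : Fintype ↥(W₁ ⊔ W₂) := Fintype.ofFinite _
  have hP := factorPair_of_snc hW
  haveI := hP.finite_hom
  letI : Fintype (leftHat W₁ W₂) := Fintype.ofFinite _
  letI : Fintype (rightHat W₁ W₂) := Fintype.ofFinite _
  obtain ⟨h3l, h3r, -, -, -⟩ := snc_card_bounds hW hodd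
  by_contra hne
  have hs : ∀ ω', IsSignedIrr (χ ω') := hχ.irr_or_neg
  have hsame : ∀ ω₁ ω₂, Cfsg.classInner u (χ ω₁) ≠ 0 → Cfsg.classInner u (χ ω₂) ≠ 0 → ω₁ = ω₂ := by
    intro ω₁ ω₂ h₁ h₂
    have e₁ : u = χ ω₁ ∨ -u = χ ω₁ := by
      by_contra h; push Not at h; exact h₁ (hu.inner_eq_zero (hs _) h.1 h.2)
    have e₂ : u = χ ω₂ ∨ -u = χ ω₂ := by
      by_contra h; push Not at h; exact h₂ (hu.inner_eq_zero (hs _) h.1 h.2)
    by_contra hω
    have h0 := hχ.orthonormal ω₁ ω₂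
    rw [if_neg hω] at h0
    rcases e₁ with e₁ | e₁ <;> rcases e₂ with e₂ | e₂ <;> rw [← e₁, ← e₂] at h0 <;>
      simp [classInner_neg_left', classInner_neg_right', hu.inner_self] at h0
  obtain ⟨ω₀, hω₀⟩ : ∃ ω₀, ∀ ω', ω' ≠ ω₀ → Cfsg.classInner u (χ ω') = 0 := by
    by_cases h : ∃ ω₀, Cfsg.classInner u (χ ω₀) ≠ 0
    · obtain ⟨ω₀, h₀⟩ := h
      exact ⟨ω₀, fun ω' hne' => by_contra fun h' => hne' (hsame _ _ h' h₀)⟩
    · push Not at h
      exact ⟨ω, fun ω' _ => h ω'⟩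
  let a : (↥(W₁ ⊔ W₂) →* ℂˣ) → ℂ := fun ω' => Cfsg.classInner (u - χ ω) (χ ω')
  have hdcl : Cfsg.IsClassFunction G (u - χ ω) := fun x y => by
    simp [hu.isClassFunction x y, (hs ω).isClassFunction x y]
  have hrel : ∀ (φ : leftHat W₁ W₂) (ψ : rightHat W₁ W₂), a 1 + a (φ.1 * ψ.1) = a φ.1 + a ψ.1 :=
    fun φ ψ => tiFamily_relation hW hχ hdcl (fun w h1 h2 => by simp [hV w h1 h2]) φ ψ
  have hzero : ∀ ω', ω' ≠ ω → ω' ≠ ω₀ → a ω' = 0 := fun ω' h h₀ => by
    simp only [a, classInner_sub_left, hω₀ ω' h₀, hχ.orthonormal, if_neg (Ne.symm h), sub_zero]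
  have hself : a ω ≠ 0 := by
    simp only [a, classInner_sub_left, hχ.orthonormal, if_pos trivial]
    intro h
    have h1 : Cfsg.classInner u (χ ω) = 1 := sub_eq_zero.mp h
    by_cases h2 : -u = χ ω
    · rw [← h2, classInner_neg_right', hu.inner_self] at h1; norm_num at h1
    · rw [hu.inner_eq_zero (hs ω) hne h2] at h1; exact one_ne_zero h1.symm
  obtain ⟨⟨φ, ψ⟩, hφψ⟩ := hP.hatEquiv.surjective ω
  obtain ⟨⟨φ₀, ψ₀⟩, hφψ₀⟩ := hP.hatEquiv.surjective ω₀
  rw [hP.hatEquiv_apply] at hφψ hφψ₀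
  obtain ⟨φ', hφ'⟩ : ∃ φ', φ' ∉ ({φ, φ₀} : Finset (leftHat W₁ W₂)) := by
    refine Finset.exists_mem_notMem_of_card_lt_card (s := {φ, φ₀}) (t := Finset.univ) ?_ |>.imp fun _ h => h.2
    refine lt_of_le_of_lt Finset.card_le_two ?_
    rw [Finset.card_univ, ← Nat.card_eq_fintype_card, hP.card_leftHat]; omega
  obtain ⟨ψ', hψ'⟩ : ∃ ψ', ψ' ∉ ({ψ, ψ₀} : Finset (rightHat W₁ W₂)) := by
    refine Finset.exists_mem_notMem_of_card_lt_card (s := {ψ, ψ₀}) (t := Finset.univ) ?_ |>.imp fun _ h => h.2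
    refine lt_of_le_of_lt Finset.card_le_two ?_
    rw [Finset.card_univ, ← Nat.card_eq_fintype_card, hP.card_rightHat]; omega
  simp only [Finset.mem_insert, Finset.mem_singleton, not_or] at hφ' hψ'
  have hdist : ∀ (p q : leftHat W₁ W₂ × rightHat W₁ W₂), p ≠ q → p.1.1 * p.2.1 ≠ q.1.1 * q.2.1 :=
    fun p q h e => h (hP.hatEquiv.injective (by rw [hP.hatEquiv_apply, hP.hatEquiv_apply]; exact e))
  have z1 : a (φ'.1 * ψ'.1) = 0 := hzero _ (hφψ ▸ hdist (φ', ψ') (φ, ψ) (by simp [hφ'.1]))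
    (hφψ₀ ▸ hdist (φ', ψ') (φ₀, ψ₀) (by simp [hφ'.2]))
  have z2 : a (φ'.1 * ψ.1) = 0 := hzero _ (hφψ ▸ hdist (φ', ψ) (φ, ψ) (by simp [hφ'.1]))
    (hφψ₀ ▸ hdist (φ', ψ) (φ₀, ψ₀) (by simp [hφ'.2]))
  have z3 : a (φ.1 * ψ'.1) = 0 := hzero _ (hφψ ▸ hdist (φ, ψ') (φ, ψ) (by simp [hψ'.1]))
    (hφψ₀ ▸ hdist (φ, ψ') (φ₀, ψ₀) (by simp [hψ'.2]))
  refine hself ?_
  rw [← hφψ]
  linear_combination hrel φ ψ + hrel φ' ψ' - hrel φ' ψ - hrel φ ψ' - z1 + z2 + z3

/-- Peterfalvi (3.9): values at elements of order prime to that of `ω` are rational integers. -/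
theorem tiFamily_int_value (hW : Cfsg.IsSelfNormalizingCyclic W₁ W₂)
    (hodd : Odd (Nat.card ↥(W₁ ⊔ W₂))) {χ : (↥(W₁ ⊔ W₂) →* ℂˣ) → (G → ℂ)}
    (hχ : Cfsg.IsCyclicTIFamily W₁ W₂ χ) (ω : ↥(W₁ ⊔ W₂) →* ℂˣ) (g : G)
    (hg : Nat.Coprime (orderOf g) (orderOf ω)) : ∃ n : ℤ, χ ω g = n := by
  classical
  haveI := (factorPair_of_snc hW).finite_hom
  haveI : NeZero (orderOf g) := ⟨(orderOf_pos g).ne'⟩
  haveI : NeZero (orderOf ω * orderOf g) :=
    ⟨Nat.mul_ne_zero (orderOf_pos ω).ne' (orderOf_pos g).ne'⟩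
  obtain ⟨ε, θ, hθ, hε, heq⟩ : ∃ (ε : ℤ) (θ : G → ℂ), Cfsg.IsIrrCharacter G θ ∧ (ε = 1 ∨ ε = -1) ∧
      χ ω = fun x => (ε : ℂ) * θ x := by
    rcases hχ.irr_or_neg ω with h | h
    · exact ⟨1, _, h, Or.inl rfl, by simp⟩
    · exact ⟨-1, _, h, Or.inr rfl, by simp⟩
  obtain ⟨d, ρ, hρ, rfl⟩ := hθ
  obtain ⟨μ, hμ, hj, -⟩ := exists_eigenvalues ρ g
  have hval : ρ.character g = ∑ i, μ i := by simpa using hj 1
  have hfix : ∀ a : (ZMod (orderOf g))ˣ, (ε : ℂ) * ∑ i, μ i ^ (a : ZMod (orderOf g)).val = χ ω g := by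
    intro a
    obtain ⟨k, hk1, hk2⟩ := Nat.chineseRemainder hg.symm 1 (a : ZMod (orderOf g)).val
    have hkcop : Nat.Coprime k (orderOf ω * orderOf g) := by
      refine Nat.Coprime.mul_right ?_ ?_
      · rw [Nat.Coprime, hk1.gcd_eq, Nat.gcd_one_left]
      · rw [Nat.Coprime, hk2.gcd_eq]; exact ZMod.val_coe_unit_coprime a
    obtain ⟨σ, hσ⟩ := GaloisConj.exists_ringEquiv_pow _ k hkcop
    have hsg : IsSignedIrr (fun x => σ (χ ω x)) := by
      rcases hχ.irr_or_neg ω with h | h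
      · exact Or.inl (GaloisConj.isIrrCharacter_comp σ h)
      · refine Or.inr ?_
        have := GaloisConj.isIrrCharacter_comp σ h
        convert this using 1
        funext x; simp
    have hV : ∀ w : ↥(W₁ ⊔ W₂), (w : G) ∉ W₁ → (w : G) ∉ W₂ → σ (χ ω w) = χ ω w := by
      intro w h1 h2
      rw [hχ.eq_on ω w h1 h2]
      have hw : (ω w : ℂ) ^ orderOf ω = 1 := by
        rw [← Units.val_pow_eq_pow_val, ← MonoidHom.pow_apply, pow_orderOf_eq_one, MonoidHom.one_apply,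
          Units.val_one]
      rw [hσ _ (by rw [pow_mul, hw, one_pow]), ← pow_one (ω w : ℂ), ← pow_mul, one_mul]
      exact pow_eq_pow_of_modEq hk1 hw
    have hg' := congrFun (tiFamily_unique hW hodd hχ ω hsg hV) g
    conv_rhs => rw [← hg']
    rw [heq, map_mul, map_intCast, hval, map_sum]
    congr 1
    refine Finset.sum_congr rfl fun i _ => ?_
    rw [hσ _ (by rw [mul_comm, pow_mul, hμ i, one_pow])]
    exact (pow_eq_pow_of_modEq hk2 (hμ i)).symm
  choose z hz using fun i => exists_int_units_sum (orderOf g) (hμ i)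
  have hint : IsIntegral ℤ (χ ω g) := by
    rw [heq]
    exact (isIntegral_algebraMap (x := ε)).mul (char_isIntegral ρ g)
  refine PRational.exists_int_of_isIntegral_of_mul hint
    (b := Fintype.card (ZMod (orderOf g))ˣ) Fintype.card_ne_zero (a := ε * ∑ i, z i) ?_
  rw [← Finset.card_univ, ← nsmul_eq_mul, ← Finset.sum_const,
    ← Finset.sum_congr rfl fun a _ => hfix a, ← Finset.mul_sum, Finset.sum_comm,
    Finset.sum_congr rfl fun i _ => hz i]
  push_cast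
  rfl

end CfsgLib.OddOrderChar
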