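import Mathlib.GroupTheory.Index
import Mathlib.LinearAlgebra.LinearIndependent.Lemmas
import Mathlib.RingTheory.IntegralDomain
import Mathlib.Analysis.Complex.Basic

/-!
# The functions `(1 - φ)(1 - ψ)` on a product of two commuting subgroups (Peterfalvi (3.4))
-/

set_option autoImplicit false

namespace CfsgLib.OddOrderChar

variable {G : Type*} [Group G]

/-- Linear characters, read as complex functions, are linearly independent. -/
theorem linearIndependent_unitsHom (W : Type*) [Monoid W] :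
    LinearIndependent ℂ (fun ω : W →* ℂˣ => fun w : W => (ω w : ℂ)) := by
  refine (linearIndependent_monoidHom W ℂ).comp (fun ω : W →* ℂˣ => (Units.coeHom ℂ).comp ω) ?_
  intro a b h
  ext w
  exact DFunLike.congr_fun h w

/-- Elements of a join of two commuting subgroups are products. -/
theorem exists_mul_of_mem_sup (W₁ W₂ : Subgroup G) (hcomm : ∀ a ∈ W₁, ∀ b ∈ W₂, a * b = b * a)
    {w : G} (hw : w ∈ W₁ ⊔ W₂) : ∃ a ∈ W₁, ∃ b ∈ W₂, a * b = w := by
  have hw' : w ∈ ((W₁ ⊔ W₂ : Subgroup G) : Set G) := hw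
  rw [Subgroup.coe_mul_of_left_le_normalizer_right] at hw'
  · exact Set.mem_mul.mp hw'
  · intro a ha
    rw [Subgroup.mem_normalizer_iff]
    refine fun b => ⟨fun hb => ?_, fun hb => ?_⟩
    · rwa [hcomm a ha b hb, mul_inv_cancel_right]
    · have h := hcomm a⁻¹ (W₁.inv_mem ha) _ hb
      have : b = a⁻¹ * (a * b * a⁻¹) * a := by group
      rw [this, h]; simpa using hb

/-- A linear character of `W₁W₂` trivial on both factors is trivial. -/
theorem hom_eq_one_of_trivial (W₁ W₂ : Subgroup G) (hcomm : ∀ a ∈ W₁, ∀ b ∈ W₂, a * b = b * a)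
    (φ : ↥(W₁ ⊔ W₂) →* ℂˣ) (h₁ : ∀ w : ↥(W₁ ⊔ W₂), (w : G) ∈ W₁ → φ w = 1)
    (h₂ : ∀ w : ↥(W₁ ⊔ W₂), (w : G) ∈ W₂ → φ w = 1) : φ = 1 := by
  ext w
  obtain ⟨a, ha, b, hb, hab⟩ := exists_mul_of_mem_sup W₁ W₂ hcomm w.2
  have : w = ⟨a, Subgroup.mem_sup_left ha⟩ * ⟨b, Subgroup.mem_sup_right hb⟩ := Subtype.ext hab.symm
  rw [this, map_mul, h₁ _ ha, h₂ _ hb, mul_one, MonoidHom.one_apply]

end CfsgLib.OddOrderChar
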