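import Cfsg.Prelude.Def_OddOrderChar
import Cfsg.Agent.OddOrderChar.CoprimeCoset

/-!
# Elementary consequences of the Dade set-up
-/

set_option autoImplicit false

namespace CfsgLib.OddOrderChar

open Cfsg

variable {G : Type*} [Group G] {A : Set G} {L : Subgroup G} {H : G → Subgroup G}

/-- `g` in the centraliser of `{a}`. -/
theorem mem_centralizer_singleton' {a g : G} :
    g ∈ Subgroup.centralizer ({a} : Set G) ↔ a * g = g * a := by
  simp [Subgroup.mem_centralizer_iff]

/-- Elements of `H a` commute with `a`. -/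
theorem dade_comm (hD : DadeHypothesis A L H) {a u : G} (ha : a ∈ A) (hu : u ∈ H a) : Commute a u :=
  mem_centralizer_singleton'.mp (hD.le_centralizer a ha hu)

/-- `a` lies in `C_L(a)`. -/
theorem dade_self_mem (hD : DadeHypothesis A L H) {a : G} (ha : a ∈ A) :
    a ∈ L ⊓ Subgroup.centralizer ({a} : Set G) :=
  ⟨hD.subset ha, mem_centralizer_singleton'.mpr rfl⟩

theorem dade_pow_card_H {a u : G} (hu : u ∈ H a) : u ^ Nat.card (H a) = 1 := by
  have := pow_card_eq_one' (G := H a) (x := ⟨u, hu⟩)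
  exact congrArg Subtype.val this

/-- `C_G(a)` as a set product `H a * C_L(a)`. -/
theorem dade_centralizer_decomp (hD : DadeHypothesis A L H) {a c : G} (ha : a ∈ A)
    (hc : c ∈ Subgroup.centralizer ({a} : Set G)) :
    ∃ u ∈ H a, ∃ l ∈ L ⊓ Subgroup.centralizer ({a} : Set G), u * l = c := by
  have hmem : c ∈ ((H a ⊔ (L ⊓ Subgroup.centralizer ({a} : Set G)) : Subgroup G) : Set G) := by
    rw [hD.sup_eq a ha]; exact hc
  rw [Subgroup.coe_mul_of_right_le_normalizer_left] at hmem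
  · exact Set.mem_mul.mp hmem
  · intro l hl
    rw [Subgroup.mem_normalizer_iff]
    refine fun u => ⟨hD.conj_mem_H a ha l hl.2 u, fun h => ?_⟩
    have := hD.conj_mem_H a ha l⁻¹ (Subgroup.inv_mem _ hl.2) _ h
    simpa [mul_assoc] using this

/-- The decomposition `c = u * l` is unique. -/
theorem dade_centralizer_decomp_unique (hD : DadeHypothesis A L H) {a u l u' l' : G} (ha : a ∈ A)
    (hu : u ∈ H a) (hu' : u' ∈ H a) (hl : l ∈ L ⊓ Subgroup.centralizer ({a} : Set G))
    (hl' : l' ∈ L ⊓ Subgroup.centralizer ({a} : Set G)) (he : u * l = u' * l') : u = u' ∧ l = l' := by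
  have hm : u'⁻¹ * u ∈ H a ⊓ (L ⊓ Subgroup.centralizer ({a} : Set G)) := by
    refine ⟨(H a).mul_mem ((H a).inv_mem hu') hu, ?_⟩
    have : u'⁻¹ * u = l' * l⁻¹ := by
      rw [eq_mul_inv_iff_mul_eq, mul_assoc, he]; group
    rw [this]
    exact Subgroup.mul_mem _ hl' (Subgroup.inv_mem _ hl)
  rw [hD.inf_eq_bot a ha, Subgroup.mem_bot, inv_mul_eq_one] at hm
  subst hm
  exact ⟨rfl, mul_left_cancel he⟩

/-- An element of `C_G(a)` whose order divides `|H a|` lies in `H a`. -/
theorem dade_mem_H_of_pow [Finite G] (hD : DadeHypothesis A L H) {a c : G} (ha : a ∈ A)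
    (hc : c ∈ Subgroup.centralizer ({a} : Set G)) (hpow : c ^ Nat.card (H a) = 1) : c ∈ H a := by
  set P := L ⊓ Subgroup.centralizer ({a} : Set G) with hP
  set n := Nat.card (H a) with hn
  have key : ∀ k : ℕ, ∀ u ∈ H a, ∀ l ∈ P, ∃ u' ∈ H a, (u * l) ^ k = u' * l ^ k := by
    intro k u hu l hl
    induction k with
    | zero => exact ⟨1, (H a).one_mem, by simp⟩
    | succ k ih =>
      obtain ⟨u', hu', he⟩ := ih
      refine ⟨u' * (l ^ k * u * (l ^ k)⁻¹), (H a).mul_mem hu'
        (hD.conj_mem_H a ha _ (Subgroup.pow_mem _ hl.2 k) u hu), ?_⟩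
      rw [pow_succ, he, pow_succ]; group
  obtain ⟨u, hu, l, hl, rfl⟩ := dade_centralizer_decomp hD ha hc
  obtain ⟨u', hu', he⟩ := key n u hu l hl
  rw [hpow] at he
  have h1 : l ^ n = 1 :=
    (dade_centralizer_decomp_unique hD ha (H a).one_mem hu' (Subgroup.one_mem _)
      (Subgroup.pow_mem _ hl n) (by rw [← he]; simp)).2.symm
  have h2 : l ^ Nat.card P = 1 := by
    have := pow_card_eq_one' (G := P) (x := ⟨l, hl⟩)
    exact congrArg Subtype.val this
  have h3 : l ^ Nat.gcd n (Nat.card P) = 1 := pow_gcd_eq_one.mpr ⟨h1, h2⟩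
  rw [hD.coprime a ha a ha, pow_one] at h3
  simpa [h3] using hu

/-- The order of `a` is coprime to `|H b|`. -/
theorem dade_orderOf_coprime [Finite G] (hD : DadeHypothesis A L H) {a b : G} (ha : a ∈ A)
    (hb : b ∈ A) : Nat.Coprime (Nat.card (H b)) (orderOf a) := by
  refine (hD.coprime b hb a ha).coprime_dvd_right ?_
  rw [← Subgroup.orderOf_mk a (dade_self_mem hD ha)]
  exact orderOf_dvd_natCard _

/-- A conjugation taking an element of `a * H a` to one of `b * H b` takes `a` to `b`. -/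
theorem dade_conj_coset [Finite G] (hD : DadeHypothesis A L H) {a b u v g : G} (ha : a ∈ A)
    (hb : b ∈ A) (hu : u ∈ H a) (hv : v ∈ H b) (he : g * (a * u) * g⁻¹ = b * v) :
    g * a * g⁻¹ = b := by
  have hcop : Nat.Coprime (orderOf a * orderOf b) (Nat.card (H a) * Nat.card (H b)) :=
    Nat.Coprime.mul_left
      (Nat.Coprime.mul_right (dade_orderOf_coprime hD ha ha).symm (dade_orderOf_coprime hD ha hb).symm)
      (Nat.Coprime.mul_right (dade_orderOf_coprime hD hb ha).symm (dade_orderOf_coprime hD hb hb).symm)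
  obtain ⟨k, hk⟩ := exists_pow_extract hcop
  have h1 : (a * u) ^ k = a := hk G a u (dade_comm hD ha hu)
    (by rw [pow_mul, pow_orderOf_eq_one, one_pow]) (by rw [pow_mul, dade_pow_card_H hu, one_pow])
  have h2 : (b * v) ^ k = b := hk G b v (dade_comm hD hb hv)
    (by rw [mul_comm, pow_mul, pow_orderOf_eq_one, one_pow])
    (by rw [mul_comm, pow_mul, dade_pow_card_H hv, one_pow])
  have := congrArg (· ^ k) he
  simp only [conj_pow] at this
  rwa [h1, h2] at this

/-- `L` permutes the subgroups `H a` by conjugation. -/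
theorem dade_H_conj [Finite G] (hD : DadeHypothesis A L H) {a x : G} (ha : a ∈ A) (hx : x ∈ L) :
    H (x * a * x⁻¹) = (H a).map (MulAut.conj x).toMonoidHom := by
  set b := x * a * x⁻¹ with hbdef
  have hb : b ∈ A := hD.conj_mem x hx a ha
  have cmem : ∀ c, c ∈ Subgroup.centralizer ({a} : Set G) →
      x * c * x⁻¹ ∈ Subgroup.centralizer ({b} : Set G) := by
    intro c hc
    rw [mem_centralizer_singleton'] at hc ⊢
    calc b * (x * c * x⁻¹) = x * (a * c) * x⁻¹ := by rw [hbdef]; group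
      _ = x * (c * a) * x⁻¹ := by rw [hc]
      _ = x * c * x⁻¹ * b := by rw [hbdef]; group
  have cmem' : ∀ c, c ∈ Subgroup.centralizer ({b} : Set G) →
      x⁻¹ * c * x ∈ Subgroup.centralizer ({a} : Set G) := by
    intro c hc
    rw [mem_centralizer_singleton'] at hc ⊢
    calc a * (x⁻¹ * c * x) = x⁻¹ * (b * c) * x := by rw [hbdef]; group
      _ = x⁻¹ * (c * b) * x := by rw [hc]
      _ = x⁻¹ * c * x * a := by rw [hbdef]; group
  let ec : ↥(Subgroup.centralizer ({a} : Set G)) ≃ ↥(Subgroup.centralizer ({b} : Set G)) :=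
    { toFun := fun c => ⟨x * c * x⁻¹, cmem c c.2⟩
      invFun := fun c => ⟨x⁻¹ * c * x, cmem' c c.2⟩
      left_inv := fun c => Subtype.ext (by simp [mul_assoc])
      right_inv := fun c => Subtype.ext (by simp [mul_assoc]) }
  let el : ↥(L ⊓ Subgroup.centralizer ({a} : Set G)) ≃ ↥(L ⊓ Subgroup.centralizer ({b} : Set G)) :=
    { toFun := fun c => ⟨x * c * x⁻¹, L.mul_mem (L.mul_mem hx c.2.1) (L.inv_mem hx), cmem c c.2.2⟩
      invFun := fun c =>
        ⟨x⁻¹ * c * x, L.mul_mem (L.mul_mem (L.inv_mem hx) c.2.1) hx, cmem' c c.2.2⟩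
      left_inv := fun c => Subtype.ext (by simp [mul_assoc])
      right_inv := fun c => Subtype.ext (by simp [mul_assoc]) }
  have hcard : ∀ a ∈ A, Nat.card (H a) * Nat.card ↥(L ⊓ Subgroup.centralizer ({a} : Set G)) =
      Nat.card ↥(Subgroup.centralizer ({a} : Set G)) := by
    intro a ha
    rw [← Nat.card_prod]
    refine Nat.card_eq_of_bijective (fun p => ⟨(p.1 : G) * p.2, Subgroup.mul_mem _
      (hD.le_centralizer a ha p.1.2) p.2.2.2⟩) ⟨?_, ?_⟩
    · intro p q hpq
      obtain ⟨h1, h2⟩ := dade_centralizer_decomp_unique hD ha p.1.2 q.1.2 p.2.2 q.2.2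
        (congrArg Subtype.val hpq)
      exact Prod.ext (Subtype.ext h1) (Subtype.ext h2)
    · intro c
      obtain ⟨u, hu, l, hl, he⟩ := dade_centralizer_decomp hD ha c.2
      exact ⟨⟨⟨u, hu⟩, ⟨l, hl⟩⟩, Subtype.ext he⟩
  have hHeq : Nat.card (H b) = Nat.card (H a) := by
    have h1 := hcard a ha
    have h2 := hcard b hb
    rw [← Nat.card_congr ec, ← Nat.card_congr el, ← h1] at h2
    exact Nat.eq_of_mul_eq_mul_right Nat.card_pos h2
  ext w
  simp only [Subgroup.mem_map, MulEquiv.coe_toMonoidHom, MulAut.conj_apply]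
  refine ⟨fun hw => ?_, ?_⟩
  · refine ⟨x⁻¹ * w * x, dade_mem_H_of_pow hD ha (cmem' w (hD.le_centralizer b hb hw)) ?_, by group⟩
    have : x⁻¹ * w * x = x⁻¹ * w * x⁻¹⁻¹ := by simp
    rw [this, conj_pow, ← hHeq, dade_pow_card_H hw]; simp
  · rintro ⟨u, hu, rfl⟩
    refine dade_mem_H_of_pow hD hb (cmem u (hD.le_centralizer a ha hu)) ?_
    rw [conj_pow, hHeq, dade_pow_card_H hu]; simp

end CfsgLib.OddOrderChar
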