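import Cfsg.Agent.OddOrderChar.Dade
import Mathlib.Algebra.BigOperators.Finprod
import Mathlib.Algebra.BigOperators.Field

/-!
# The Dade map: values, support and isometry (Peterfalvi (2.5)-(2.6))
-/

set_option autoImplicit false

namespace CfsgLib.OddOrderChar

open Cfsg
open scoped ComplexConjugate

variable {G : Type*} [Group G] {A : Set G} {L : Subgroup G} {H : G → Subgroup G}

/-- `H a ∩ L = 1`. -/
theorem dade_eq_one_of_mem_L (hD : DadeHypothesis A L H) {a u : G} (ha : a ∈ A) (hu : u ∈ H a)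
    (hl : u ∈ L) : u = 1 := by
  have : u ∈ H a ⊓ (L ⊓ Subgroup.centralizer ({a} : Set G)) :=
    ⟨hu, hl, hD.le_centralizer a ha hu⟩
  rwa [hD.inf_eq_bot a ha, Subgroup.mem_bot] at this

variable [Finite G]

/-- The value of the Dade map on the conjugates of `a * H a`. -/
theorem dade_apply_conj (hD : DadeHypothesis A L H) {α : ↥L → ℂ} (hα : IsClassFunction ↥L α)
    (a : ↥L) (ha : (a : G) ∈ A) {u : G} (hu : u ∈ H (a : G)) (x : G) :
    dadeIsometry A L H α (x * ((a : G) * u) * x⁻¹) = α a := by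
  classical
  have h : ∃ a' : ↥L, (a' : G) ∈ A ∧ ∃ y : G, ∃ v ∈ H (a' : G),
      y * (x * ((a : G) * u) * x⁻¹) * y⁻¹ = (a' : G) * v := ⟨a, ha, x⁻¹, u, hu, by group⟩
  unfold dadeIsometry
  rw [dif_pos h]
  obtain ⟨hb, y, v, hv, he⟩ := Classical.choose_spec h
  have hc : (y * x) * (a : G) * (y * x)⁻¹ = ((Classical.choose h : ↥L) : G) :=
    dade_conj_coset hD ha hb hu hv (by rw [← he]; group)
  obtain ⟨l, hl, hle⟩ := hD.fusion _ ha (y * x) (hc ▸ hb)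
  have : Classical.choose h = ⟨l, hl⟩ * a * ⟨l, hl⟩⁻¹ := Subtype.ext (by simpa [hle] using hc.symm)
  rw [this, hα]

omit [Finite G] in
theorem dade_apply_eq_zero (α : ↥L → ℂ) {g : G}
    (hg : ¬ ∃ a : ↥L, (a : G) ∈ A ∧ ∃ x : G, ∃ u ∈ H (a : G), x * g * x⁻¹ = (a : G) * u) :
    dadeIsometry A L H α g = 0 := by
  classical
  unfold dadeIsometry
  rw [dif_neg hg]

/-- The Dade image of a class function is a class function. -/
theorem isClassFunction_dade (hD : DadeHypothesis A L H) {α : ↥L → ℂ} (hα : IsClassFunction ↥L α) :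
    IsClassFunction G (dadeIsometry A L H α) := by
  intro g h
  by_cases hg : ∃ a : ↥L, (a : G) ∈ A ∧ ∃ x : G, ∃ u ∈ H (a : G), x * g * x⁻¹ = (a : G) * u
  · obtain ⟨a, ha, x, u, hu, he⟩ := hg
    have h1 : g = x⁻¹ * ((a : G) * u) * x⁻¹⁻¹ := by rw [← he]; group
    have h2 : h * g * h⁻¹ = (h * x⁻¹) * ((a : G) * u) * (h * x⁻¹)⁻¹ := by rw [← he]; group
    rw [h2, dade_apply_conj hD hα a ha hu, h1, dade_apply_conj hD hα a ha hu]
  · rw [dade_apply_eq_zero α hg, dade_apply_eq_zero α]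
    rintro ⟨a, ha, x, u, hu, he⟩
    exact hg ⟨a, ha, x * h, u, hu, by rw [← he]; group⟩

variable [Fintype G] [Fintype L]

open Classical in
/-- Summation over the Dade support. -/
theorem dade_sum_support (hD : DadeHypothesis A L H) (F : G → ℂ)
    (hF : ∀ g, (¬ ∃ a : ↥L, (a : G) ∈ A ∧ ∃ x : G, ∃ u ∈ H (a : G), x * g * x⁻¹ = (a : G) * u) → F g = 0) :
    ∑ g : G, F g = ∑ a : {a : ↥L // (a : G) ∈ A}, ((Nat.card L : ℂ) * Nat.card (H (a.1 : G)))⁻¹ *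
      ∑ p : ↥(H (a.1 : G)) × G, F (p.2 * ((a.1 : G) * p.1) * p.2⁻¹) := by
  let T := Σ a : {a : ↥L // (a : G) ∈ A}, ↥(H (a.1 : G)) × G
  let φ : T → G := fun t => t.2.2 * ((t.1.1 : G) * t.2.1) * t.2.2⁻¹
  let w : T → ℂ := fun t => ((Nat.card L : ℂ) * Nat.card (H (t.1.1 : G)))⁻¹
  suffices h : ∑ g : G, F g = ∑ t : T, w t * F (φ t) by
    rw [h, Fintype.sum_sigma]
    exact Finset.sum_congr rfl fun a _ => by rw [Finset.mul_sum]
  rw [← Finset.sum_fiberwise Finset.univ φ]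
  refine Finset.sum_congr rfl fun g _ => ?_
  rw [Finset.sum_congr rfl (g := fun t => w t * F g) (fun t ht => by rw [(Finset.mem_filter.mp ht).2]),
    ← Finset.sum_mul]
  by_cases hg : ∃ a : ↥L, (a : G) ∈ A ∧ ∃ x : G, ∃ u ∈ H (a : G), x * g * x⁻¹ = (a : G) * u
  swap
  · rw [hF g hg, mul_zero]
  obtain ⟨a₀, ha₀, x, u₀, hu₀, he⟩ := hg
  set x₀ := x⁻¹ with hx₀
  have hg0 : g = x₀ * ((a₀ : G) * u₀) * x₀⁻¹ := by rw [← he, hx₀]; group
  have hmemH : ∀ (l : ↥L) (u : G), u ∈ H (a₀ : G) →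
      (l : G) * (u⁻¹ * u₀ * u) * (l : G)⁻¹ ∈ H (((l * a₀ * l⁻¹ : ↥L)) : G) := by
    intro l u hu
    have : H (((l * a₀ * l⁻¹ : ↥L)) : G) = (H (a₀ : G)).map (MulAut.conj (l : G)).toMonoidHom := by
      simpa using dade_H_conj hD ha₀ l.2
    rw [this]
    exact ⟨_, (H (a₀ : G)).mul_mem ((H (a₀ : G)).mul_mem ((H (a₀ : G)).inv_mem hu) hu₀) hu, rfl⟩
  let e : ↥L × ↥(H (a₀ : G)) → {t : T // φ t = g} := fun p =>
    ⟨⟨⟨p.1 * a₀ * p.1⁻¹, by simpa using hD.conj_mem _ p.1.2 _ ha₀⟩,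
      ⟨⟨(p.1 : G) * ((p.2 : G)⁻¹ * u₀ * p.2) * (p.1 : G)⁻¹, hmemH p.1 _ p.2.2⟩,
       x₀ * p.2 * (p.1 : G)⁻¹⟩⟩, by
      have hc : Commute (a₀ : G) (p.2 : G) := dade_comm hD ha₀ p.2.2
      simp only [φ, Subgroup.coe_mul, Subgroup.coe_inv]
      rw [hg0]
      calc x₀ * p.2 * (p.1 : G)⁻¹ * ((p.1 : G) * a₀ * (p.1 : G)⁻¹ *
            ((p.1 : G) * ((p.2 : G)⁻¹ * u₀ * p.2) * (p.1 : G)⁻¹)) * (x₀ * p.2 * (p.1 : G)⁻¹)⁻¹
          = x₀ * ((p.2 : G) * a₀) * (p.2 : G)⁻¹ * u₀ * x₀⁻¹ := by group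
        _ = x₀ * ((a₀ : G) * p.2) * (p.2 : G)⁻¹ * u₀ * x₀⁻¹ := by rw [hc.eq]
        _ = x₀ * ((a₀ : G) * u₀) * x₀⁻¹ := by group⟩
  have hinj : Function.Injective e := by
    intro p q hpq
    have hx : x₀ * p.2 * (p.1 : G)⁻¹ = x₀ * q.2 * (q.1 : G)⁻¹ :=
      congrArg (fun t : {t : T // φ t = g} => t.1.2.2) hpq
    have h1 : (q.2 : G)⁻¹ * p.2 = (q.1 : G)⁻¹ * p.1 := by
      rw [mul_assoc, mul_assoc] at hx
      have h2 := mul_left_cancel hx
      rw [mul_inv_eq_iff_eq_mul] at h2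
      rw [h2]; group
    have h3 : (q.2 : G)⁻¹ * p.2 = 1 := dade_eq_one_of_mem_L hD ha₀
      ((H (a₀ : G)).mul_mem ((H (a₀ : G)).inv_mem q.2.2) p.2.2) (h1 ▸ L.mul_mem (L.inv_mem q.1.2) p.1.2)
    rw [h3, eq_comm, inv_mul_eq_one] at h1
    rw [inv_mul_eq_one] at h3
    exact Prod.ext (Subtype.ext h1.symm) (Subtype.ext h3.symm)
  have hsurj : Function.Surjective e := by
    rintro ⟨⟨⟨a, ha⟩, ⟨v, hv⟩, y⟩, ht⟩
    simp only [φ] at ht
    set c := x₀⁻¹ * y with hc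
    have hcc : c * ((a : G) * v) * c⁻¹ = (a₀ : G) * u₀ := by
      rw [hc]
      calc x₀⁻¹ * y * ((a : G) * v) * (x₀⁻¹ * y)⁻¹ = x₀⁻¹ * (y * ((a : G) * v) * y⁻¹) * x₀ := by group
        _ = (a₀ : G) * u₀ := by rw [ht, hg0]; group
    have hca : c * (a : G) * c⁻¹ = a₀ := dade_conj_coset hD ha ha₀ hv hu₀ hcc
    obtain ⟨l, hl, hle⟩ := hD.fusion _ ha₀ c⁻¹ (by
      have : c⁻¹ * (a₀ : G) * c⁻¹⁻¹ = a := by rw [← hca]; group
      rwa [this])
    have hla : l * (a₀ : G) * l⁻¹ = a := by rw [hle, ← hca]; group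
    have hcl : c * l ∈ Subgroup.centralizer ({(a₀ : G)} : Set G) := by
      rw [mem_centralizer_singleton']
      calc (a₀ : G) * (c * l) = c * (a : G) * c⁻¹ * (c * l) := by rw [hca]
        _ = c * (l * (a₀ : G) * l⁻¹) * c⁻¹ * (c * l) := by rw [hla]
        _ = c * l * a₀ := by group
    obtain ⟨u, hu, m, hm, hum⟩ := dade_centralizer_decomp hD ha₀ hcl
    refine ⟨(⟨l, hl⟩ * ⟨m, hm.1⟩⁻¹, ⟨u, hu⟩), ?_⟩
    have hy : x₀ * u * (l * m⁻¹)⁻¹ = y := by
      calc x₀ * u * (l * m⁻¹)⁻¹ = x₀ * (u * m) * l⁻¹ := by group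
        _ = y := by rw [hum, hc]; group
    have hm2 : m * (a₀ : G) * m⁻¹ = a₀ := by
      rw [← (mem_centralizer_singleton'.mp hm.2)]; simp
    have ha' : l * m⁻¹ * (a₀ : G) * (l * m⁻¹)⁻¹ = a := by
      rw [← hla]
      calc l * m⁻¹ * (a₀ : G) * (l * m⁻¹)⁻¹ = l * m⁻¹ * (m * (a₀ : G) * m⁻¹) * m * l⁻¹ := by
            rw [hm2]; group
        _ = l * (a₀ : G) * l⁻¹ := by group
    have haS : (⟨l, hl⟩ * ⟨m, hm.1⟩⁻¹ : ↥L) * a₀ * (⟨l, hl⟩ * ⟨m, hm.1⟩⁻¹)⁻¹ = a :=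
      Subtype.ext (by simpa using ha')
    subst haS
    refine Subtype.ext (Sigma.ext rfl (heq_of_eq (Prod.ext (Subtype.ext ?_) (by simpa [e] using hy))))
    have hp := (e (⟨l, hl⟩ * ⟨m, hm.1⟩⁻¹, ⟨u, hu⟩)).2
    simp only [e, φ] at hp
    simp only [e]
    push_cast at hp ht ⊢
    rw [← ht, hy] at hp
    exact mul_left_cancel (mul_left_cancel (mul_right_cancel hp))
  have hcard : (Finset.univ.filter (fun t : T => φ t = g)).card = Nat.card L * Nat.card (H (a₀ : G)) := by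
    rw [← Fintype.card_subtype, ← Nat.card_eq_fintype_card, ← Nat.card_prod]
    exact (Nat.card_eq_of_bijective e ⟨hinj, hsurj⟩).symm
  rw [Finset.sum_congr rfl (g := fun _ => ((Nat.card L : ℂ) * Nat.card (H (a₀ : G)))⁻¹),
    Finset.sum_const, hcard, nsmul_eq_mul, Nat.cast_mul, mul_inv_cancel₀, one_mul]
  · exact mul_ne_zero (Nat.cast_ne_zero.mpr Nat.card_pos.ne') (Nat.cast_ne_zero.mpr Nat.card_pos.ne')
  · intro t ht
    obtain ⟨⟨l, u⟩, hlu⟩ := hsurj ⟨t, (Finset.mem_filter.mp ht).2⟩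
    have : t = (e (l, u)).1 := by rw [hlu]
    subst this
    simp only [w, e]
    have hH : H (((l * a₀ * l⁻¹ : ↥L)) : G) = (H (a₀ : G)).map (MulAut.conj (l : G)).toMonoidHom := by
      simpa using dade_H_conj hD ha₀ l.2
    rw [hH, Subgroup.card_map_of_injective (MulAut.conj (l : G)).injective]

/-- Peterfalvi (2.6.b): adjunction of the Dade map with averaging over cosets. -/
theorem classInner_dade_left (hD : DadeHypothesis A L H) {α : ↥L → ℂ} (hα : IsClassFunction ↥L α)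
    (hαA : ∀ x : ↥L, (x : G) ∉ A → α x = 0) {χ : G → ℂ} {ψ : ↥L → ℂ} (hχ : IsClassFunction G χ)
    (hψ : ∀ a : ↥L, (a : G) ∈ A → ψ a = (Nat.card (H a) : ℂ)⁻¹ * ∑ᶠ u ∈ (H a : Set G), χ (a * u)) :
    classInner (dadeIsometry A L H α) χ = classInner α ψ := by
  classical
  have hsum : ∑ g : G, dadeIsometry A L H α g * conj (χ g) =
      (Nat.card G : ℂ) * ((Nat.card L : ℂ)⁻¹ * ∑ x : ↥L, α x * conj (ψ x)) := by
    rw [dade_sum_support hD _ (fun g hg => by rw [dade_apply_eq_zero α hg, zero_mul]),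
      ← Finset.sum_subset (Finset.subset_univ (Finset.univ.filter fun x : ↥L => (x : G) ∈ A))
        (fun x _ hx => by rw [hαA x (by simpa using hx), zero_mul]),
      ← Finset.sum_subtype_eq_sum_filter (f := fun x : ↥L => α x * conj (ψ x)),
      Finset.subtype_univ, Finset.mul_sum, Finset.mul_sum]
    refine Finset.sum_congr rfl fun a _ => ?_
    rw [hψ a.1 a.2]
    have hu : ∑ᶠ u ∈ (H (a.1 : G) : Set G), χ ((a.1 : G) * u) =
        ∑ u : ↥(H (a.1 : G)), χ ((a.1 : G) * u) := by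
      rw [finsum_mem_eq_finite_toFinset_sum _ (Set.toFinite _)]
      exact Finset.sum_subtype _ (by simp) _
    rw [hu, Fintype.sum_prod_type]
    have hχ' : ∀ g h : G, χ (h * g * h⁻¹) = χ g := hχ
    simp only [dade_apply_conj hD hα a.1 a.2 (SetLike.coe_mem _), hχ', Finset.sum_const, Finset.card_univ,
      nsmul_eq_mul, map_mul, map_inv₀, map_natCast, map_sum, ← Finset.mul_sum, Fintype.card_eq_nat_card,
      mul_inv]
    ring
  unfold classInner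
  rw [hsum, ← mul_assoc, inv_mul_cancel₀ (Nat.cast_ne_zero.mpr Nat.card_pos.ne'), one_mul]

/-- Peterfalvi (2.6.a): the Dade map is an isometry. -/
theorem classInner_dade (hD : DadeHypothesis A L H) {α β : ↥L → ℂ} (hα : IsClassFunction ↥L α)
    (hαA : ∀ x : ↥L, (x : G) ∉ A → α x = 0) (hβ : IsClassFunction ↥L β)
    (_hβA : ∀ x : ↥L, (x : G) ∉ A → β x = 0) :
    classInner (dadeIsometry A L H α) (dadeIsometry A L H β) = classInner α β := by
  classical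
  refine classInner_dade_left hD hα hαA (isClassFunction_dade hD hβ) fun a ha => ?_
  have hu : ∀ u ∈ (H (a : G) : Set G), dadeIsometry A L H β ((a : G) * u) = β a := fun u hu => by
    simpa using dade_apply_conj hD hβ a ha hu 1
  rw [finsum_mem_congr rfl hu, finsum_mem_eq_finite_toFinset_sum _ (Set.toFinite _), Finset.sum_const,
    nsmul_eq_mul, Set.Finite.card_toFinset, Fintype.card_eq_nat_card, ← mul_assoc,
    SetLike.coe_sort_coe, inv_mul_cancel₀ (Nat.cast_ne_zero.mpr Nat.card_pos.ne'), one_mul]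

end CfsgLib.OddOrderChar
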