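import Cfsg.Agent.OddOrderChar.DadeIsometry
import Cfsg.Agent.OddOrderChar.Reciprocity
import Cfsg.Agent.Characters.Generalized
import Mathlib.Data.Finset.Powerset

/-!
# The Dade map takes virtual characters to virtual characters (Peterfalvi (2.8))

For a nonempty subset `B` of `A` let `H_B` be the intersection of the `H b` and `M_B = H_B N_L(B)`.
The Dade image of `α` is the alternating sum over `L`-orbits of subsets `B` of the characters induced
from the inflations of `α` to `M_B`.
-/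

set_option autoImplicit false
set_option linter.style.haveILetI false
set_option linter.unusedSectionVars false

namespace CfsgLib.OddOrderChar

open Cfsg
open scoped ComplexConjugate

variable {G : Type*} [Group G]

/-- A class function averaged over a coset of coprime order. -/
theorem sum_coset_coprime [Finite G] (H : Subgroup G) [Fintype H] (g : G)
    (hg : g ∈ Subgroup.normalizer (H : Set G)) (hcop : Nat.Coprime (orderOf g) (Nat.card H))
    (C : Subgroup G) [Fintype C] (hC : ∀ c, c ∈ C ↔ c ∈ H ∧ c * g = g * c)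
    {f : G → ℂ} (hf : IsClassFunction G f) :
    (Nat.card C : ℂ) * ∑ h : H, f ((h : G) * g) = (Nat.card H : ℂ) * ∑ c : C, f ((c : G) * g) := by
  classical
  obtain ⟨k, hk⟩ := exists_pow_extract hcop
  have hext : ∀ c ∈ C, (c * g) ^ k = g := by
    intro c hc
    obtain ⟨hcH, hcg⟩ := (hC c).1 hc
    rw [hcg]
    exact hk G g c hcg.symm (pow_orderOf_eq_one g)
      (congrArg Subtype.val (pow_card_eq_one' (G := H) (x := ⟨c, hcH⟩)))
  have hgn : ∀ y : G, y ∈ H → g * y * g⁻¹ ∈ H :=
    fun y hy => (Subgroup.mem_normalizer_iff.mp hg y).mp hy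
  let Φ : ↥H × ↥C → ↥H := fun p => ⟨(p.1 : G) * p.2 * g * (p.1 : G)⁻¹ * g⁻¹, by
    have h1 : (p.1 : G) * p.2 ∈ H := H.mul_mem p.1.2 ((hC _).1 p.2.2).1
    have h2 : g * (p.1 : G)⁻¹ * g⁻¹ ∈ H := hgn _ (H.inv_mem p.1.2)
    have := H.mul_mem h1 h2
    simpa [mul_assoc] using this⟩
  have hΦg : ∀ p, (Φ p : G) * g = (p.1 : G) * ((p.2 : G) * g) * (p.1 : G)⁻¹ := fun p => by
    simp [Φ, mul_assoc]
  have hfib : ∀ y : ↥H, (Finset.univ.filter fun p => Φ p = y).card = Nat.card C := by
    intro y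
    obtain ⟨x, hx, c, hc, hcg, hxc⟩ := exists_conj_coset_fixed H g hg hcop y y.2
    let p₀ : ↥H × ↥C := (⟨x⁻¹, H.inv_mem hx⟩, ⟨c, (hC c).2 ⟨hc, hcg⟩⟩)
    have hp₀ : Φ p₀ = y := Subtype.ext (mul_right_cancel (b := g) (by
      rw [hΦg, show ((p₀.1 : G)) = x⁻¹ from rfl, show ((p₀.2 : G)) = c from rfl, ← hxc]; group))
    rw [← Fintype.card_subtype, ← Nat.card_eq_fintype_card]
    refine (Nat.card_eq_of_bijective (fun z : ↥C =>
      (⟨(p₀.1 * ⟨z, ((hC z).1 z.2).1⟩, z⁻¹ * p₀.2 * z), ?_⟩ : {p // Φ p = y})) ⟨?_, ?_⟩).symm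
    · rw [← hp₀]
      refine Subtype.ext (mul_right_cancel (b := g) ?_)
      rw [hΦg, hΦg]
      simp only [Subgroup.coe_mul, Subgroup.coe_inv]
      have hzg := ((hC z).1 z.2).2
      calc (p₀.1 : G) * z * ((z : G)⁻¹ * p₀.2 * z * g) * ((p₀.1 : G) * z)⁻¹
          = (p₀.1 : G) * p₀.2 * ((z : G) * g) * (z : G)⁻¹ * (p₀.1 : G)⁻¹ := by group
        _ = (p₀.1 : G) * p₀.2 * (g * (z : G)) * (z : G)⁻¹ * (p₀.1 : G)⁻¹ := by rw [hzg]
        _ = (p₀.1 : G) * ((p₀.2 : G) * g) * (p₀.1 : G)⁻¹ := by group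
    · intro z z' h
      have h' : p₀.1 * (⟨z, ((hC z).1 z.2).1⟩ : H) = p₀.1 * ⟨z', ((hC z').1 z'.2).1⟩ :=
        congrArg (fun p : {p // Φ p = y} => p.1.1) h
      have h'' := mul_left_cancel h'
      exact Subtype.ext (congrArg (fun w : ↥H => (w : G)) h'')
    · rintro ⟨q, hq⟩
      have he : (q.1 : G) * ((q.2 : G) * g) * (q.1 : G)⁻¹ =
          (p₀.1 : G) * ((p₀.2 : G) * g) * (p₀.1 : G)⁻¹ := by rw [← hΦg, ← hΦg, hq, hp₀]
      have he' := congrArg (· ^ k) he
      simp only [conj_pow, hext _ q.2.2, hext _ p₀.2.2] at he'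
      have hz : (p₀.1 : G)⁻¹ * q.1 ∈ C := (hC _).2 ⟨H.mul_mem (H.inv_mem p₀.1.2) q.1.2, by
        calc (p₀.1 : G)⁻¹ * q.1 * g = (p₀.1 : G)⁻¹ * ((q.1 : G) * g * (q.1 : G)⁻¹) * q.1 := by group
          _ = (p₀.1 : G)⁻¹ * ((p₀.1 : G) * g * (p₀.1 : G)⁻¹) * q.1 := by rw [he']
          _ = g * ((p₀.1 : G)⁻¹ * q.1) := by group⟩
      refine ⟨⟨_, hz⟩, Subtype.ext (Prod.ext (Subtype.ext (by simp)) (Subtype.ext ?_))⟩
      simp only [Subgroup.coe_mul, Subgroup.coe_inv]
      refine mul_right_cancel (b := g) ?_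
      have hzg := ((hC _).1 hz).2
      calc ((p₀.1 : G)⁻¹ * q.1)⁻¹ * p₀.2 * ((p₀.1 : G)⁻¹ * q.1) * g
          = (q.1 : G)⁻¹ * p₀.1 * p₀.2 * (((p₀.1 : G)⁻¹ * q.1) * g) := by group
        _ = (q.1 : G)⁻¹ * p₀.1 * p₀.2 * (g * ((p₀.1 : G)⁻¹ * q.1)) := by rw [hzg]
        _ = (q.1 : G)⁻¹ * ((p₀.1 : G) * ((p₀.2 : G) * g) * (p₀.1 : G)⁻¹) * q.1 := by group
        _ = (q.1 : G)⁻¹ * ((q.1 : G) * ((q.2 : G) * g) * (q.1 : G)⁻¹) * q.1 := by rw [he]
        _ = (q.2 : G) * g := by group
  have h1 : ∑ p : ↥H × ↥C, f ((Φ p : G) * g) = (Nat.card C : ℂ) * ∑ h : H, f ((h : G) * g) := by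
    rw [← Finset.sum_fiberwise Finset.univ Φ, Finset.mul_sum]
    refine Finset.sum_congr rfl fun y _ => ?_
    rw [Finset.sum_congr rfl (g := fun _ => f ((y : G) * g))
      (fun p hp => by rw [(Finset.mem_filter.mp hp).2]), Finset.sum_const, hfib, nsmul_eq_mul]
  rw [← h1, Fintype.sum_prod_type, Finset.sum_congr rfl (g := fun _ => ∑ c : C, f ((c : G) * g))
    (fun x _ => Finset.sum_congr rfl fun c _ => ?_), Finset.sum_const, Finset.card_univ, nsmul_eq_mul,
    Fintype.card_eq_nat_card]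
  rw [hΦg]
  exact hf _ _

variable {A : Set G} {L : Subgroup G} {H : G → Subgroup G}

/-- An element of `C_G(a)` of order prime to `|C_L(a)|` lies in `H a`. -/
theorem dade_mem_H_of_coprime [Finite G] (hD : DadeHypothesis A L H) {a c : G} (ha : a ∈ A)
    (hc : c ∈ Subgroup.centralizer ({a} : Set G)) {n : ℕ} (hn : c ^ n = 1)
    (hcop : Nat.Coprime n (Nat.card ↥(L ⊓ Subgroup.centralizer ({a} : Set G)))) : c ∈ H a := by
  have hcard : Nat.card (H a) * Nat.card ↥(L ⊓ Subgroup.centralizer ({a} : Set G)) =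
      Nat.card ↥(Subgroup.centralizer ({a} : Set G)) := by
    rw [← Nat.card_prod]
    refine Nat.card_eq_of_bijective (fun p => ⟨(p.1 : G) * p.2, Subgroup.mul_mem _
      (hD.le_centralizer a ha p.1.2) p.2.2.2⟩) ⟨?_, ?_⟩
    · intro p q hpq
      obtain ⟨h1, h2⟩ := dade_centralizer_decomp_unique hD ha p.1.2 q.1.2 p.2.2 q.2.2
        (congrArg Subtype.val hpq)
      exact Prod.ext (Subtype.ext h1) (Subtype.ext h2)
    · intro c
      obtain ⟨u, hu, l, hl, he⟩ := dade_centralizer_decomp hD ha c.2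
      exact ⟨⟨⟨u, hu⟩, ⟨l, hl⟩⟩, Subtype.ext he⟩
  refine dade_mem_H_of_pow hD ha hc ?_
  have h2 : c ^ Nat.card ↥(Subgroup.centralizer ({a} : Set G)) = 1 :=
    congrArg Subtype.val (pow_card_eq_one' (G := Subgroup.centralizer ({a} : Set G)) (x := ⟨c, hc⟩))
  have h3 := pow_gcd_eq_one.mpr ⟨hn, h2⟩
  rw [← hcard, Nat.Coprime.gcd_mul_right_cancel_right _ hcop.symm] at h3
  obtain ⟨d, hd⟩ := Nat.gcd_dvd_right n (Nat.card (H a))
  rw [hd, pow_mul, h3, one_pow]

/-- The intersection `H_B`. -/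
def dadeInf (H : G → Subgroup G) (B : Finset ↥L) : Subgroup G := ⨅ b ∈ B, H (b : G)

theorem mem_dadeInf {B : Finset ↥L} {u : G} : u ∈ dadeInf H B ↔ ∀ b ∈ B, u ∈ H (b : G) := by
  simp [dadeInf, Subgroup.mem_iInf]

open Classical in
/-- Conjugation of a finite subset of `L`. -/
noncomputable def conjFin (l : ↥L) (B : Finset ↥L) : Finset ↥L := B.image fun b => l * b * l⁻¹

theorem mem_conjFin {l b : ↥L} {B : Finset ↥L} : b ∈ conjFin l B ↔ l⁻¹ * b * l ∈ B := by
  classical
  simp only [conjFin, Finset.mem_image]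
  exact ⟨fun ⟨c, hc, e⟩ => by rw [← e]; simpa [mul_assoc] using hc, fun h => ⟨_, h, by group⟩⟩

theorem conjFin_one (B : Finset ↥L) : conjFin 1 B = B := by ext b; simp [mem_conjFin]

theorem conjFin_mul (l m : ↥L) (B : Finset ↥L) : conjFin (l * m) B = conjFin l (conjFin m B) := by
  ext b; simp [mem_conjFin, mul_assoc]

theorem card_conjFin (l : ↥L) (B : Finset ↥L) : (conjFin l B).card = B.card := by
  classical
  exact Finset.card_image_of_injective _ fun x y h => mul_left_cancel (mul_right_cancel h)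

/-- The stabiliser `N_L(B)`. -/
def finStab (B : Finset ↥L) : Subgroup ↥L where
  carrier := {l | conjFin l B = B}
  one_mem' := conjFin_one B
  mul_mem' {l m} hl hm := by
    show conjFin (l * m) B = B
    rw [conjFin_mul, hm, hl]
  inv_mem' {l} hl := by
    show conjFin l⁻¹ B = B
    conv_lhs => rw [← (show conjFin l B = B from hl)]
    rw [← conjFin_mul, inv_mul_cancel, conjFin_one]

theorem mem_finStab {l : ↥L} {B : Finset ↥L} : l ∈ finStab B ↔ conjFin l B = B := Iff.rfl

/-- `H` of a conjugate subset. -/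
theorem dadeInf_conjFin [Finite G] (hD : DadeHypothesis A L H) {B : Finset ↥L}
    (hB : ∀ b ∈ B, (b : G) ∈ A) (l : ↥L) (u : G) :
    u ∈ dadeInf H (conjFin l B) ↔ (l : G)⁻¹ * u * l ∈ dadeInf H B := by
  classical
  simp only [mem_dadeInf, conjFin, Finset.forall_mem_image, Subgroup.coe_mul, Subgroup.coe_inv]
  refine forall₂_congr fun b hb => ?_
  rw [dade_H_conj hD (hB b hb) l.2, Subgroup.mem_map_equiv]
  simp [MulAut.conj_symm_apply]

theorem dadeInf_normalized [Finite G] (hD : DadeHypothesis A L H) {B : Finset ↥L}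
    (hB : ∀ b ∈ B, (b : G) ∈ A) {l : ↥L} (hl : l ∈ finStab B) (u : G) :
    (l : G)⁻¹ * u * l ∈ dadeInf H B ↔ u ∈ dadeInf H B := by
  rw [← dadeInf_conjFin hD hB l u, mem_finStab.mp hl]

variable [Fintype G]

/-- The number of `x` with `x⁻¹ g x = y`. -/
noncomputable def conjCount (g y : G) : ℂ := (Nat.card {x : G // x⁻¹ * g * x = y} : ℂ)

theorem isClassFunction_conjCount (g : G) : IsClassFunction G (conjCount g) := by
  intro y h
  unfold conjCount
  congr 1
  refine Nat.card_congr ((Equiv.mulRight h).subtypeEquiv fun x => ?_)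
  show x⁻¹ * g * x = h * y * h⁻¹ ↔ (x * h)⁻¹ * g * (x * h) = y
  constructor
  · intro e
    calc (x * h)⁻¹ * g * (x * h) = h⁻¹ * (x⁻¹ * g * x) * h := by group
      _ = y := by rw [e]; group
  · intro e
    calc x⁻¹ * g * x = h * ((x * h)⁻¹ * g * (x * h)) * h⁻¹ := by group
      _ = _ := by rw [e]

/-- The average of `conjCount g` over `H_B l`. -/
noncomputable def cosetAvg [Fintype L] (H : G → Subgroup G) (g : G) (B : Finset ↥L) (l : ↥L) : ℂ :=
  letI := Fintype.ofFinite (dadeInf H B)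
  (Nat.card (dadeInf H B) : ℂ)⁻¹ * ∑ u : dadeInf H B, conjCount g ((u : G) * (l : G))

variable [Fintype L]

theorem cosetAvg_conjFin (hD : DadeHypothesis A L H) {B : Finset ↥L} (hB : ∀ b ∈ B, (b : G) ∈ A)
    (g : G) (l m : ↥L) : cosetAvg H g (conjFin m B) (m * l * m⁻¹) = cosetAvg H g B l := by
  classical
  unfold cosetAvg
  letI := Fintype.ofFinite (dadeInf H B)
  letI := Fintype.ofFinite (dadeInf H (conjFin m B))
  let e : dadeInf H B ≃ dadeInf H (conjFin m B) :=
    { toFun := fun u => ⟨(m : G) * u * (m : G)⁻¹, by rw [dadeInf_conjFin hD hB]; simp [mul_assoc]⟩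
      invFun := fun u => ⟨(m : G)⁻¹ * u * m, (dadeInf_conjFin hD hB m _).mp u.2⟩
      left_inv := fun u => Subtype.ext (by simp [mul_assoc])
      right_inv := fun u => Subtype.ext (by simp [mul_assoc]) }
  rw [Nat.card_congr e]
  congr 1
  refine (Fintype.sum_equiv e _ _ fun u => ?_).symm
  show conjCount g ((u : G) * l) = conjCount g ((m : G) * u * (m : G)⁻¹ * ((m * l * m⁻¹ : ↥L) : G))
  rw [← isClassFunction_conjCount g ((u : G) * l) (m : G)]
  congr 1
  simp only [Subgroup.coe_mul, Subgroup.coe_inv]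
  group

open Classical in
/-- The average over `H_B l` only depends on `B ∪ {l}`. -/
theorem cosetAvg_insert (hD : DadeHypothesis A L H) {B : Finset ↥L} (hB : ∀ b ∈ B, (b : G) ∈ A)
    (hne : B.Nonempty) (g : G) {l : ↥L} (hl : (l : G) ∈ A) (hlB : l ∈ finStab B) :
    cosetAvg H g B l = cosetAvg H g (insert l B) l := by
  unfold cosetAvg
  letI := Fintype.ofFinite (dadeInf H B)
  letI := Fintype.ofFinite (dadeInf H (insert l B))
  obtain ⟨b, hb⟩ := hne
  have hle : ∀ u ∈ dadeInf H B, u ∈ H (b : G) := fun u hu => mem_dadeInf.mp hu b hb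
  have hn : (l : G) ∈ Subgroup.normalizer (dadeInf H B : Set G) := by
    rw [Subgroup.mem_normalizer_iff]
    intro u
    have := dadeInf_normalized hD hB hlB ((l : G) * u * (l : G)⁻¹)
    simpa [mul_assoc] using this
  have hdvd : Nat.card (dadeInf H B) ∣ Nat.card (H (b : G)) := Subgroup.card_dvd_of_le hle
  have hcop : Nat.Coprime (orderOf (l : G)) (Nat.card (dadeInf H B)) :=
    ((dade_orderOf_coprime hD hl (hB b hb)).coprime_dvd_left hdvd).symm
  have hC : ∀ c, c ∈ dadeInf H (insert l B) ↔ c ∈ dadeInf H B ∧ c * (l : G) = (l : G) * c := by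
    intro c
    simp only [mem_dadeInf, Finset.forall_mem_insert]
    refine ⟨fun h => ⟨h.2, (dade_comm hD hl h.1).eq.symm⟩, fun h => ⟨?_, h.1⟩⟩
    exact dade_mem_H_of_coprime hD hl (mem_centralizer_singleton'.mpr h.2.symm)
      (dade_pow_card_H (h.1 b hb)) (hD.coprime _ (hB b hb) _ hl)
  have h := sum_coset_coprime (dadeInf H B) (l : G) hn hcop (dadeInf H (insert l B)) hC
    (isClassFunction_conjCount g)
  have h1 : (Nat.card (dadeInf H B) : ℂ) ≠ 0 := Nat.cast_ne_zero.mpr Nat.card_pos.ne'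
  have h2 : (Nat.card (dadeInf H (insert l B)) : ℂ) ≠ 0 := Nat.cast_ne_zero.mpr Nat.card_pos.ne'
  field_simp
  linear_combination h

/-- The virtual character attached to `B`. -/
theorem exists_gen_term (hD : DadeHypothesis A L H) {α : ↥L → ℂ} (hα : IsGeneralizedCharacter ↥L α)
    {B : Finset ↥L} (hB : ∀ b ∈ B, (b : G) ∈ A) (hne : B.Nonempty) [Fintype (finStab B)] :
    ∃ Φ : G → ℂ, IsGeneralizedCharacter G Φ ∧ ∀ g, Φ g =
      (Nat.card (finStab B) : ℂ)⁻¹ * ∑ l : finStab B, α l * cosetAvg H g B l := by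
  classical
  obtain ⟨b, hb⟩ := hne
  set K := dadeInf H B with hK
  letI := Fintype.ofFinite K
  have hKL : ∀ u ∈ K, u ∈ L → u = 1 := fun u hu =>
    dade_eq_one_of_mem_L hD (hB b hb) (mem_dadeInf.mp hu b hb)
  have hnorm : ∀ (l : finStab B), ∀ u ∈ K, ((l : ↥L) : G) * u * ((l : ↥L) : G)⁻¹ ∈ K := fun l u hu => by
    rw [hK, ← dadeInf_normalized hD hB l.2]; simpa [mul_assoc] using hu
  have huniq : ∀ u u' : G, u ∈ K → u' ∈ K → ∀ l l' : finStab B,
      u * ((l : ↥L) : G) = u' * ((l' : ↥L) : G) → u = u' ∧ l = l' := by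
    intro u u' hu hu' l l' he
    have h1 : u'⁻¹ * u = ((l' : ↥L) : G) * ((l : ↥L) : G)⁻¹ := by
      rw [eq_mul_inv_iff_mul_eq, mul_assoc, he]; group
    have h2 := hKL _ (K.mul_mem (K.inv_mem hu') hu) (h1 ▸ L.mul_mem (l' : ↥L).2 (L.inv_mem (l : ↥L).2))
    rw [inv_mul_eq_one] at h2
    subst h2
    exact ⟨rfl, Subtype.ext (Subtype.ext (mul_left_cancel he))⟩
  let M : Subgroup G :=
    { carrier := {y | ∃ u ∈ K, ∃ l : finStab B, u * ((l : ↥L) : G) = y}
      one_mem' := ⟨1, K.one_mem, 1, by simp⟩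
      mul_mem' := by
        rintro _ _ ⟨u, hu, l, rfl⟩ ⟨u', hu', l', rfl⟩
        refine ⟨_, K.mul_mem hu (hnorm l u' hu'), l * l', ?_⟩
        simp only [Subgroup.coe_mul]; group
      inv_mem' := by
        rintro _ ⟨u, hu, l, rfl⟩
        refine ⟨_, hnorm l⁻¹ u⁻¹ (K.inv_mem hu), l⁻¹, ?_⟩
        simp only [Subgroup.coe_inv]; group }
  have hdec : ∀ y : M, ∃ u ∈ K, ∃ l : finStab B, u * ((l : ↥L) : G) = y := fun y => y.2
  choose p hp q hq using hdec
  let πB : M →* ↥L := MonoidHom.mk' (fun y => (q y : ↥L)) fun y y' => by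
    have e : p (y * y') * ((q (y * y') : ↥L) : G) =
        (p y * (((q y : ↥L) : G) * p y' * ((q y : ↥L) : G)⁻¹)) * (((q y * q y' : finStab B) : ↥L) : G) := by
      rw [hq, Subgroup.coe_mul, ← hq y, ← hq y']
      simp only [Subgroup.coe_mul]
      group
    exact congrArg Subtype.val (huniq _ _ (hp _) (K.mul_mem (hp y) (hnorm _ _ (hp y'))) _ _ e).2
  refine ⟨indFun M (fun y => α (πB y)),
    Characters.isGen_indFun M (Characters.isGen_comp πB hα), fun g => ?_⟩
  let e : K × finStab B ≃ M := Equiv.ofBijective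
    (fun z => ⟨(z.1 : G) * ((z.2 : ↥L) : G), z.1, z.1.2, z.2, rfl⟩) ⟨fun z z' h => by
      obtain ⟨h1, h2⟩ := huniq _ _ z.1.2 z'.1.2 _ _ (congrArg Subtype.val h)
      exact Prod.ext (Subtype.ext h1) h2, fun y => ⟨(⟨p y, hp y⟩, q y), Subtype.ext (hq y)⟩⟩
  letI := Fintype.ofFinite M
  have hcardM : (Nat.card M : ℂ) = Nat.card K * Nat.card (finStab B) := by
    rw [← Nat.cast_mul, ← Nat.card_prod, Nat.card_congr e]
  have hterm : ∀ z, α (πB (e z)) = α z.2 := fun z => by
    obtain ⟨-, h2⟩ := huniq _ _ (hp (e z)) z.1.2 (q (e z)) z.2 ((hq (e z)).trans rfl)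
    exact congrArg (fun l : finStab B => α (l : ↥L)) h2
  have hsum : ∑ x : G, extendByZero M (fun y => α (πB y)) (x⁻¹ * g * x) =
      ∑ y : M, α (πB y) * conjCount g y := by
    have h1 : ∀ x : G, extendByZero M (fun y => α (πB y)) (x⁻¹ * g * x) =
        ∑ y : M, if x⁻¹ * g * x = (y : G) then α (πB y) else 0 := by
      intro x
      by_cases hx : x⁻¹ * g * x ∈ M
      · rw [extendByZero_of_mem M _ hx, Finset.sum_eq_single (⟨_, hx⟩ : M)
          (fun y _ hy => if_neg fun h => hy (Subtype.ext h.symm)) (by simp), if_pos rfl]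
      · rw [extendByZero_of_notMem M _ hx]
        exact (Finset.sum_eq_zero fun y _ => if_neg (fun h => hx (by rw [h]; exact y.2))).symm
    rw [Finset.sum_congr rfl fun x _ => h1 x, Finset.sum_comm]
    refine Finset.sum_congr rfl fun y _ => ?_
    rw [Finset.sum_ite, Finset.sum_const, Finset.sum_const_zero, add_zero, nsmul_eq_mul, mul_comm]
    congr 1
    unfold conjCount
    rw [Nat.card_eq_fintype_card, Fintype.card_subtype]
  unfold indFun
  rw [hsum, hcardM, ← Equiv.sum_comp e (fun y => α (πB y) * conjCount g y), Fintype.sum_prod_type_right,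
    Finset.mul_sum, Finset.mul_sum]
  refine Finset.sum_congr rfl fun l _ => ?_
  simp only [hterm, ← Finset.mul_sum, mul_inv]
  unfold cosetAvg
  have he : ∀ u : K, conjCount g ((e (u, l) : M) : G) = conjCount g ((u : G) * ((l : ↥L) : G)) :=
    fun u => rfl
  rw [Finset.sum_congr rfl fun u _ => he u, @Subsingleton.elim _ _ (Fintype.ofFinite (dadeInf H B)) ‹_›]
  ring

/-- The Dade image as a sum over `A`. -/
theorem dade_eq_sum (hD : DadeHypothesis A L H) {α : ↥L → ℂ} (hα : IsClassFunction ↥L α) (g : G) :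
    letI : DecidablePred (fun a : ↥L => (a : G) ∈ A) := Classical.decPred _
    dadeIsometry A L H α g = (Nat.card L : ℂ)⁻¹ *
      ∑ a ∈ (Finset.univ : Finset ↥L).filter (fun a : ↥L => (a : G) ∈ A),
        α a * cosetAvg H g {a} a := by
  classical
  have hcl := isClassFunction_dade hD hα
  have h1 : ∑ y : G, conjCount g y * dadeIsometry A L H α y =
      (Nat.card G : ℂ) * dadeIsometry A L H α g := by
    have h : ∀ y : G, conjCount g y * dadeIsometry A L H α y =
        ∑ x : G, if x⁻¹ * g * x = y then dadeIsometry A L H α y else 0 := fun y => by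
      rw [Finset.sum_ite, Finset.sum_const, Finset.sum_const_zero, add_zero, nsmul_eq_mul]
      unfold conjCount
      rw [Nat.card_eq_fintype_card, Fintype.card_subtype]
    rw [Finset.sum_congr rfl fun y _ => h y, Finset.sum_comm, Finset.sum_congr rfl
      (g := fun _ => dadeIsometry A L H α g) (fun x _ => ?_), Finset.sum_const, Finset.card_univ,
      nsmul_eq_mul, Fintype.card_eq_nat_card]
    rw [Finset.sum_ite_eq, if_pos (Finset.mem_univ _)]
    simpa using hcl g x⁻¹
  rw [dade_sum_support hD _ (fun y hy => by rw [dade_apply_eq_zero α hy, mul_zero])] at h1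
  have h2 : ∀ a : {a : ↥L // (a : G) ∈ A},
      ((Nat.card L : ℂ) * Nat.card (H (a.1 : G)))⁻¹ * ∑ p : ↥(H (a.1 : G)) × G,
        (conjCount g (p.2 * ((a.1 : G) * p.1) * p.2⁻¹) *
          dadeIsometry A L H α (p.2 * ((a.1 : G) * p.1) * p.2⁻¹)) =
      (Nat.card G : ℂ) * ((Nat.card L : ℂ)⁻¹ * (α a.1 * cosetAvg H g {a.1} a.1)) := by
    intro a
    have hH : ∀ u, u ∈ dadeInf H ({a.1} : Finset ↥L) ↔ u ∈ H (a.1 : G) := fun u => by simp [mem_dadeInf]
    have havg : cosetAvg H g {a.1} a.1 =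
        (Nat.card (H (a.1 : G)) : ℂ)⁻¹ * ∑ u : H (a.1 : G), conjCount g ((a.1 : G) * u) := by
      unfold cosetAvg
      letI := Fintype.ofFinite (dadeInf H ({a.1} : Finset ↥L))
      let e : dadeInf H ({a.1} : Finset ↥L) ≃ H (a.1 : G) :=
        { toFun := fun u => ⟨u.1, (hH _).1 u.2⟩, invFun := fun u => ⟨u.1, (hH _).2 u.2⟩,
          left_inv := fun _ => rfl, right_inv := fun _ => rfl }
      rw [Nat.card_congr e]
      congr 1
      refine Fintype.sum_equiv e _ _ fun u => ?_
      exact congrArg (conjCount g) (dade_comm hD a.2 ((hH _).1 u.2)).eq.symm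
    rw [Fintype.sum_prod_type, havg]
    have h3 : ∀ (u : ↥(H (a.1 : G))) (x : G),
        conjCount g (x * ((a.1 : G) * u) * x⁻¹) * dadeIsometry A L H α (x * ((a.1 : G) * u) * x⁻¹) =
          conjCount g ((a.1 : G) * u) * α a.1 := fun u x => by
      rw [isClassFunction_conjCount g _ x, dade_apply_conj hD hα a.1 a.2 u.2 x]
    simp only [h3, Finset.sum_const, Finset.card_univ, nsmul_eq_mul, Fintype.card_eq_nat_card,
      ← Finset.mul_sum, ← Finset.sum_mul, mul_inv]
    ring
  rw [Finset.sum_congr rfl fun a _ => h2 a, ← Finset.mul_sum] at h1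
  rw [← mul_left_cancel₀ (Nat.cast_ne_zero.mpr Nat.card_pos.ne') h1, ← Finset.mul_sum]
  congr 1
  exact (Finset.sum_subtype (p := fun a : ↥L => (a : G) ∈ A)
    ((Finset.univ : Finset ↥L).filter (fun a : ↥L => (a : G) ∈ A)) (fun a => by simp)
    (fun a : ↥L => α a * cosetAvg H g {a} a)).symm

/-- Peterfalvi (2.8): the Dade image of a virtual character supported on `A` is virtual. -/
theorem isGen_dade (hD : DadeHypothesis A L H) {α : ↥L → ℂ} (hα : IsGeneralizedCharacter ↥L α)
    (hαA : ∀ x : ↥L, (x : G) ∉ A → α x = 0) :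
    IsGeneralizedCharacter G (dadeIsometry A L H α) := by
  classical
  have hcl : IsClassFunction ↥L α := Characters.isClassFunction_of_isGen hα
  set Af := (Finset.univ : Finset ↥L).filter (fun a : ↥L => (a : G) ∈ A) with hAf
  set P := Af.powerset.filter (fun B => B.Nonempty) with hP
  have hPmem : ∀ B, B ∈ P ↔ (∀ b ∈ B, (b : G) ∈ A) ∧ B.Nonempty := by
    intro B
    rw [hP, Finset.mem_filter, Finset.mem_powerset, hAf, Finset.subset_iff]
    simp
  -- the contribution of `B` at `g`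
  let S : Finset ↥L → G → ℂ := fun B g => (Nat.card (finStab B) : ℂ)⁻¹ *
    ∑ l ∈ (Finset.univ : Finset ↥L).filter (fun l => conjFin l B = B), α l * cosetAvg H g B l
  have hSgen : ∀ B ∈ P, IsGeneralizedCharacter G (S B) := by
    intro B hB
    letI := Fintype.ofFinite (finStab B)
    obtain ⟨Φ, hΦ, hval⟩ := exists_gen_term hD hα ((hPmem B).mp hB).1 ((hPmem B).mp hB).2
    have e : S B = Φ := by
      funext g
      rw [hval]
      show (Nat.card (finStab B) : ℂ)⁻¹ * _ = _
      congr 1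
      exact Finset.sum_subtype ((Finset.univ : Finset ↥L).filter (fun l => conjFin l B = B))
        (fun l => by simp [mem_finStab]) _
    exact e ▸ hΦ
  have hPconj : ∀ B ∈ P, ∀ m : ↥L, conjFin m B ∈ P := by
    intro B hB m
    obtain ⟨h1, ⟨b, hb⟩⟩ := (hPmem B).mp hB
    refine (hPmem _).mpr ⟨fun c hc => ?_, ⟨m * b * m⁻¹, mem_conjFin.mpr (by simpa [mul_assoc] using hb)⟩⟩
    have := hD.conj_mem m m.2 _ (h1 _ (mem_conjFin.mp hc))
    simpa [mul_assoc] using this
  have hstab : ∀ B (l m : ↥L), conjFin (m * l * m⁻¹) (conjFin m B) = conjFin m B ↔ conjFin l B = B := by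
    intro B l m
    rw [← conjFin_mul, inv_mul_cancel_right, conjFin_mul]
    refine ⟨fun h => ?_, fun h => by rw [h]⟩
    have := congrArg (conjFin m⁻¹) h
    have hc : ∀ C, conjFin m⁻¹ (conjFin m C) = C := fun C => by rw [← conjFin_mul, inv_mul_cancel, conjFin_one]
    rwa [hc, hc] at this
  have hcardstab : ∀ B (m : ↥L), Nat.card (finStab (conjFin m B)) = Nat.card (finStab B) := fun B m =>
    (Nat.card_congr ((MulAut.conj m).toEquiv.subtypeEquiv fun l => (hstab B l m).symm)).symm
  have hSconj : ∀ B ∈ P, ∀ m : ↥L, S (conjFin m B) = S B := by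
    intro B hB m
    funext g
    simp only [S]
    rw [hcardstab, Finset.sum_filter, Finset.sum_filter, ← Equiv.sum_comp (MulAut.conj m).toEquiv]
    congr 1
    refine Finset.sum_congr rfl fun l _ => ?_
    show (if conjFin (m * l * m⁻¹) (conjFin m B) = conjFin m B
      then α (m * l * m⁻¹) * cosetAvg H g (conjFin m B) (m * l * m⁻¹) else 0) = _
    simp only [hstab]
    rw [hcl l m, cosetAvg_conjFin hD ((hPmem B).mp hB).1 g l m]
  -- the orbit sum is virtual
  let orb : Finset ↥L → Finset (Finset ↥L) := fun B => Finset.univ.image fun m => conjFin m B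
  let w : Finset ↥L → ℂ := fun B => (-1) ^ (B.card + 1)
  let D : G → ℂ := ∑ B ∈ P, ((Nat.card (finStab B) : ℂ) / Nat.card L * w B) • S B
  have hD' : IsGeneralizedCharacter G D := by
    simp only [D]
    rw [← Finset.sum_fiberwise_of_maps_to (t := P.image orb) (g := orb)
      (fun B hB => Finset.mem_image_of_mem orb hB)]
    refine Characters.isGen_sum _ _ fun O hO => ?_
    obtain ⟨B₀, hB₀, rfl⟩ := Finset.mem_image.mp hO
    have hfib : P.filter (fun B => orb B = orb B₀) = orb B₀ := by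
      ext B
      simp only [Finset.mem_filter]
      constructor
      · rintro ⟨-, he⟩
        rw [← he]
        exact Finset.mem_image.mpr ⟨1, Finset.mem_univ _, conjFin_one B⟩
      · intro hB
        obtain ⟨m, -, rfl⟩ := Finset.mem_image.mp hB
        refine ⟨hPconj B₀ hB₀ m, ?_⟩
        ext C
        simp only [orb, Finset.mem_image, Finset.mem_univ, true_and]
        exact ⟨fun ⟨k, hk⟩ => ⟨k * m, by rw [← hk, conjFin_mul]⟩,
          fun ⟨k, hk⟩ => ⟨k * m⁻¹, by rw [← hk, ← conjFin_mul, inv_mul_cancel_right]⟩⟩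
    have hcard : (orb B₀).card * Nat.card (finStab B₀) = Nat.card L := by
      have hf : ∀ C ∈ orb B₀, (Finset.univ.filter fun m => conjFin m B₀ = C).card =
          Nat.card (finStab B₀) := by
        intro C hC
        obtain ⟨m₀, -, rfl⟩ := Finset.mem_image.mp hC
        rw [← Fintype.card_subtype, ← Nat.card_eq_fintype_card]
        refine Nat.card_congr ((Equiv.mulLeft m₀⁻¹).subtypeEquiv fun m => ?_)
        show conjFin m B₀ = conjFin m₀ B₀ ↔ conjFin (m₀⁻¹ * m) B₀ = B₀
        rw [conjFin_mul]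
        refine ⟨fun h => by rw [h, ← conjFin_mul, inv_mul_cancel, conjFin_one], fun h => ?_⟩
        have := congrArg (conjFin m₀) h
        rwa [← conjFin_mul, mul_inv_cancel, conjFin_one] at this
      have h := Finset.card_eq_sum_card_fiberwise (f := fun m => conjFin m B₀)
        (s := (Finset.univ : Finset ↥L)) (t := orb B₀)
        (fun m _ => Finset.mem_image_of_mem _ (Finset.mem_univ m))
      rw [Finset.sum_congr rfl hf, Finset.sum_const, smul_eq_mul, Finset.card_univ,
        Fintype.card_eq_nat_card] at h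
      exact h.symm
    rw [hfib, Finset.sum_congr rfl (g := fun _ => ((Nat.card (finStab B₀) : ℂ) / Nat.card L * w B₀) • S B₀)
      (fun B hB => by
        obtain ⟨m, -, rfl⟩ := Finset.mem_image.mp hB
        simp only [w, hcardstab, hSconj B₀ hB₀ m, card_conjFin]), Finset.sum_const]
    have hone : ((orb B₀).card : ℂ) * ((Nat.card (finStab B₀) : ℂ) / Nat.card L) = 1 := by
      rw [← mul_div_assoc, ← Nat.cast_mul, hcard, div_self (Nat.cast_ne_zero.mpr Nat.card_pos.ne')]
    rw [← Nat.cast_smul_eq_nsmul ℂ, smul_smul, ← mul_assoc, hone, one_mul]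
    have := Characters.isGen_zsmul (hSgen B₀ hB₀) ((-1) ^ (B₀.card + 1))
    simpa [w] using this
  suffices hEq : dadeIsometry A L H α = D by rw [hEq]; exact hD'
  funext g
  have hswap : D g = (Nat.card L : ℂ)⁻¹ * ∑ l : ↥L, α l *
      ∑ B ∈ P.filter (fun B => conjFin l B = B), w B * cosetAvg H g B l := by
    simp only [D, Finset.sum_apply, Pi.smul_apply, smul_eq_mul, S]
    rw [Finset.mul_sum]
    simp only [Finset.mul_sum, Finset.sum_filter]
    rw [Finset.sum_comm]
    refine Finset.sum_congr rfl fun l _ => ?_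
    refine Finset.sum_congr rfl fun B _ => ?_
    have : (Nat.card (finStab B) : ℂ) ≠ 0 := Nat.cast_ne_zero.mpr Nat.card_pos.ne'
    split_ifs
    · field_simp
    · simp
  rw [hswap, dade_eq_sum hD hcl g]
  congr 1
  rw [← hAf, ← Finset.sum_subset (Finset.subset_univ Af) (fun l _ hl => by
    rw [hαA l (by simpa [hAf] using hl), zero_mul])]
  refine Finset.sum_congr rfl fun l hl => ?_
  have hlA : (l : G) ∈ A := (Finset.mem_filter.mp hl).2
  congr 1
  have hsingle : conjFin l ({l} : Finset ↥L) = {l} := by ext b; simp [mem_conjFin, inv_mul_eq_iff_eq_mul, mul_assoc]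
  set Q := P.filter (fun B => conjFin l B = B) with hQ
  have hQ1 : ({l} : Finset ↥L) ∈ Q :=
    Finset.mem_filter.mpr ⟨(hPmem _).mpr ⟨by simpa using hlA, Finset.singleton_nonempty l⟩, hsingle⟩
  rw [← Finset.add_sum_erase Q _ hQ1]
  have hzero : ∑ B ∈ Q.erase {l}, w B * cosetAvg H g B l = 0 := by
    let tog : Finset ↥L → Finset ↥L := fun B => if l ∈ B then B.erase l else insert l B
    have hfix : ∀ b : ↥L, l⁻¹ * b * l = l ↔ b = l := fun b =>
      ⟨fun h => by
        calc b = l * (l⁻¹ * b * l) * l⁻¹ := by group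
          _ = l := by rw [h]; group, fun h => by rw [h]; group⟩
    have hmem : ∀ B, B ∈ Q.erase {l} ↔
        B ≠ {l} ∧ (∀ b ∈ B, (b : G) ∈ A) ∧ B.Nonempty ∧ conjFin l B = B := by
      intro B
      simp [Finset.mem_erase, hQ, Finset.mem_filter, hPmem, and_assoc]
    have htog : ∀ B ∈ Q.erase {l}, tog B ∈ Q.erase {l} := by
      intro B hB
      obtain ⟨h1, h2, h3, h4⟩ := (hmem B).mp hB
      have h4' : ∀ b, l⁻¹ * b * l ∈ B ↔ b ∈ B := fun b => by rw [← mem_conjFin, h4]
      simp only [tog]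
      split_ifs with hlB
      · rw [hmem]
        refine ⟨fun e => ?_, fun b hb => h2 b (Finset.mem_of_mem_erase hb), ?_, ?_⟩
        · have := Finset.mem_singleton_self l
          rw [← e] at this; exact Finset.notMem_erase l B this
        · rw [Finset.nonempty_iff_ne_empty]
          intro e
          rw [Finset.erase_eq_empty_iff] at e
          rcases e with e | e
          · exact h3.ne_empty e
          · exact h1 e
        · ext b
          rw [mem_conjFin, Finset.mem_erase, Finset.mem_erase, ne_eq, hfix, h4']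
      · rw [hmem]
        refine ⟨fun e => ?_, ?_, Finset.insert_nonempty _ _, ?_⟩
        · obtain ⟨c, hc⟩ := h3
          have : c ∈ ({l} : Finset ↥L) := e ▸ Finset.mem_insert_of_mem hc
          exact hlB (Finset.mem_singleton.mp this ▸ hc)
        · exact fun b hb => (Finset.mem_insert.mp hb).elim (fun e => e ▸ hlA) (h2 b)
        · ext b
          rw [mem_conjFin, Finset.mem_insert, Finset.mem_insert, hfix, h4']
    refine Finset.sum_involution (fun B _ => tog B) ?_ ?_ (fun B hB => htog B hB) ?_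
    · intro B hB
      obtain ⟨-, h2, h3, h4⟩ := (hmem B).mp hB
      obtain ⟨-, t2, t3, t4⟩ := (hmem _).mp (htog B hB)
      rw [cosetAvg_insert hD h2 h3 g hlA h4, cosetAvg_insert hD t2 t3 g hlA t4]
      have he : insert l (tog B) = insert l B := by
        simp only [tog]
        split_ifs with hlB
        · rw [Finset.insert_erase hlB, Finset.insert_eq_of_mem hlB]
        · rw [Finset.insert_idem]
      rw [he]
      have hw : w B + w (tog B) = 0 := by
        simp only [w, tog]
        split_ifs with hlB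
        · rw [← Finset.card_erase_add_one hlB]; ring
        · rw [Finset.card_insert_of_notMem hlB]; ring
      rw [← add_mul, hw, zero_mul]
    · intro B _ _
      simp only [tog]
      split_ifs with hlB
      · exact fun e => absurd hlB (Finset.erase_eq_self.mp e)
      · exact fun e => hlB (Finset.insert_eq_self.mp e)
    · intro B _
      simp only [tog]
      split_ifs with hlB h h
      · exact absurd h (Finset.notMem_erase l B)
      · exact Finset.insert_erase hlB
      · exact Finset.erase_insert hlB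
      · exact absurd (Finset.mem_insert_self l B) h
  rw [hzero, add_zero]
  simp [w]

end CfsgLib.OddOrderChar
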