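import Cfsg.Agent.Coherence.Induced
import Cfsg.Agent.OddOrderChar.FixedChars
import Cfsg.Agent.Characters.Linear

/-!
# Characters induced from a Frobenius kernel

If every element commuting with a non-identity element of the normal subgroup `N` lies in `N`,
induction sends non-principal irreducible characters of `N` to irreducible characters.
-/

set_option autoImplicit false
set_option linter.style.haveILetI false
set_option linter.unusedSectionVars false

namespace CfsgLib.OddOrderChar

open CfsgLib.Characters CfsgLib.Coherence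

variable {G : Type*} [Group G] [Fintype G] (N : Subgroup G) [hN : N.Normal]

/-- An element outside a Frobenius kernel fixes only the principal character of the kernel. -/
theorem frobenius_fixed_irr (hC : ∀ n ∈ N, n ≠ 1 → Subgroup.centralizer ({n} : Set G) ≤ N) {g : G}
    (hg : g ∉ N) {θ : N → ℂ} (hθ : Cfsg.IsIrrCharacter N θ) (hfix : conjBy N θ g = θ) :
    θ = fun _ => 1 := by
  classical
  have h := RealChars.card_fixed_eq (fun k => (MulAut.conjNormal (H := N) g : N ≃* N) k)
    (fun {y z} h => (MulAut.conjNormal (H := N) g : N ≃* N).toMonoidHom.map_isConj h)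
    (fun χ hχ => by
      haveI : Fintype N := Fintype.ofFinite _
      exact isIrrCharacter_comp_equiv (G := N) (H := N) (MulAut.conjNormal (H := N) g : N ≃* N) hχ)
  have h1 : Nat.card {C : ConjClasses N // ∀ y, ConjClasses.mk y = C →
      IsConj ((MulAut.conjNormal (H := N) g : N ≃* N) y) y} = 1 := by
    rw [Nat.card_eq_one_iff_exists]
    refine ⟨⟨ConjClasses.mk 1, fun y hy => ?_⟩, fun C => Subtype.ext ?_⟩
    · rw [isConj_one_left.mp (ConjClasses.mk_eq_mk_iff_isConj.mp hy), map_one]
    · obtain ⟨C, hC'⟩ := C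
      obtain ⟨n, rfl⟩ := ConjClasses.mk_surjective C
      show ConjClasses.mk n = ConjClasses.mk 1
      by_contra hne
      have hn1 : (n : G) ≠ 1 := fun h => hne (by rw [show n = 1 from Subtype.ext h])
      obtain ⟨m, hm⟩ := isConj_iff.mp (hC' n rfl)
      have hm' : (m : G) * (g * n * g⁻¹) * (m : G)⁻¹ = n := by
        have := congrArg Subtype.val hm
        simpa [MulAut.conjNormal_apply] using this
      have hmg : (m : G) * g ∈ N := by
        refine hC n n.2 hn1 (Subgroup.mem_centralizer_iff.mpr fun y hy => ?_)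
        rw [Set.mem_singleton_iff.mp hy]
        calc (n : G) * ((m : G) * g) = (m : G) * (g * n * g⁻¹) * (m : G)⁻¹ * ((m : G) * g) := by rw [hm']
          _ = (m : G) * g * n := by group
      exact hg (by simpa using N.mul_mem (N.inv_mem m.2) hmg)
  rw [h1, Nat.card_eq_one_iff_exists] at h
  obtain ⟨χ₀, hχ₀⟩ := h
  have hθf : θ ∘ (fun k => (MulAut.conjNormal (H := N) g : N ≃* N) k) = θ :=
    (conjBy_eq_comp N θ g).symm.trans hfix
  exact congrArg (fun x => ((x.1 : Cfsg.IrrCharacter N) : N → ℂ))
    ((hχ₀ ⟨⟨θ, hθ⟩, hθf⟩).trans (hχ₀ ⟨⟨fun _ => 1, isIrr_one⟩, rfl⟩).symm)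

/-- Induction from a Frobenius kernel preserves irreducibility off the principal character. -/
theorem frobenius_isIrr_ind (hC : ∀ n ∈ N, n ≠ 1 → Subgroup.centralizer ({n} : Set G) ≤ N)
    {θ : N → ℂ} (hθ : Cfsg.IsIrrCharacter N θ) (hne : θ ≠ fun _ => 1) :
    Cfsg.IsIrrCharacter G (Cfsg.indFun N θ) := by
  classical
  haveI : Fintype N := Fintype.ofFinite _
  refine isIrr_of_classInner_self (OddOrderChar.isCharacter_indFun N (isCharacter_of_isIrr hθ)) ?_
  rw [ci_ind_self N hθ]
  have hiff : ∀ g : G, conjBy N θ g = θ ↔ g ∈ N := by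
    refine fun g => ⟨fun h => ?_, fun hg => funext fun k => ?_⟩
    · by_contra hg
      exact hne (frobenius_fixed_irr N hC hg hθ h)
    · exact (congrArg θ (Subtype.ext (by simp)) : θ _ = θ (⟨g, hg⟩ * k * ⟨g, hg⟩⁻¹)).trans
        (isClassFunction_of_isIrr hθ k ⟨g, hg⟩)
  have hst : stabCard N θ = Nat.card N := Nat.card_congr (Equiv.subtypeEquivRight hiff)
  rw [hst, div_self (Nat.cast_ne_zero.mpr Nat.card_pos.ne')]

/-- The characters induced from non-principal characters of a Frobenius kernel are those
irreducible characters nontrivial on it. -/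
theorem frobenius_inducedIrrAbove_eq (hC : ∀ n ∈ N, n ≠ 1 → Subgroup.centralizer ({n} : Set G) ≤ N) :
    Cfsg.inducedIrrAbove N ⊥ = {χ | Cfsg.IsIrrCharacter G χ ∧ ∃ n ∈ N, χ n ≠ χ 1} := by
  classical
  haveI : Fintype N := Fintype.ofFinite _
  ext χ
  constructor
  · rintro ⟨θ, hθ, hne, -, rfl⟩
    have hirr := frobenius_isIrr_ind N hC hθ hne
    refine ⟨hirr, ?_⟩
    by_contra hall
    push Not at hall
    apply hne
    have h1 : Cfsg.classInner θ (fun n : N => Cfsg.indFun N θ n) = 1 := by
      rw [← classInner_indFun_left N θ (isClassFunction_ind N θ), classInner_isIrr_self hirr]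
    rw [show (fun n : N => Cfsg.indFun N θ n) = Cfsg.indFun N θ 1 • (fun _ : N => (1 : ℂ)) from
      funext fun n => by rw [hall n n.2]; simp, classInner_smul_right] at h1
    by_contra hne'
    rw [classInner_isIrr_ne hθ isIrr_one hne', mul_zero] at h1
    exact zero_ne_one h1
  · rintro ⟨hχ, n, hn, hne⟩
    have hres : Cfsg.IsCharacter N (fun k : N => χ k) := isCharacter_restrict N (isCharacter_of_isIrr hχ)
    obtain ⟨θ, hθ, hne1, hc⟩ : ∃ θ : N → ℂ, Cfsg.IsIrrCharacter N θ ∧ θ ≠ (fun _ => 1) ∧
        Cfsg.classInner (fun k : N => χ k) θ ≠ 0 := by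
      by_contra hall
      push Not at hall
      apply hne
      have hexp := character_expansion hres
      rw [Finset.sum_eq_single_of_mem (⟨fun _ => 1, isIrr_one⟩ : Cfsg.IrrCharacter N) (Finset.mem_univ _)
        (fun φ _ hφ => by
          rw [hall φ φ.2 (fun e => hφ (Subtype.ext e)), zero_smul])] at hexp
      have e1 := congrFun hexp ⟨n, hn⟩
      have e2 := congrFun hexp 1
      simp only [Pi.smul_apply, smul_eq_mul, mul_one] at e1 e2
      exact e1.trans (e2.symm.trans (congrArg χ N.coe_one))
    refine ⟨θ, hθ, hne1, fun a ha => by rw [show a = 1 from Subtype.ext (Subgroup.mem_bot.mp ha)], ?_⟩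
    by_contra hne2
    refine hc ?_
    rw [← classInner_indFun_right N θ (isClassFunction_of_isIrr hχ),
      classInner_isIrr_ne hχ (frobenius_isIrr_ind N hC hθ hne1) hne2]

end CfsgLib.OddOrderChar
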