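import Mathlib.Data.Fintype.Prod
import Mathlib.Data.Int.Basic

/-!
# A finite check used for Peterfalvi (3.2)

The possible traces, on the seven elements `a, b₁, b₂, b₃, c₁, c₂, c₃` of the configuration
`{a,b₁,c₁}, {a,b₂,c₂}, {a,b₃,c₃}, {b₁,b₂,b₃}`, of four members of a second row.
-/

set_option autoImplicit false

namespace CfsgLib.OddOrderChar.TableCheck

/-- All sign vectors of length `n`. -/
def signVectors : ℕ → List (List Int)
  | 0 => [[]]
  | n + 1 => (signVectors n).flatMap fun l => [(-1) :: l, 0 :: l, 1 :: l]

/-- Number of non-zero entries. -/
def support : List Int → Nat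
  | [] => 0
  | x :: l => (if x = 0 then 0 else 1) + support l

/-- Pointwise product. -/
def prodVec (s t : List Int) : List Int := List.zipWith (· * ·) s t

/-- The inner product conditions against the four triples, for target `k`. -/
def okTarget (k : Nat) : List Int → Bool
  | [a, b₁, b₂, b₃, c₁, c₂, c₃] =>
      decide (support [a, b₁, b₂, b₃, c₁, c₂, c₃] ≤ 3) &&
      decide (a + b₁ + c₁ = if k = 0 then 1 else 0) &&
      decide (a + b₂ + c₂ = if k = 1 then 1 else 0) &&
      decide (a + b₃ + c₃ = if k = 2 then 1 else 0) &&
      decide (b₁ + b₂ + b₃ = if k = 3 then 1 else 0)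
  | _ => false

/-- Compatibility of two members of one row. -/
def compat (s t : List Int) : Bool :=
  (prodVec s t).all (fun x => decide (x ≠ -1)) &&
    (decide ((prodVec s t).sum = 1) ||
      (decide ((prodVec s t).sum = 0) && decide (support s < 3) && decide (support t < 3)))

/-- The candidates for target `k`. -/
def candidates (k : Nat) : List (List Int) := (signVectors 7).filter (okTarget k)

theorem no_quadruple : ((candidates 3).all fun q => (candidates 0).all fun x => !compat q x ||
    (candidates 1).all fun y => !(compat q y && compat x y) ||
      (candidates 2).all fun z => !(compat q z && compat x z && compat y z)) = true := by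
  decide +kernel

theorem mem_signVectors : ∀ (l : List Int), (∀ x ∈ l, x = -1 ∨ x = 0 ∨ x = 1) →
    l ∈ signVectors l.length
  | [], _ => List.mem_singleton.mpr rfl
  | x :: l, h => by
      refine List.mem_flatMap.mpr ⟨l, mem_signVectors l fun y hy => h y (List.mem_cons_of_mem _ hy), ?_⟩
      rcases h x List.mem_cons_self with rfl | rfl | rfl <;> simp

/-- Usable form. -/
theorem not_compat (q x y z : List Int) (hq : q ∈ candidates 3) (hx : x ∈ candidates 0)
    (hy : y ∈ candidates 1) (hz : z ∈ candidates 2) (h1 : compat q x = true) (h2 : compat q y = true)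
    (h3 : compat x y = true) (h4 : compat q z = true) (h5 : compat x z = true)
    (h6 : compat y z = true) : False := by
  have h := no_quadruple
  simp only [List.all_eq_true, Bool.or_eq_true, Bool.not_eq_true'] at h
  rcases h q hq x hx with h | h
  · rw [h1] at h; simp at h
  rcases h y hy with h | h
  · simp [h2, h3] at h
  have := h z hz
  simp [h4, h5, h6] at this

end CfsgLib.OddOrderChar.TableCheck
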